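import Mathlib
/-! Orbit matching for finite group actions with equal fixed-point counts. -/
set_option autoImplicit false
namespace CfsgLib.Bis
open MulAction
open scoped Classical

section Core
variable {M : Type*} [Group M] [Finite M]
variable {Y₁ Y₂ : Type*} [MulAction M Y₁] [MulAction M Y₂]

theorem exists_orbit_map {y₁ : Y₁} {y₂ : Y₂} (h : stabilizer M y₁ = stabilizer M y₂) :
    ∃ g : Y₁ → Y₂, ∀ m : M, g (m • y₁) = m • y₂ := by
  refine ⟨fun y => if h' : ∃ m : M, m • y₁ = y then h'.choose • y₂ else y₂, fun m => ?_⟩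
  have h' : ∃ m' : M, m' • y₁ = m • y₁ := ⟨m, rfl⟩
  simp only [dif_pos h']
  have e := h'.choose_spec
  have this : m⁻¹ * h'.choose ∈ stabilizer M y₁ := by
    rw [mem_stabilizer_iff, mul_smul, e, inv_smul_smul]
  rw [h, mem_stabilizer_iff, mul_smul, inv_smul_eq_iff] at this
  exact this

/-- fixed points of `D` in a finset -/
noncomputable def mark {Y : Type*} [MulAction M Y] (A : Finset Y) (D : Subgroup M) : ℕ :=
  (A.filter fun y => ∀ d ∈ D, d • y = y).card

theorem core [Nonempty Y₂] (𝒟 : Set (Subgroup M)) (h𝒟 : ∀ D D' : Subgroup M, D ≤ D' → D ∈ 𝒟 → D' ∈ 𝒟)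
    (A : Finset Y₁) (B : Finset Y₂) (hA : ∀ m : M, ∀ y ∈ A, m • y ∈ A) (hB : ∀ m : M, ∀ y ∈ B, m • y ∈ B)
    (hm : ∀ D ∈ 𝒟, mark A D = mark B D) :
    ∃ (f : Y₁ → Y₂) (A₀ : Finset Y₁) (B₀ : Finset Y₂), A₀ ⊆ A ∧ B₀ ⊆ B ∧ Set.BijOn f A₀ B₀ ∧
      (∀ m : M, ∀ y ∈ A₀, f (m • y) = m • f y) ∧
      (∀ y ∈ A \ A₀, stabilizer M y ∉ 𝒟) ∧ (∀ y ∈ B \ B₀, stabilizer M y ∉ 𝒟) ∧
      (∀ m : M, ∀ y ∈ A₀, m • y ∈ A₀) ∧ (∀ m : M, ∀ y ∈ B₀, m • y ∈ B₀) := by
  induction' hn : A.card + B.card using Nat.strong_induction_on with n ih generalizing A B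
  by_cases hex : (∃ y ∈ A, stabilizer M y ∈ 𝒟) ∨ (∃ y ∈ B, stabilizer M y ∈ 𝒟)
  swap
  · push Not at hex
    refine ⟨fun _ => Classical.arbitrary _, ∅, ∅, by simp, by simp, by simp [Set.BijOn, Set.MapsTo, Set.SurjOn, Set.InjOn], by simp, ?_, ?_, by simp, by simp⟩
    · intro y hy; exact hex.1 y (by simpa using hy)
    · intro y hy; exact hex.2 y (by simpa using hy)
  -- the family of stabilizers in 𝒟
  obtain ⟨D, hD, hmax⟩ := Set.exists_max_image
    ({D : Subgroup M | D ∈ 𝒟 ∧ ((∃ y ∈ A, stabilizer M y = D) ∨ (∃ y ∈ B, stabilizer M y = D))})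
    (fun D => Nat.card D) (Set.toFinite _) (by
      rcases hex with ⟨y, hy, h⟩ | ⟨y, hy, h⟩
      · exact ⟨_, h, Or.inl ⟨y, hy, rfl⟩⟩
      · exact ⟨_, h, Or.inr ⟨y, hy, rfl⟩⟩)
  have hD𝒟 := hD.1
  have hpos : 0 < mark A D := by
    rcases hD.2 with ⟨y, hy, rfl⟩ | ⟨y, hy, rfl⟩
    · exact Finset.card_pos.mpr ⟨y, by simp only [Finset.mem_filter]; exact ⟨hy, fun d hd => hd⟩⟩
    · rw [hm _ hD𝒟]
      exact Finset.card_pos.mpr ⟨y, by simp only [Finset.mem_filter]; exact ⟨hy, fun d hd => hd⟩⟩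
  have hpos' : 0 < mark B D := by rw [← hm _ hD𝒟]; exact hpos
  obtain ⟨y₁, hy₁⟩ := Finset.card_pos.mp hpos
  obtain ⟨y₂, hy₂⟩ := Finset.card_pos.mp hpos'
  simp only [Finset.mem_filter] at hy₁ hy₂
  have hs₁ : stabilizer M y₁ = D := by
    have hle : D ≤ stabilizer M y₁ := fun d hd => hy₁.2 d hd
    have h𝒟' := h𝒟 _ _ hle hD𝒟
    have := hmax (stabilizer M y₁) ⟨h𝒟', Or.inl ⟨y₁, hy₁.1, rfl⟩⟩
    exact (Subgroup.eq_of_le_of_card_ge hle this).symm
  have hs₂ : stabilizer M y₂ = D := by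
    have hle : D ≤ stabilizer M y₂ := fun d hd => hy₂.2 d hd
    have h𝒟' := h𝒟 _ _ hle hD𝒟
    have := hmax (stabilizer M y₂) ⟨h𝒟', Or.inr ⟨y₂, hy₂.1, rfl⟩⟩
    exact (Subgroup.eq_of_le_of_card_ge hle this).symm
  obtain ⟨g, hg⟩ := exists_orbit_map (hs₁.trans hs₂.symm)
  obtain ⟨g', hg'⟩ := exists_orbit_map (hs₂.trans hs₁.symm)
  -- the orbits
  let O₁ : Finset Y₁ := A.filter (· ∈ orbit M y₁)
  let O₂ : Finset Y₂ := B.filter (· ∈ orbit M y₂)
  have hO₁ : ∀ y, y ∈ O₁ ↔ ∃ m : M, m • y₁ = y := by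
    intro y; simp only [O₁, Finset.mem_filter, mem_orbit_iff]
    constructor
    · exact fun h => h.2
    · rintro ⟨m, rfl⟩; exact ⟨hA m _ hy₁.1, m, rfl⟩
  have hO₂ : ∀ y, y ∈ O₂ ↔ ∃ m : M, m • y₂ = y := by
    intro y; simp only [O₂, Finset.mem_filter, mem_orbit_iff]
    constructor
    · exact fun h => h.2
    · rintro ⟨m, rfl⟩; exact ⟨hB m _ hy₂.1, m, rfl⟩
  have hmO : ∀ D' : Subgroup M, mark O₁ D' = mark O₂ D' := by
    intro D'
    unfold mark
    refine Finset.card_bij' (fun y _ => g y) (fun y _ => g' y) ?_ ?_ ?_ ?_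
    · intro y hy
      simp only [Finset.mem_filter] at hy ⊢
      obtain ⟨m, rfl⟩ := (hO₁ _).1 hy.1
      refine ⟨(hO₂ _).2 ⟨m, (hg m).symm⟩, fun d hd => ?_⟩
      rw [hg m, ← hg (d * m) |>.trans (mul_smul d m y₂), mul_smul, hy.2 d hd, hg m]
    · intro y hy
      simp only [Finset.mem_filter] at hy ⊢
      obtain ⟨m, rfl⟩ := (hO₂ _).1 hy.1
      refine ⟨(hO₁ _).2 ⟨m, (hg' m).symm⟩, fun d hd => ?_⟩
      rw [hg' m, ← hg' (d * m) |>.trans (mul_smul d m y₁), mul_smul, hy.2 d hd, hg' m]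
    · intro y hy
      simp only [Finset.mem_filter] at hy
      obtain ⟨m, rfl⟩ := (hO₁ _).1 hy.1
      rw [hg m, hg' m]
    · intro y hy
      simp only [Finset.mem_filter] at hy
      obtain ⟨m, rfl⟩ := (hO₂ _).1 hy.1
      rw [hg' m, hg m]
  have hsplit₁ : ∀ D' : Subgroup M, mark A D' = mark (A \ O₁) D' + mark O₁ D' := by
    intro D'; unfold mark
    rw [← Finset.card_union_of_disjoint (Finset.disjoint_filter_filter Finset.sdiff_disjoint), ← Finset.filter_union,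
      Finset.sdiff_union_of_subset (Finset.filter_subset _ _)]
  have hsplit₂ : ∀ D' : Subgroup M, mark B D' = mark (B \ O₂) D' + mark O₂ D' := by
    intro D'; unfold mark
    rw [← Finset.card_union_of_disjoint (Finset.disjoint_filter_filter Finset.sdiff_disjoint), ← Finset.filter_union,
      Finset.sdiff_union_of_subset (Finset.filter_subset _ _)]
  have hlt : (A \ O₁).card + (B \ O₂).card < n := by
    have h₁ : (A \ O₁).card < A.card := Finset.card_lt_card (Finset.sdiff_ssubset (Finset.filter_subset _ _)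
      ⟨y₁, (hO₁ _).2 ⟨1, one_smul _ _⟩⟩)
    have h₂ : (B \ O₂).card ≤ B.card := Finset.card_le_card Finset.sdiff_subset
    omega
  have hA' : ∀ m : M, ∀ y ∈ A \ O₁, m • y ∈ A \ O₁ := by
    intro m y hy
    simp only [Finset.mem_sdiff] at hy ⊢
    refine ⟨hA m y hy.1, fun h => hy.2 ?_⟩
    obtain ⟨m', hm'⟩ := (hO₁ _).1 h
    exact (hO₁ _).2 ⟨m⁻¹ * m', by rw [mul_smul, hm', inv_smul_smul]⟩
  have hB' : ∀ m : M, ∀ y ∈ B \ O₂, m • y ∈ B \ O₂ := by
    intro m y hy
    simp only [Finset.mem_sdiff] at hy ⊢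
    refine ⟨hB m y hy.1, fun h => hy.2 ?_⟩
    obtain ⟨m', hm'⟩ := (hO₂ _).1 h
    exact (hO₂ _).2 ⟨m⁻¹ * m', by rw [mul_smul, hm', inv_smul_smul]⟩
  obtain ⟨f, A₀, B₀, hA₀, hB₀, hbij, heq, hres₁, hres₂, hst₁, hst₂⟩ := ih _ hlt (A \ O₁) (B \ O₂) hA' hB' (by
    intro D' hD'
    have h₁ := hsplit₁ D'
    have h₂ := hsplit₂ D'
    have h₃ := hm D' hD'
    have h₄ := hmO D'
    omega) rfl
  have hdis₁ : ∀ y ∈ A₀, y ∉ O₁ := fun y hy => (Finset.mem_sdiff.1 (hA₀ hy)).2
  have hdis₂ : ∀ y ∈ B₀, y ∉ O₂ := fun y hy => (Finset.mem_sdiff.1 (hB₀ hy)).2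
  refine ⟨fun y => if y ∈ O₁ then g y else f y, A₀ ∪ O₁, B₀ ∪ O₂, ?_, ?_, ⟨?_, ?_, ?_⟩, ?_, ?_, ?_, ?_, ?_⟩
  · intro y hy
    rcases Finset.mem_union.1 hy with h | h
    · exact (Finset.mem_sdiff.1 (hA₀ h)).1
    · exact (Finset.mem_filter.1 h).1
  · intro y hy
    rcases Finset.mem_union.1 hy with h | h
    · exact (Finset.mem_sdiff.1 (hB₀ h)).1
    · exact (Finset.mem_filter.1 h).1
  · intro y hy
    have hy' := Finset.mem_coe.1 hy
    rcases Finset.mem_union.1 hy' with h | h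
    · simp only [if_neg (hdis₁ y h)]
      exact Finset.mem_coe.2 (Finset.mem_union_left _ (hbij.mapsTo (Finset.mem_coe.2 h)))
    · simp only [if_pos h]
      obtain ⟨m, rfl⟩ := (hO₁ _).1 h
      rw [hg m]
      exact Finset.mem_coe.2 (Finset.mem_union_right _ ((hO₂ _).2 ⟨m, rfl⟩))
  · intro y hy y' hy' he
    have hy0 := Finset.mem_coe.1 hy
    have hy0' := Finset.mem_coe.1 hy'
    simp only at he
    have hfO : ∀ z ∈ A₀, f z ∉ O₂ := fun z hz => hdis₂ _ (hbij.mapsTo (Finset.mem_coe.2 hz))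
    have hgO : ∀ z ∈ O₁, g z ∈ O₂ := by
      intro z hz
      obtain ⟨m, rfl⟩ := (hO₁ _).1 hz
      rw [hg m]; exact (hO₂ _).2 ⟨m, rfl⟩
    rcases Finset.mem_union.1 hy0 with h | h <;> rcases Finset.mem_union.1 hy0' with h' | h'
    · rw [if_neg (hdis₁ y h), if_neg (hdis₁ y' h')] at he
      exact hbij.injOn (Finset.mem_coe.2 h) (Finset.mem_coe.2 h') he
    · rw [if_neg (hdis₁ y h), if_pos h'] at he
      exact absurd (he ▸ hgO y' h') (hfO y h)
    · rw [if_pos h, if_neg (hdis₁ y' h')] at he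
      exact absurd (he ▸ hgO y h) (hfO y' h')
    · rw [if_pos h, if_pos h'] at he
      obtain ⟨m, rfl⟩ := (hO₁ _).1 h
      obtain ⟨m', rfl⟩ := (hO₁ _).1 h'
      have := congrArg g' he
      rwa [hg m, hg m', hg' m, hg' m'] at this
  · intro y hy
    have hy0 := Finset.mem_coe.1 hy
    rcases Finset.mem_union.1 hy0 with h | h
    · obtain ⟨x, hx, rfl⟩ := hbij.surjOn (Finset.mem_coe.2 h)
      have hx0 := Finset.mem_coe.1 hx
      exact ⟨x, Finset.mem_coe.2 (Finset.mem_union_left _ hx0), by simp only [if_neg (hdis₁ x hx0)]⟩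
    · obtain ⟨m, rfl⟩ := (hO₂ _).1 h
      have hmem : m • y₁ ∈ O₁ := (hO₁ _).2 ⟨m, rfl⟩
      exact ⟨m • y₁, Finset.mem_coe.2 (Finset.mem_union_right _ hmem), by simp only [if_pos hmem, hg m]⟩
  · intro m y hy
    rcases Finset.mem_union.1 hy with h | h
    · have h' : m • y ∉ O₁ := by
        intro hc
        obtain ⟨m', hm'⟩ := (hO₁ _).1 hc
        exact hdis₁ y h ((hO₁ _).2 ⟨m⁻¹ * m', by rw [mul_smul, hm', inv_smul_smul]⟩)
      simp only [if_neg (hdis₁ y h), if_neg h']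
      exact heq m y h
    · obtain ⟨m', rfl⟩ := (hO₁ _).1 h
      have h' : m • m' • y₁ ∈ O₁ := (hO₁ _).2 ⟨m * m', mul_smul _ _ _⟩
      simp only [if_pos h', if_pos h]
      rw [← mul_smul, hg, hg m', mul_smul]
  · intro y hy
    simp only [Finset.mem_sdiff, Finset.mem_union, not_or] at hy
    exact hres₁ y (by simp only [Finset.mem_sdiff]; exact ⟨⟨hy.1, hy.2.2⟩, hy.2.1⟩)
  · intro y hy
    simp only [Finset.mem_sdiff, Finset.mem_union, not_or] at hy
    exact hres₂ y (by simp only [Finset.mem_sdiff]; exact ⟨⟨hy.1, hy.2.2⟩, hy.2.1⟩)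
  · intro m y hy
    rcases Finset.mem_union.1 hy with h | h
    · exact Finset.mem_union_left _ (hst₁ m y h)
    · obtain ⟨m', rfl⟩ := (hO₁ _).1 h
      exact Finset.mem_union_right _ ((hO₁ _).2 ⟨m * m', mul_smul _ _ _⟩)
  · intro m y hy
    rcases Finset.mem_union.1 hy with h | h
    · exact Finset.mem_union_left _ (hst₂ m y h)
    · obtain ⟨m', rfl⟩ := (hO₂ _).1 h
      exact Finset.mem_union_right _ ((hO₂ _).2 ⟨m * m', mul_smul _ _ _⟩)

/-- all stabilizers equal: orbit index divides the size -/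
theorem index_dvd_card {Y : Type*} [MulAction M Y] (E : Subgroup M) (Z : Finset Y)
    (hZ : ∀ m : M, ∀ y ∈ Z, m • y ∈ Z) (hE : ∀ y ∈ Z, stabilizer M y = E) : E.index ∣ Z.card := by
  induction' hn : Z.card using Nat.strong_induction_on with n ih generalizing Z
  rcases Z.eq_empty_or_nonempty with rfl | ⟨y, hy⟩
  · simp at hn; simp [← hn]
  let O : Finset Y := Z.filter (· ∈ orbit M y)
  have hcoe : (O : Set Y) = orbit M y := by
    ext z; simp only [O, Finset.coe_filter, Set.mem_setOf_eq]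
    constructor
    · exact fun h => h.2
    · rintro ⟨m, rfl⟩; exact ⟨hZ m _ hy, m, rfl⟩
  have hc : O.card = E.index := by
    rw [← hE y hy, index_stabilizer, ← hcoe, Set.ncard_coe_finset]
  have hsplit : Z.card = (Z \ O).card + O.card := (Finset.card_sdiff_add_card_eq_card (Finset.filter_subset _ _)).symm
  have hlt : (Z \ O).card < n := by
    have : 0 < O.card := Finset.card_pos.mpr ⟨y, Finset.mem_filter.2 ⟨hy, mem_orbit_self y⟩⟩
    omega
  have := ih _ hlt (Z \ O) (by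
    intro m z hz
    simp only [O, Finset.mem_sdiff, Finset.mem_filter, not_and] at hz ⊢
    refine ⟨hZ m z hz.1, fun _ hc => hz.2 hz.1 ?_⟩
    obtain ⟨m', hm'⟩ := mem_orbit_iff.1 hc
    exact mem_orbit_iff.2 ⟨m⁻¹ * m', by rw [mul_smul, hm', inv_smul_smul]⟩) (fun z hz => hE z (Finset.mem_sdiff.1 hz).1) rfl
  rw [← hn, hsplit, hc]
  exact Dvd.dvd.add this dvd_rfl

end Core

section Twist
variable {M K Y : Type*} [Group M] [Group K] [MulAction K Y]

/-- `Y` with `M` acting through `Θ`. -/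
def Tw (_Θ : M →* K) (Y : Type*) : Type _ := Y

instance (Θ : M →* K) : MulAction M (Tw Θ Y) := MulAction.compHom Y Θ
instance (Θ : M →* K) [Fintype Y] : Fintype (Tw Θ Y) := ‹Fintype Y›
instance (Θ : M →* K) [Nonempty Y] : Nonempty (Tw Θ Y) := ‹Nonempty Y›

theorem tw_smul (Θ : M →* K) (m : M) (y : Tw Θ Y) : m • y = (Θ m • (show Y from y) : Y) := rfl

/-- fixed-point count in a `K`-set -/
noncomputable def fx (D : Subgroup K) : ℕ :=
  Nat.card {y : Y // ∀ d ∈ D, d • y = y}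

variable [Fintype Y] [Finite M]

theorem fx_eq_card (D : Subgroup K) (Z : Finset Y) (hZ : ∀ y, y ∈ Z ↔ ∀ d ∈ D, d • y = y) : fx (Y := Y) D = Z.card := by
  unfold fx
  rw [Nat.card_eq_fintype_card, ← Fintype.card_coe]
  exact Fintype.card_congr (Equiv.subtypeEquivRight (fun y => (hZ y).symm))

theorem mark_tw (Θ : M →* K) (E D : Subgroup M) (hED : E ≤ D) (A : Finset (Tw Θ Y))
    (hA : ∀ y : Y, (show Tw Θ Y from y) ∈ A ↔ ∀ d : K, d ∈ E.map Θ → d • y = y) :
    mark A D = fx (Y := Y) (D.map Θ) := by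
  symm
  let Z : Finset (Tw Θ Y) := A.filter fun y => ∀ d ∈ D, d • y = y
  refine fx_eq_card (D.map Θ) (show Finset Y from Z) ?_
  intro y
  refine Finset.mem_filter.trans ?_
  constructor
  · rintro ⟨-, hz⟩
    rintro _ ⟨d, hd, rfl⟩
    exact hz d hd
  · intro h
    refine ⟨(hA y).2 ?_, ?_⟩
    · rintro _ ⟨d, hd, rfl⟩
      exact h _ ⟨d, hED hd, rfl⟩
    · intro d hd
      exact h _ ⟨d, hd, rfl⟩

/-- B1: equal marks give a twisted equivariant bijection. -/
theorem exists_equivariant [Nonempty Y] (Θ₁ Θ₂ : M →* K)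
    (h : ∀ D : Subgroup M, fx (Y := Y) (D.map Θ₁) = fx (Y := Y) (D.map Θ₂)) :
    ∃ f : Equiv.Perm Y, ∀ (m : M) (y : Y), f (Θ₁ m • y) = Θ₂ m • f y := by
  have hbot : ∀ (Θ : M →* K) (y : Y), (show Tw Θ Y from y) ∈ (Finset.univ : Finset (Tw Θ Y)) ↔ ∀ d ∈ ((⊥ : Subgroup M).map Θ : Subgroup K), d • y = y := by
    intro Θ y
    refine ⟨fun _ => ?_, fun _ => Finset.mem_univ _⟩
    rintro _ ⟨d, hd, rfl⟩
    rw [Subgroup.mem_bot.1 hd]; simp
  obtain ⟨f, A₀, B₀, -, -, hbij, heq, h₁, h₂, -, -⟩ := core (M := M) (Y₁ := Tw Θ₁ Y) (Y₂ := Tw Θ₂ Y) Set.univ (fun _ _ _ _ => trivial)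
    Finset.univ Finset.univ (fun _ _ _ => Finset.mem_univ _) (fun _ _ _ => Finset.mem_univ _) (by
      intro D _
      rw [mark_tw Θ₁ ⊥ D bot_le _ (hbot Θ₁), mark_tw Θ₂ ⊥ D bot_le _ (hbot Θ₂)]
      exact h D)
  have hA : A₀ = Finset.univ := by
    ext y; simp only [Finset.mem_univ, iff_true]
    by_contra hy
    exact h₁ y (by simp [hy]) trivial
  have hB : B₀ = Finset.univ := by
    ext y; simp only [Finset.mem_univ, iff_true]
    by_contra hy
    exact h₂ y (by simp [hy]) trivial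
  subst hA hB
  have hb : Function.Bijective (show Y → Y from f) := by
    have := hbij
    simp only [Finset.coe_univ] at this
    exact Set.bijOn_univ.1 this
  exact ⟨Equiv.ofBijective _ hb, fun m y => heq m y (Finset.mem_univ _)⟩

/-- B2: congruence of marks. -/
theorem fx_modEq [Nonempty Y] (Θ₁ Θ₂ : M →* K) (E : Subgroup M) [E.Normal]
    (h : ∀ D : Subgroup M, E < D → fx (Y := Y) (D.map Θ₁) = fx (Y := Y) (D.map Θ₂)) :
    fx (Y := Y) (E.map Θ₁) ≡ fx (Y := Y) (E.map Θ₂) [MOD E.index] := by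
  let A : Finset (Tw Θ₁ Y) := Finset.univ.filter fun y => ∀ d ∈ E.map Θ₁, d • (show Y from y) = y
  let B : Finset (Tw Θ₂ Y) := Finset.univ.filter fun y => ∀ d ∈ E.map Θ₂, d • (show Y from y) = y
  have hAm : ∀ y : Y, (show Tw Θ₁ Y from y) ∈ A ↔ ∀ d ∈ E.map Θ₁, d • y = y := by
    intro y
    exact Finset.mem_filter.trans ⟨fun h => h.2, fun h => ⟨Finset.mem_univ _, h⟩⟩
  have hBm : ∀ y : Y, (show Tw Θ₂ Y from y) ∈ B ↔ ∀ d ∈ E.map Θ₂, d • y = y := by
    intro y
    exact Finset.mem_filter.trans ⟨fun h => h.2, fun h => ⟨Finset.mem_univ _, h⟩⟩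
  have hstab : ∀ (Θ : M →* K) (m : M) (y : Y), (∀ d ∈ E.map Θ, d • y = y) → ∀ d ∈ E.map Θ, d • (Θ m • y) = Θ m • y := by
    rintro Θ m y hy _ ⟨e, he, rfl⟩
    have he' : m⁻¹ * e * m ∈ E := by
      have := Subgroup.Normal.conj_mem ‹E.Normal› e he m⁻¹
      simpa using this
    have := hy _ ⟨_, he', rfl⟩
    simp only [map_mul, map_inv, mul_smul] at this
    rw [inv_smul_eq_iff] at this
    exact this
  have hAst : ∀ m : M, ∀ y ∈ A, m • y ∈ A := fun m y hy => (hAm _).2 (hstab Θ₁ m y ((hAm y).1 hy))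
  have hBst : ∀ m : M, ∀ y ∈ B, m • y ∈ B := fun m y hy => (hBm _).2 (hstab Θ₂ m y ((hBm y).1 hy))
  obtain ⟨f, A₀, B₀, hA₀, hB₀, hbij, -, h₁, h₂, hs₁, hs₂⟩ := core (M := M) (Y₁ := Tw Θ₁ Y) (Y₂ := Tw Θ₂ Y) {D | E < D}
    (fun D D' hle hD => lt_of_lt_of_le hD hle) A B hAst hBst (by
      intro D hD
      rw [mark_tw Θ₁ E D (le_of_lt hD) _ hAm, mark_tw Θ₂ E D (le_of_lt hD) _ hBm]
      exact h D hD)
  have hc : A₀.card = B₀.card := Finset.card_nbij f hbij.mapsTo hbij.injOn hbij.surjOn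
  have hd₁ : E.index ∣ (A \ A₀).card := by
    refine index_dvd_card E _ ?_ ?_
    · intro m y hy
      rw [Finset.mem_sdiff] at hy ⊢
      refine ⟨hAst m y hy.1, fun hc => hy.2 ?_⟩
      have := hs₁ m⁻¹ _ hc
      rwa [inv_smul_smul] at this
    · intro y hy
      have hle : E ≤ stabilizer M y := by
        intro e he
        have := (hAm y).1 (Finset.mem_sdiff.1 hy).1 _ ⟨e, he, rfl⟩
        exact this
      have hne := h₁ y hy
      by_contra hcon
      exact hne (lt_of_le_of_ne hle (Ne.symm hcon))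
  have hd₂ : E.index ∣ (B \ B₀).card := by
    refine index_dvd_card E _ ?_ ?_
    · intro m y hy
      rw [Finset.mem_sdiff] at hy ⊢
      refine ⟨hBst m y hy.1, fun hc => hy.2 ?_⟩
      have := hs₂ m⁻¹ _ hc
      rwa [inv_smul_smul] at this
    · intro y hy
      have hle : E ≤ stabilizer M y := by
        intro e he
        have := (hBm y).1 (Finset.mem_sdiff.1 hy).1 _ ⟨e, he, rfl⟩
        exact this
      have hne := h₂ y hy
      by_contra hcon
      exact hne (lt_of_le_of_ne hle (Ne.symm hcon))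
  rw [fx_eq_card (E.map Θ₁) (show Finset Y from A) hAm, fx_eq_card (E.map Θ₂) (show Finset Y from B) hBm]
  change A.card ≡ B.card [MOD E.index]
  rw [← Finset.card_sdiff_add_card_eq_card hA₀, ← Finset.card_sdiff_add_card_eq_card hB₀, hc]
  obtain ⟨a, ha⟩ := hd₁
  obtain ⟨b, hb⟩ := hd₂
  rw [ha, hb]
  simp [Nat.ModEq, Nat.add_mod]

end Twist

section Transfer
/-! Transfer for a free action. -/
variable {W Y A : Type*} [Group W] [MulAction W Y] [CommGroup A] (χ : W →* A)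

local notation "RR" => orbitRel.Quotient W Y

/-- normal form relative to a section -/
noncomputable def nf (σ : orbitRel.Quotient W Y → Y) (y : Y) : W :=
  if h : ∃ w : W, y = w • σ (Quotient.mk (orbitRel W Y) y) then h.choose else 1

variable {σ : orbitRel.Quotient W Y → Y}

theorem nf_spec (hσ : ∀ i, Quotient.mk (orbitRel W Y) (σ i) = i) (y : Y) :
    y = nf σ y • σ (Quotient.mk (orbitRel W Y) y) := by
  have h : ∃ w : W, y = w • σ (Quotient.mk (orbitRel W Y) y) := by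
    have := hσ (Quotient.mk (orbitRel W Y) y)
    have h2 : (orbitRel W Y) (σ (Quotient.mk (orbitRel W Y) y)) y := Quotient.exact this
    rw [orbitRel_apply, mem_orbit_iff] at h2
    obtain ⟨w, hw⟩ := h2
    exact ⟨w⁻¹, by rw [eq_inv_smul_iff]; exact hw⟩
  unfold nf
  rw [dif_pos h]
  exact h.choose_spec

theorem nf_eq (hfree : ∀ (w : W) (y : Y), w • y = y → w = 1)
    (hσ : ∀ i, Quotient.mk (orbitRel W Y) (σ i) = i) {y : Y} {w : W} {i} (h : y = w • σ i) : nf σ y = w := by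
  have hi : Quotient.mk (orbitRel W Y) y = i :=
    (Quotient.sound (s := orbitRel W Y) (show y ∈ orbit W (σ i) from ⟨w, h.symm⟩)).trans (hσ i)
  have := nf_spec hσ y
  rw [hi] at this
  have h2 : (w⁻¹ * nf σ y) • σ i = σ i := by
    rw [mul_smul, ← this, h, inv_smul_smul]
  have := hfree _ _ h2
  rw [inv_mul_eq_one] at this
  exact this.symm

/-- induced permutation on orbits -/
def bar (g : Equiv.Perm Y) (hg : ∀ (w : W) (y : Y), g (w • y) = w • g y) :
    Equiv.Perm (orbitRel.Quotient W Y) :=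
  Quotient.congr g (by
    intro a b
    change a ∈ orbit W b ↔ g a ∈ orbit W (g b)
    constructor
    · rintro ⟨w, rfl⟩
      exact ⟨w, (hg w b).symm⟩
    · rintro ⟨w, hw⟩
      refine ⟨w, g.injective ?_⟩
      rw [hg]; exact hw)

theorem bar_mk (g : Equiv.Perm Y) (hg : ∀ (w : W) (y : Y), g (w • y) = w • g y) (y : Y) :
    bar g hg (Quotient.mk (orbitRel W Y) y) = Quotient.mk (orbitRel W Y) (g y) := rfl

/-- The value of the transfer at an equivariant permutation. -/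
noncomputable def Tv [Fintype (orbitRel.Quotient W Y)] (σ : orbitRel.Quotient W Y → Y) (g : Equiv.Perm Y) : A :=
  ∏ i, χ (nf σ (g (σ i)))

variable [Fintype (orbitRel.Quotient W Y)]

theorem Tv_indep (hfree : ∀ (w : W) (y : Y), w • y = y → w = 1)
    {σ σ' : orbitRel.Quotient W Y → Y} (hσ : ∀ i, Quotient.mk (orbitRel W Y) (σ i) = i)
    (hσ' : ∀ i, Quotient.mk (orbitRel W Y) (σ' i) = i) (g : Equiv.Perm Y)
    (hg : ∀ (w : W) (y : Y), g (w • y) = w • g y) : Tv χ σ g = Tv χ σ' g := by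
  let s : orbitRel.Quotient W Y → W := fun i => nf σ (σ' i)
  have hs : ∀ i, σ' i = s i • σ i := by
    intro i
    have := nf_spec hσ (σ' i)
    rw [hσ' i] at this
    exact this
  have key : ∀ i, nf σ' (g (σ' i)) = s i * nf σ (g (σ i)) * (s (bar g hg i))⁻¹ := by
    intro i
    refine nf_eq hfree hσ' (i := bar g hg i) ?_
    have h1 := nf_spec hσ (g (σ i))
    have h2 : Quotient.mk (orbitRel W Y) (g (σ i)) = bar g hg i := by
      rw [← bar_mk g hg, hσ i]
    rw [h2] at h1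
    rw [mul_smul, mul_smul, hs (bar g hg i), inv_smul_smul, ← h1, hs i, hg]
  unfold Tv
  simp_rw [key, map_mul, map_inv, Finset.prod_mul_distrib, Finset.prod_inv_distrib]
  rw [Equiv.prod_comp (bar g hg) (fun j => χ (s j))]
  simp [mul_comm]

theorem Tv_conj (hfree : ∀ (w : W) (y : Y), w • y = y → w = 1)
    (hσ : ∀ i, Quotient.mk (orbitRel W Y) (σ i) = i) (g₁ g₂ f : Equiv.Perm Y)
    (hg₁ : ∀ (w : W) (y : Y), g₁ (w • y) = w • g₁ y) (hg₂ : ∀ (w : W) (y : Y), g₂ (w • y) = w • g₂ y)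
    (hf : ∀ (w : W) (y : Y), f (w • y) = w • f y) (hfg : ∀ y, f (g₁ y) = g₂ (f y)) :
    Tv χ σ g₂ = Tv χ σ g₁ := by
  let σ₂ : orbitRel.Quotient W Y → Y := fun j => f (σ ((bar f hf).symm j))
  have hσ₂ : ∀ i, Quotient.mk (orbitRel W Y) (σ₂ i) = i := by
    intro i
    change Quotient.mk (orbitRel W Y) (f _) = i
    rw [← bar_mk f hf, hσ, Equiv.apply_symm_apply]
  rw [Tv_indep χ hfree hσ hσ₂ g₂ hg₂]
  unfold Tv
  rw [← Equiv.prod_comp (bar f hf)]
  refine Finset.prod_congr rfl fun i _ => ?_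
  have e : ∀ j, σ₂ (bar f hf j) = f (σ j) := by
    intro j
    change f (σ ((bar f hf).symm (bar f hf j))) = _
    rw [Equiv.symm_apply_apply]
  rw [e i]
  congr 1
  refine nf_eq hfree hσ₂ (i := bar f hf (Quotient.mk (orbitRel W Y) (g₁ (σ i)))) ?_
  rw [e, ← hfg]
  conv_lhs => rw [nf_spec hσ (g₁ (σ i))]
  rw [hf]

theorem Tv_mul (hfree : ∀ (w : W) (y : Y), w • y = y → w = 1)
    (hσ : ∀ i, Quotient.mk (orbitRel W Y) (σ i) = i) (g h : Equiv.Perm Y)
    (hg : ∀ (w : W) (y : Y), g (w • y) = w • g y) (hh : ∀ (w : W) (y : Y), h (w • y) = w • h y) :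
    Tv χ σ (g * h) = Tv χ σ g * Tv χ σ h := by
  have key : ∀ i, nf σ ((g * h) (σ i)) = nf σ (h (σ i)) * nf σ (g (σ (bar h hh i))) := by
    intro i
    refine nf_eq hfree hσ (i := bar g hg (bar h hh i)) ?_
    have h1 := nf_spec hσ (h (σ i))
    have h2 : Quotient.mk (orbitRel W Y) (h (σ i)) = bar h hh i := by
      rw [← bar_mk h hh, hσ i]
    rw [h2] at h1
    have h3 := nf_spec hσ (g (σ (bar h hh i)))
    have h4 : Quotient.mk (orbitRel W Y) (g (σ (bar h hh i))) = bar g hg (bar h hh i) := by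
      rw [← bar_mk g hg, hσ]
    rw [h4] at h3
    rw [Equiv.Perm.mul_apply]
    conv_lhs => rw [h1, hg, h3]
    rw [mul_smul]
  unfold Tv
  simp_rw [key, map_mul, Finset.prod_mul_distrib]
  rw [Equiv.prod_comp (bar h hh) (fun j => χ (nf σ (g (σ j))))]
  exact mul_comm _ _

theorem Tv_cycle [Finite (orbitRel.Quotient W Y)] (hfree : ∀ (w : W) (y : Y), w • y = y → w = 1)
    (hσ : ∀ i, Quotient.mk (orbitRel W Y) (σ i) = i) (g : Equiv.Perm Y)
    (hg : ∀ (w : W) (y : Y), g (w • y) = w • g y) (c : W)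
    (H : ∀ (ℓ : ℕ) (y : Y) (w : W), (g ^ ℓ) y = w • y → w = c ^ ℓ) :
    Tv χ σ g = χ c ^ Fintype.card (orbitRel.Quotient W Y) := by
  let π := bar g hg
  let N : orbitRel.Quotient W Y → A := fun i => χ (nf σ (g (σ i)))
  have hstep : ∀ i, g (σ i) = nf σ (g (σ i)) • σ (π i) := by
    intro i
    have h1 := nf_spec hσ (g (σ i))
    have h2 : Quotient.mk (orbitRel W Y) (g (σ i)) = π i := by
      change _ = bar g hg i
      rw [← bar_mk g hg, hσ i]
    rwa [h2] at h1
  have hpow : ∀ (i) (k : ℕ), ∃ w : W, (g ^ k) (σ i) = w • σ (π^[k] i) ∧ χ w = ∏ j ∈ Finset.range k, N (π^[j] i) := by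
    intro i k
    induction k with
    | zero => exact ⟨1, by simp, by simp⟩
    | succ k ih =>
      obtain ⟨w, hw, hχ⟩ := ih
      refine ⟨w * nf σ (g (σ (π^[k] i))), ?_, ?_⟩
      · rw [pow_succ', Equiv.Perm.mul_apply, hw, hg]
        conv_lhs => rw [hstep]
        rw [mul_smul, Function.iterate_succ_apply']
      · rw [map_mul, hχ, Finset.prod_range_succ]
  have hinj : Function.Injective π := π.injective
  have hper : ∀ i, 0 < Function.minimalPeriod π i := fun i =>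
    Function.minimalPeriod_pos_of_mem_periodicPts (hinj.mem_periodicPts i)
  have main : ∀ B : Finset (orbitRel.Quotient W Y), (∀ i ∈ B, π i ∈ B) → ∏ i ∈ B, N i = χ c ^ B.card := by
    intro B
    induction' hn : B.card using Nat.strong_induction_on with n ih generalizing B
    intro hB
    rcases B.eq_empty_or_nonempty with rfl | ⟨i, hi⟩
    · simp at hn; simp [← hn]
    let ℓ := Function.minimalPeriod π i
    let O : Finset (orbitRel.Quotient W Y) := (Finset.range ℓ).image (fun k => π^[k] i)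
    have hOmem : ∀ x, x ∈ O ↔ ∃ k, π^[k] i = x := by
      intro x
      simp only [O, Finset.mem_image, Finset.mem_range]
      constructor
      · rintro ⟨k, -, h⟩; exact ⟨k, h⟩
      · rintro ⟨k, rfl⟩
        exact ⟨k % ℓ, Nat.mod_lt _ (hper i), Function.iterate_mod_minimalPeriod_eq⟩
    have hiter : ∀ k, π^[k] i ∈ B := by
      intro k
      induction k with
      | zero => exact hi
      | succ k ih => rw [Function.iterate_succ_apply']; exact hB _ ih
    have hOB : O ⊆ B := by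
      intro x hx
      obtain ⟨k, rfl⟩ := (hOmem x).1 hx
      exact hiter k
    have hOc : O.card = ℓ := by
      simp only [O]
      rw [Finset.card_image_of_injOn, Finset.card_range]
      intro a ha b hb hab
      exact Function.iterate_injOn_Iio_minimalPeriod (by simpa using ha) (by simpa using hb) hab
    have hOprod : ∏ x ∈ O, N x = χ c ^ ℓ := by
      simp only [O]
      rw [Finset.prod_image]
      · obtain ⟨w, hw, hχ⟩ := hpow i ℓ
        rw [← hχ]
        have : π^[ℓ] i = i := Function.iterate_minimalPeriod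
        rw [this] at hw
        rw [H ℓ _ _ hw, map_pow]
      · intro a ha b hb hab
        exact Function.iterate_injOn_Iio_minimalPeriod (by simpa using ha) (by simpa using hb) hab
    have hlt : (B \ O).card < n := by
      have : 0 < O.card := by rw [hOc]; exact hper i
      have := Finset.card_sdiff_add_card_eq_card hOB
      omega
    have hrest := ih _ hlt (B \ O) rfl (by
      intro x hx
      rw [Finset.mem_sdiff] at hx ⊢
      refine ⟨hB x hx.1, fun hc => hx.2 ?_⟩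
      obtain ⟨k, hk⟩ := (hOmem _).1 hc
      refine (hOmem _).2 ⟨k + (ℓ - 1), hinj ?_⟩
      rw [← Function.iterate_succ_apply' π, ← hk]
      have e : (k + (ℓ - 1)).succ = k + ℓ := by
        have := hper i
        omega
      rw [e, Function.iterate_add_apply π k ℓ]
      congr 1
      exact Function.iterate_minimalPeriod)
    rw [← Finset.prod_sdiff hOB, hrest, hOprod, ← pow_add, ← hOc, Finset.card_sdiff_add_card_eq_card hOB, hn]
  have := main Finset.univ (fun _ _ => Finset.mem_univ _)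
  rw [Finset.card_univ] at this
  exact this

end Transfer
end CfsgLib.Bis
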