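import Cfsg.Agent.Lib.Fusion.Alperin2
import Cfsg.Agent.Lib.Fusion.Quick

/-! Subsystems containing the `p`-power order automorphisms of centric subgroups: the Frattini factorization. -/

set_option autoImplicit false
set_option linter.unusedSectionVars false
set_option linter.unusedVariables false
set_option linter.style.haveILetI false

open Subgroup Cfsg Cfsg.FusionSystem CfsgLib.Fusion

namespace CfsgLib.Frat

variable {Ω : Type*} [Group Ω] {S : Subgroup Ω}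

/-- The image of a subgroup under an automorphism of `S`. -/
abbrev amap (α : MulAut S) (P : Subgroup Ω) : Subgroup Ω := (P.subgroupOf S).map (S.subtype.comp α.toMonoidHom)

theorem amap_le (α : MulAut S) (P : Subgroup Ω) : amap α P ≤ S := by
  rintro _ ⟨x, -, rfl⟩
  exact (α x).2

theorem mem_amap (α : MulAut S) {P : Subgroup Ω} {x : Ω} (hx : x ∈ S) (hP : x ∈ P) :
    ((α ⟨x, hx⟩ : S) : Ω) ∈ amap α P :=
  ⟨⟨x, hx⟩, mem_subgroupOf.mpr hP, rfl⟩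

/-- The maps of `E` all of whose transports under `Aut_F(S)` lie in `E`. -/
def InvHom (F E : FusionSystem S) (P : Subgroup Ω) : Set (P →* Ω) :=
  {φ | φ ∈ E.Hom P ∧ ∀ α ∈ F.autGroup S, ∃ χ ∈ E.Hom (amap α P),
    ∀ (x : P) (hx : (x : Ω) ∈ S) (hy : φ x ∈ S) (hz : ((α ⟨x, hx⟩ : S) : Ω) ∈ amap α P),
      χ ⟨(α ⟨x, hx⟩ : S), hz⟩ = (α ⟨φ x, hy⟩ : S)}

/-- The largest `Aut_F(S)`-invariant part of `E`. -/
def invCore (F E : FusionSystem S) : FusionSystem S where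
  Hom := InvHom F E
  le_of_mem h := E.le_of_mem h.1
  injective_of_mem h := E.injective_of_mem h.1
  conj_mem := by
    intro P g hP hg
    refine ⟨E.conj_mem hP hg, fun α hα => ⟨conjHom _ (α ⟨g, hg⟩), E.conj_mem (amap_le α P) (α _).2, fun x hx hy hz => ?_⟩⟩
    have e : (⟨conjHom P g x, hy⟩ : S) = ⟨g, hg⟩ * ⟨x, hx⟩ * ⟨g, hg⟩⁻¹ := Subtype.ext rfl
    rw [e, map_mul, map_mul, map_inv]
    rfl
  comp_mem := by
    intro P Q φ ψ hφ hψ hc
    refine ⟨E.comp_mem hφ.1 hψ.1 hc, fun α hα => ?_⟩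
    obtain ⟨χ₁, h₁, e₁⟩ := hφ.2 α hα
    obtain ⟨χ₂, h₂, e₂⟩ := hψ.2 α hα
    have hPS := source_le E hφ.1
    have hQS := source_le E hψ.1
    have hv₁ := (E.le_of_mem hφ.1).2
    have hv₂ := (E.le_of_mem hψ.1).2
    have hval : ∀ y : amap α P, χ₁ y ∈ amap α Q := by
      rintro ⟨_, x, hx, rfl⟩
      have hxP : (x : Ω) ∈ P := mem_subgroupOf.mp hx
      have h3 := e₁ ⟨x, hxP⟩ x.2 (hv₁ _) (mem_amap α x.2 hxP)
      refine Eq.mpr (congrArg (· ∈ amap α Q) h3) ?_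
      exact mem_amap α _ (hc _)
    refine ⟨_, E.comp_mem h₁ h₂ hval, fun x hx hy hz => ?_⟩
    have h3 := e₁ x hx (hv₁ _) hz
    have h4 := e₂ ⟨φ x, hc x⟩ (hv₁ _) hy (mem_amap α _ (hc x))
    show χ₂ ⟨χ₁ ⟨_, hz⟩, hval _⟩ = _
    refine Eq.trans ?_ h4
    congr 1
    exact Subtype.ext h3
  inv_mem := by
    intro P φ hφ
    obtain ⟨ψ, hψ, hψe⟩ := E.inv_mem hφ.1
    have hPS := source_le E hφ.1
    have hv := (E.le_of_mem hφ.1).2
    refine ⟨ψ, ⟨hψ, fun α hα => ?_⟩, hψe⟩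
    obtain ⟨χ, hχ, he⟩ := hφ.2 α hα
    obtain ⟨ξ, hξ, hξe⟩ := E.inv_mem hχ
    have hle : amap α φ.range ≤ χ.range := by
      rintro _ ⟨y, hy, rfl⟩
      obtain ⟨x, hxe⟩ := mem_subgroupOf.mp hy
      have e : y = ⟨φ x, hv x⟩ := Subtype.ext hxe.symm
      subst e
      exact ⟨⟨_, mem_amap α (hPS x.2) x.2⟩, he x (hPS x.2) (hv x) _⟩
    refine ⟨_, restrict_mem E hξ hle, ?_⟩
    rintro ⟨_, x, rfl⟩ hx hy hz
    have h1 := he x (hPS x.2) (hv x) (mem_amap α (hPS x.2) x.2)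
    have h2 := hξe ⟨_, mem_amap α (hPS x.2) x.2⟩
    have e1 : (⟨φ x, ⟨x, rfl⟩⟩ : φ.range) = ⟨φ x, _⟩ := rfl
    show ξ ⟨_, hle hz⟩ = _
    have h3 : (⟨((α ⟨φ x, hx⟩ : S) : Ω), hle hz⟩ : χ.range) = ⟨χ ⟨_, mem_amap α (hPS x.2) x.2⟩, ⟨_, rfl⟩⟩ :=
      Subtype.ext h1.symm
    rw [h3, h2]
    exact congrArg (fun z : S => ((α z : S) : Ω)) (Subtype.ext (hψe x).symm)

theorem invCore_le (F E : FusionSystem S) {P : Subgroup Ω} {φ : P →* Ω} (h : φ ∈ (invCore F E).Hom P) : φ ∈ E.Hom P := h.1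

theorem amap_mul_le (α β : MulAut S) (P : Subgroup Ω) : amap β (amap α P) ≤ amap (β * α) P := by
  rintro _ ⟨y, hy, rfl⟩
  obtain ⟨x, hx, hxe⟩ := mem_subgroupOf.mp hy
  have hxP := mem_subgroupOf.mp hx
  have e : y = α x := Subtype.ext hxe.symm
  refine ⟨x, mem_subgroupOf.mpr hxP, ?_⟩
  rw [e]
  rfl

/-- The transport of a map of the invariant core again lies in the core. -/
theorem exists_transport (F E : FusionSystem S) {P : Subgroup Ω} {φ : P →* Ω} (hφ : φ ∈ (invCore F E).Hom P)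
    {α : MulAut S} (hα : α ∈ F.autGroup S) :
    ∃ χ ∈ (invCore F E).Hom (amap α P),
      ∀ (x : P) (hx : (x : Ω) ∈ S) (hy : φ x ∈ S) (hz : ((α ⟨x, hx⟩ : S) : Ω) ∈ amap α P),
        χ ⟨(α ⟨x, hx⟩ : S), hz⟩ = (α ⟨φ x, hy⟩ : S) := by
  obtain ⟨χ, hχ, he⟩ := hφ.2 α hα
  refine ⟨χ, ⟨hχ, fun β hβ => ?_⟩, he⟩
  obtain ⟨χ₀, hχ₀, he₀⟩ := hφ.2 (β * α) (Subgroup.mul_mem _ hβ hα)
  refine ⟨_, restrict_mem E hχ₀ (amap_mul_le α β P), ?_⟩
  have hPS := source_le E hφ.1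
  have hv := (E.le_of_mem hφ.1).2
  rintro ⟨_, x, hx, rfl⟩ hy₁ hy₂ hz
  have hxP : (x : Ω) ∈ P := mem_subgroupOf.mp hx
  have h1 := he₀ ⟨x, hxP⟩ x.2 (hv _) ((amap_mul_le α β P) hz)
  refine Eq.trans h1 ?_
  have h2 := he ⟨x, hxP⟩ x.2 (hv _) (mem_amap α x.2 hxP)
  show ((β (α ⟨φ ⟨x, hxP⟩, hv _⟩) : S) : Ω) = _
  congr 2
  exact Subtype.ext h2.symm

/-- Maps which are an element of `Aut_F(S)` after a map of the invariant core. -/
def FratHom (F E : FusionSystem S) (P : Subgroup Ω) : Set (P →* Ω) :=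
  {φ | ∃ α ∈ F.autGroup S, ∃ φ₀ ∈ (invCore F E).Hom P, ∀ (x : P) (hx : φ₀ x ∈ S), φ x = (α ⟨φ₀ x, hx⟩ : S)}

/-- The system generated by `Aut_F(S)` and the invariant core. -/
def fratSystem (F E : FusionSystem S) : FusionSystem S where
  Hom := FratHom F E
  le_of_mem := by
    rintro P φ ⟨α, hα, φ₀, hφ₀, he⟩
    have h := (invCore F E).le_of_mem hφ₀
    refine ⟨h.1, fun x => ?_⟩
    rw [he x (h.2 x)]
    exact (α _).2
  injective_of_mem := by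
    rintro P φ ⟨α, hα, φ₀, hφ₀, he⟩ a b hab
    have h := (invCore F E).le_of_mem hφ₀
    rw [he a (h.2 a), he b (h.2 b)] at hab
    have h1 := α.injective (Subtype.ext hab)
    exact (invCore F E).injective_of_mem hφ₀ (congrArg Subtype.val h1)
  conj_mem := by
    intro P g hP hg
    exact ⟨1, Subgroup.one_mem _, conjHom P g, (invCore F E).conj_mem hP hg, fun x hx => rfl⟩
  comp_mem := by
    rintro P Q φ ψ ⟨α₁, hα₁, φ₁, hφ₁, he₁⟩ ⟨α₂, hα₂, ψ₂, hψ₂, he₂⟩ hc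
    have hv₁ := ((invCore F E).le_of_mem hφ₁).2
    have hv₂ := ((invCore F E).le_of_mem hψ₂).2
    have hPS := ((invCore F E).le_of_mem hφ₁).1
    have hQS := ((invCore F E).le_of_mem hψ₂).1
    obtain ⟨ψ', hψ', hψe⟩ := exists_transport F E hψ₂ (Subgroup.inv_mem _ hα₁)
    have h1 : ∀ x : P, α₁⁻¹ ⟨φ x, hQS (hc x)⟩ = ⟨φ₁ x, hv₁ x⟩ := by
      intro x
      have e : (⟨φ x, hQS (hc x)⟩ : S) = α₁ ⟨φ₁ x, hv₁ x⟩ := Subtype.ext (he₁ x (hv₁ x))
      rw [e, MulAut.inv_apply_self]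
    have hval : ∀ x : P, φ₁ x ∈ amap α₁⁻¹ Q := by
      intro x
      refine ⟨⟨φ x, hQS (hc x)⟩, mem_subgroupOf.mpr (hc x), ?_⟩
      exact congrArg Subtype.val (h1 x)
    refine ⟨α₂ * α₁, Subgroup.mul_mem _ hα₂ hα₁, _, (invCore F E).comp_mem hφ₁ hψ' hval, fun x hx => ?_⟩
    have h2 : ψ' ⟨φ₁ x, hval x⟩ = (α₁⁻¹ ⟨ψ₂ ⟨φ x, hc x⟩, hv₂ _⟩ : S) := by
      have h3 := hψe ⟨φ x, hc x⟩ (hQS (hc x)) (hv₂ _) (mem_amap _ _ (hc x))
      refine Eq.trans ?_ h3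
      congr 1
      exact Subtype.ext (congrArg Subtype.val (h1 x)).symm
    have h4 : (⟨ψ' ⟨φ₁ x, hval x⟩, hx⟩ : S) = α₁⁻¹ ⟨ψ₂ ⟨φ x, hc x⟩, hv₂ _⟩ := Subtype.ext h2
    show ψ ⟨φ x, hc x⟩ = ((α₂ * α₁) ⟨ψ' ⟨φ₁ x, hval x⟩, hx⟩ : S)
    rw [h4, MulAut.mul_apply, MulAut.apply_inv_self]
    exact he₂ _ _
  inv_mem := by
    rintro P φ ⟨α, hα, φ₀, hφ₀, he⟩
    have hv₀ := ((invCore F E).le_of_mem hφ₀).2
    have hPS := ((invCore F E).le_of_mem hφ₀).1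
    obtain ⟨ξ₀, hξ₀, hξ₀e⟩ := (invCore F E).inv_mem hφ₀
    obtain ⟨ξ₁, hξ₁, hξ₁e⟩ := exists_transport F E hξ₀ hα
    have hle : φ.range ≤ amap α φ₀.range := by
      rintro _ ⟨x, rfl⟩
      rw [he x (hv₀ x)]
      exact mem_amap α (hv₀ x) ⟨x, rfl⟩
    have hξ₂ := restrict_mem (invCore F E) hξ₁ hle
    have hv₂ := ((invCore F E).le_of_mem hξ₂).2
    refine ⟨S.subtype.comp ((α⁻¹ : MulAut S).toMonoidHom.comp ((ξ₁.comp (Subgroup.inclusion hle)).codRestrict S hv₂)),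
      ⟨α⁻¹, Subgroup.inv_mem _ hα, _, hξ₂, fun x hx => rfl⟩, fun x => ?_⟩
    show ((α⁻¹ ⟨ξ₁ ⟨φ x, hle ⟨x, rfl⟩⟩, hv₂ ⟨φ x, ⟨x, rfl⟩⟩⟩ : S) : Ω) = x
    have hv₃ := ((invCore F E).le_of_mem hξ₀).2
    have h1 := hξ₁e ⟨φ₀ x, ⟨x, rfl⟩⟩ (hv₀ x) (hv₃ _) (mem_amap α (hv₀ x) ⟨x, rfl⟩)
    have h2 : (⟨ξ₁ ⟨φ x, hle ⟨x, rfl⟩⟩, hv₂ ⟨φ x, ⟨x, rfl⟩⟩⟩ : S) = α ⟨x, hPS x.2⟩ := by
      apply Subtype.ext
      have h3 : (⟨φ x, hle ⟨x, rfl⟩⟩ : amap α φ₀.range) =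
          ⟨((α ⟨φ₀ x, hv₀ x⟩ : S) : Ω), mem_amap α (hv₀ x) ⟨x, rfl⟩⟩ := Subtype.ext (he x (hv₀ x))
      show ξ₁ ⟨φ x, hle ⟨x, rfl⟩⟩ = _
      rw [h3, h1]
      exact congrArg (fun z : S => ((α z : S) : Ω)) (Subtype.ext (hξ₀e x))
    rw [h2, MulAut.inv_apply_self]

/-- An automorphism of the source transports to an automorphism of the image. -/
theorem exists_congr_aut (F : FusionSystem S) {P : Subgroup Ω} {φ : P →* Ω} (hφ : φ ∈ F.Hom P) {o : MulAut P}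
    (ho : o ∈ F.autGroup P) :
    ∃ a : MulAut φ.range, a ∈ F.autGroup φ.range ∧
      (∀ x : P, ((a ⟨φ x, ⟨x, rfl⟩⟩ : φ.range) : Ω) = φ (o x)) ∧ orderOf a = orderOf o := by
  obtain ⟨e, hed⟩ : ∃ e : P ≃* φ.range, e = MonoidHom.ofInjective (F.injective_of_mem hφ) := ⟨_, rfl⟩
  have hes : ∀ x : P, e.symm ⟨φ x, ⟨x, rfl⟩⟩ = x := by
    intro x
    rw [show (⟨φ x, ⟨x, rfl⟩⟩ : φ.range) = e x from by rw [hed]; rfl]
    exact e.symm_apply_apply x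
  have hev : ∀ x : P, ((e x : φ.range) : Ω) = φ x := fun x => by rw [hed]; rfl
  have hval : ∀ x : P, ((MulAut.congr e o ⟨φ x, ⟨x, rfl⟩⟩ : φ.range) : Ω) = φ (o x) := by
    intro x
    show ((e (o (e.symm ⟨φ x, ⟨x, rfl⟩⟩)) : φ.range) : Ω) = _
    rw [hes, hev]
  refine ⟨MulAut.congr e o, ?_, hval, MulEquiv.orderOf_eq _ o⟩
  have hPS := source_le F hφ
  obtain ⟨ξ, hξ, hξe⟩ := F.inv_mem hφ
  have ho' := (mem_autGroup_iff F hPS).mp ho
  have hξv : ∀ y : φ.range, ξ y ∈ P := by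
    rintro ⟨_, x, rfl⟩
    rw [hξe]
    exact x.2
  have h1 := F.comp_mem hξ ho' hξv
  have h2 : ∀ y : φ.range, (P.subtype.comp o.toMonoidHom) (ξ.codRestrict P hξv y) ∈ P := fun y => (o _).2
  have h3 := F.comp_mem h1 hφ h2
  refine (mem_autGroup_iff F (range_le F hφ)).mpr ?_
  convert h3 using 1
  ext ⟨_, x, rfl⟩
  refine (hval x).trans ?_
  show φ (o x) = φ (o (ξ.codRestrict P hξv ⟨φ x, ⟨x, rfl⟩⟩))
  have e : ξ.codRestrict P hξv ⟨φ x, ⟨x, rfl⟩⟩ = x := Subtype.ext (hξe x)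
  rw [e]

variable {p : ℕ}

/-- Automorphisms of `p`-power order of centric subgroups lie in the core. -/
theorem pElt_mem_core (F E : FusionSystem S)
    (h : ∀ P : Subgroup Ω, F.IsCentric P →
      (Subgroup.closure {α : F.autGroup P | ∃ k : ℕ, orderOf α = p ^ k}).map (F.autGroup P).subtype ≤ E.autGroup P)
    {R : Subgroup Ω} (hRc : F.IsCentric R) {o : MulAut R} (ho : o ∈ F.autGroup R) {k : ℕ} (hk : orderOf o = p ^ k) :
    R.subtype.comp o.toMonoidHom ∈ (invCore F E).Hom R := by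
  have hRS := hRc.1
  have key : ∀ (R' : Subgroup Ω) (_ : F.IsCentric R') {o' : MulAut R'} (_ : o' ∈ F.autGroup R') (_ : orderOf o' = p ^ k),
      o' ∈ E.autGroup R' := fun R' hR' o' ho' hk' =>
    h R' hR' ⟨⟨o', ho'⟩, subset_closure ⟨k, by rw [Subgroup.orderOf_mk]; exact hk'⟩, rfl⟩
  refine ⟨(mem_autGroup_iff E hRS).mp (key R hRc ho hk), fun α hα => ?_⟩
  have ha₀ : (S.subtype.comp α.toMonoidHom).comp (Subgroup.inclusion hRS) ∈ F.Hom R :=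
    restrict_mem F ((mem_autGroup_iff F le_rfl).mp hα) hRS
  obtain ⟨a, haA, hae, haO⟩ := exists_congr_aut F ha₀ ho
  have hcen : F.IsCentric ((S.subtype.comp α.toMonoidHom).comp (Subgroup.inclusion hRS)).range :=
    ⟨range_le F ha₀, fun Q hQ => hRc.2 Q (isConj_trans F ⟨_, ha₀, rfl⟩ hQ)⟩
  have hm := key _ hcen haA (haO.trans hk)
  have hm' := (mem_autGroup_iff E (range_le F ha₀)).mp hm
  have hle : amap α R ≤ ((S.subtype.comp α.toMonoidHom).comp (Subgroup.inclusion hRS)).range := by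
    rintro _ ⟨y, hy, rfl⟩
    exact ⟨⟨y, mem_subgroupOf.mp hy⟩, rfl⟩
  refine ⟨_, restrict_mem E hm' hle, fun x hx hy hz => ?_⟩
  exact hae x

variable [Finite S] [Fact p.Prime]

/-- Every map of `F` factors through the invariant core and `Aut_F(S)`. -/
theorem le_fratSystem (hS : IsPGroup p S) (F : FusionSystem S) (hF : F.IsSaturated p) (E : FusionSystem S)
    (h : ∀ P : Subgroup Ω, F.IsCentric P →
      (Subgroup.closure {α : F.autGroup P | ∃ k : ℕ, orderOf α = p ^ k}).map (F.autGroup P).subtype ≤ E.autGroup P) :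
    ∀ P : Subgroup Ω, F.Hom P ⊆ (fratSystem F E).Hom P := by
  refine hom_subset_of_aut hS F hF _ fun R hRn IH => ?_
  have hRS := hRn.1
  by_cases hReq : R = S
  · subst hReq
    intro χ hχ
    exact (mem_autGroup_iff _ le_rfl).mpr ⟨χ, hχ, R.subtype, subtype_mem _ le_rfl, fun x hx => rfl⟩
  have hlt : R < S := lt_of_le_of_ne hRS hReq
  have hRfc := fullyCentralized_of_fullyNormalized hS F hF hRn
  have hRr := receptive_of_fullyCentralized hS F hF hRfc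
  have hext : closure (extendersSet F R) ≤ (fratSystem F E).autGroup R := by
    refine (closure_le _).mpr ?_
    rintro α ⟨Q, hPQ, φ, hφ, he⟩
    have hQS := source_le F hφ
    have hc : Nat.card R < Nat.card Q :=
      lt_of_not_ge fun hle => hPQ.ne (by
        have : Finite Q := finite_of_le hQS
        exact Subgroup.eq_of_le_of_card_ge hPQ.le hle)
    have h1 := restrict_mem (fratSystem F E) (IH Q hQS hc hφ) hPQ.le
    have h2 : R.subtype.comp α.toMonoidHom = φ.comp (Subgroup.inclusion hPQ.le) := by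
      ext x
      exact (he x).symm
    apply Subgroup.subset_closure
    show R.subtype.comp α.toMonoidHom ∈ (fratSystem F E).Hom R
    rw [h2]
    exact h1
  by_cases hc : F.IsCentric R
  · obtain ⟨-, T₀, hT₀⟩ := fullyAutomized_of_fullyNormalized hS F hF hRn
    have : Finite R := finite_of_le hRS
    have : Finite (MulAut R) := finite_mulAut _
    have : Finite (F.autGroup R) := inferInstance
    obtain ⟨O, hOd⟩ : ∃ O : Subgroup (F.autGroup R), O = closure {α : F.autGroup R | ∃ k : ℕ, orderOf α = p ^ k} := ⟨_, rfl⟩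
    have hOn : O.Normal := by
      refine ⟨fun n hn g => ?_⟩
      rw [hOd] at hn ⊢
      induction hn using Subgroup.closure_induction with
      | mem a ha =>
        obtain ⟨k, hk⟩ := ha
        refine subset_closure ⟨k, ?_⟩
        rw [← hk]
        exact MulEquiv.orderOf_eq (MulAut.conj g) a
      | one => simp
      | mul a b _ _ ha hb =>
        have e : g * (a * b) * g⁻¹ = (g * a * g⁻¹) * (g * b * g⁻¹) := by group
        rw [e]
        exact Subgroup.mul_mem _ ha hb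
      | inv a _ ha =>
        have e : g * a⁻¹ * g⁻¹ = (g * a * g⁻¹)⁻¹ := by group
        rw [e]
        exact Subgroup.inv_mem _ ha
    have hT₀O : (T₀ : Subgroup (F.autGroup R)) ≤ O := by
      intro t ht
      obtain ⟨k, hk⟩ := T₀.2 ⟨t, ht⟩
      have hk' : t ^ p ^ k = 1 := congrArg (fun z : (T₀ : Subgroup (F.autGroup R)) => (z : F.autGroup R)) hk
      obtain ⟨m, -, hm⟩ := (Nat.dvd_prime_pow (Fact.out : p.Prime)).mp (orderOf_dvd_of_pow_eq_one hk')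
      rw [hOd]
      exact subset_closure ⟨m, hm⟩
    have hOX : ∀ o ∈ O, ((o : F.autGroup R) : MulAut R) ∈ (fratSystem F E).autGroup R := by
      intro o ho
      rw [hOd] at ho
      induction ho using Subgroup.closure_induction with
      | mem a ha =>
        obtain ⟨k, hk⟩ := ha
        have hk' : orderOf (a : MulAut R) = p ^ k := by
          rw [Subgroup.orderOf_coe]
          exact hk
        have h1 := pElt_mem_core F E h hc a.2 hk'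
        exact (mem_autGroup_iff _ hRS).mpr ⟨1, Subgroup.one_mem _, _, h1, fun x hx => rfl⟩
      | one => exact Subgroup.one_mem _
      | mul a b _ _ ha hb => exact Subgroup.mul_mem _ ha hb
      | inv a _ ha => exact Subgroup.inv_mem _ ha
    intro χ hχ
    obtain ⟨β, hβ, hβn⟩ := frattini_trace T₀ O (⟨χ, hχ⟩ : F.autGroup R)
    have hinf : (T₀ : Subgroup (F.autGroup R)) ⊓ O = T₀ := inf_eq_left.mpr hT₀O
    rw [hinf] at hβn
    have hνext : ((β * ⟨χ, hχ⟩ : F.autGroup R) : MulAut R) ∈ extendersSet F R := by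
      refine mem_extendersSet_of_le F hRr (β * ⟨χ, hχ⟩ : F.autGroup R).2 (normalizerIn_gt hS hlt) ?_
      intro g hg
      refine mem_extender_of_conj hg.1 hg.2 ?_
      have h1 : (⟨conjAut hg.2, autInducedBy_le_autGroup F hRS (conjAut_mem_autInducedBy hg.2 hg.1)⟩ : F.autGroup R) ∈
          (T₀ : Subgroup (F.autGroup R)) := by
        rw [hT₀]
        exact mem_subgroupOf.mpr (conjAut_mem_autInducedBy hg.2 hg.1)
      have h2 := (mem_normalizer_iff.mp hβn _).mp h1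
      rw [hT₀] at h2
      exact mem_subgroupOf.mp h2
    have h1 := hext (subset_closure hνext)
    have h2 := hOX β hβ
    have h3 := Subgroup.mul_mem _ (Subgroup.inv_mem _ h2) h1
    simpa using h3
  · exact (aut_le_closure_of_not_centric hS F hF hRn hc).trans hext

/-- Automorphisms of `p`-power order of arbitrary subgroups lie in `E`. -/
theorem pElt_mem_E (hS : IsPGroup p S) (F : FusionSystem S) (hF : F.IsSaturated p) (E : FusionSystem S)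
    (h : ∀ P : Subgroup Ω, F.IsCentric P →
      (Subgroup.closure {α : F.autGroup P | ∃ k : ℕ, orderOf α = p ^ k}).map (F.autGroup P).subtype ≤ E.autGroup P)
    {P : Subgroup Ω} (hP : P ≤ S) {o : MulAut P} (ho : o ∈ F.autGroup P) {k : ℕ} (hk : orderOf o = p ^ k) :
    o ∈ E.autGroup P := by
  have hfr := le_fratSystem hS F hF E h
  obtain ⟨R, ⟨φ, hφ, rfl⟩, hRn⟩ := exists_fullyNormalized_conj F hP
  obtain ⟨a, haA, hae, haO⟩ := exists_congr_aut F hφ ho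
  obtain ⟨hRS, T₀, hT₀⟩ := fullyAutomized_of_fullyNormalized hS F hF hRn
  have : Finite φ.range := finite_of_le hRS
  have : Finite (MulAut φ.range) := finite_mulAut _
  have : Finite (F.autGroup φ.range) := inferInstance
  have hap : IsPGroup p (zpowers (⟨a, haA⟩ : F.autGroup φ.range)) := by
    refine IsPGroup.of_card (n := k) ?_
    rw [Nat.card_zpowers, Subgroup.orderOf_mk, haO, hk]
  obtain ⟨T', hT'⟩ := hap.exists_le_sylow
  obtain ⟨c, hc⟩ := MulAction.exists_smul_eq (F.autGroup φ.range) T' T₀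
  have hb : c * ⟨a, haA⟩ * c⁻¹ ∈ (T₀ : Subgroup (F.autGroup φ.range)) := by
    rw [← hc, Sylow.coe_subgroup_smul]
    refine Subgroup.mem_pointwise_smul_iff_inv_smul_mem.mpr ?_
    have e : (MulAut.conj c)⁻¹ • (c * ⟨a, haA⟩ * c⁻¹) = (⟨a, haA⟩ : F.autGroup φ.range) := by
      simp [MulAut.smul_def]
      group
    rw [e]
    exact hT' (mem_zpowers _)
  rw [hT₀] at hb
  obtain ⟨g, hg, hge⟩ := mem_autInducedBy.mp (mem_subgroupOf.mp hb)
  -- the map `ω`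
  have hc' := (mem_autGroup_iff F hRS).mp c.2
  have hφv : ∀ x : P, φ x ∈ φ.range := fun x => ⟨x, rfl⟩
  have hω := F.comp_mem hφ hc' hφv
  obtain ⟨β, hβ, ω₀, hω₀, he⟩ := hfr P hω
  have hω₀E := invCore_le F E hω₀
  have hv₀ := (E.le_of_mem hω₀E).2
  -- the element `g'`
  obtain ⟨g', hg'd⟩ : ∃ g' : S, g' = β⁻¹ ⟨g, hg⟩ := ⟨_, rfl⟩
  have hβg : β g' = ⟨g, hg⟩ := by rw [hg'd, MulAut.apply_inv_self]
  have hkey : ∀ x : P, ω₀ (o x) = (g' : Ω) * ω₀ x * (g' : Ω)⁻¹ := by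
    intro x
    have h1 : ((c : MulAut φ.range) ⟨φ (o x), ⟨_, rfl⟩⟩ : φ.range) =
        (((c * ⟨a, haA⟩ * c⁻¹ : F.autGroup φ.range) : MulAut φ.range) ((c : MulAut φ.range) ⟨φ x, ⟨x, rfl⟩⟩)) := by
      have h2 : (⟨φ (o x), ⟨_, rfl⟩⟩ : φ.range) = a ⟨φ x, ⟨x, rfl⟩⟩ := Subtype.ext (hae x).symm
      rw [h2]
      simp
    have h3 := congrArg Subtype.val h1
    rw [hge] at h3
    have h4 := he (o x) (hv₀ _)
    have h5 := he x (hv₀ _)
    have h6 : (β ⟨ω₀ (o x), hv₀ _⟩ : S) = β (g' * ⟨ω₀ x, hv₀ _⟩ * g'⁻¹) := by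
      apply Subtype.ext
      rw [map_mul, map_mul, map_inv, hβg]
      refine h4.symm.trans ?_
      refine Eq.trans h3 ?_
      show g * ((c : MulAut φ.range) ⟨φ x, ⟨x, rfl⟩⟩ : φ.range) * g⁻¹ = g * ((β ⟨ω₀ x, hv₀ _⟩ : S) : Ω) * g⁻¹
      rw [← h5]
      rfl
    exact congrArg Subtype.val (β.injective h6)
  obtain ⟨ξ, hξ, hξe⟩ := E.inv_mem hω₀E
  have hcg := E.conj_mem (range_le E hω₀E) g'.2
  have hval : ∀ y : ω₀.range, conjHom ω₀.range g' y ∈ ω₀.range := by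
    rintro ⟨_, x, rfl⟩
    show (g' : Ω) * ω₀ x * (g' : Ω)⁻¹ ∈ ω₀.range
    rw [← hkey]
    exact ⟨_, rfl⟩
  have h1 := E.comp_mem hcg hξ hval
  have h2 := E.comp_mem hω₀E h1 (fun x => (⟨x, rfl⟩ : ω₀ x ∈ ω₀.range))
  refine (mem_autGroup_iff E hP).mpr ?_
  convert h2 using 1
  ext x
  show ((o x : P) : Ω) = ξ ⟨(g' : Ω) * ω₀ x * (g' : Ω)⁻¹, _⟩
  have h3 : (⟨(g' : Ω) * ω₀ x * (g' : Ω)⁻¹, hval ⟨ω₀ x, ⟨x, rfl⟩⟩⟩ : ω₀.range) = ⟨ω₀ (o x), ⟨_, rfl⟩⟩ :=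
    Subtype.ext (hkey x).symm
  rw [h3, hξe]

/-- **S5114**. -/
theorem frattini_main (hS : IsPGroup p S) (F : FusionSystem S) (hF : F.IsSaturated p) (E : FusionSystem S)
    (hEF : E.IsSubsystemOf F)
    (h : ∀ P : Subgroup Ω, F.IsCentric P →
      (Subgroup.closure {α : F.autGroup P | ∃ k : ℕ, orderOf α = p ^ k}).map (F.autGroup P).subtype ≤ E.autGroup P) :
    E.HasPrimeToPIndexIn F p ∧
      (∀ (P : Subgroup Ω) (φ : P →* Ω), φ ∈ F.Hom P → ∃ α ∈ F.autGroup S, ∃ φ₀ ∈ E.Hom P,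
        ∀ (x : P) (hx : φ₀ x ∈ S), φ x = ((α ⟨φ₀ x, hx⟩ : S) : Ω)) ∧
      ∀ P : Subgroup Ω, E.IsCentric P ↔ F.IsCentric P := by
  have hfr := le_fratSystem hS F hF E h
  have hdec : ∀ (P : Subgroup Ω) (φ : P →* Ω), φ ∈ F.Hom P → ∃ α ∈ F.autGroup S, ∃ φ₀ ∈ E.Hom P,
      ∀ (x : P) (hx : φ₀ x ∈ S), φ x = ((α ⟨φ₀ x, hx⟩ : S) : Ω) := by
    intro P φ hφ
    obtain ⟨α, hα, φ₀, hφ₀, he⟩ := hfr P hφ
    exact ⟨α, hα, φ₀, invCore_le F E hφ₀, he⟩
  refine ⟨⟨hEF, fun P hP => ?_⟩, hdec, fun P => ⟨fun hc => ⟨hc.1, fun Q hQ => ?_⟩, fun hc => ⟨hc.1, fun Q hQ => ?_⟩⟩⟩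
  · refine (Subgroup.map_le_iff_le_comap).mpr ((closure_le _).mpr ?_)
    rintro o ⟨k, hk⟩
    refine pElt_mem_E hS F hF E h hP o.2 (k := k) ?_
    show orderOf (o : MulAut P) = p ^ k
    rw [Subgroup.orderOf_coe]
    exact hk
  · -- `E`-centric implies `F`-centric
    obtain ⟨φ, hφ, rfl⟩ := hQ
    obtain ⟨α, hα, φ₀, hφ₀, he⟩ := hdec P φ hφ
    have hv₀ := (E.le_of_mem hφ₀).2
    have h1 := hc.2 φ₀.range ⟨φ₀, hφ₀, rfl⟩
    intro y hy
    obtain ⟨hyS, hyC⟩ := hy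
    obtain ⟨y₀, hy₀⟩ : ∃ y₀ : S, α y₀ = ⟨y, hyS⟩ := ⟨α⁻¹ ⟨y, hyS⟩, by rw [MulAut.apply_inv_self]⟩
    have hy₀C : (y₀ : Ω) ∈ centralizerIn S φ₀.range := by
      refine ⟨y₀.2, mem_centralizer_iff.mpr ?_⟩
      rintro _ ⟨x, rfl⟩
      have h2 := mem_centralizer_iff.mp hyC (φ x) ⟨x, rfl⟩
      rw [he x (hv₀ x)] at h2
      have h3 : α (⟨φ₀ x, hv₀ x⟩ * y₀) = α (y₀ * ⟨φ₀ x, hv₀ x⟩) := by
        rw [map_mul, map_mul, hy₀]
        exact Subtype.ext h2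
      exact congrArg Subtype.val (α.injective h3)
    obtain ⟨x, hx⟩ := h1 hy₀C
    refine ⟨x, ?_⟩
    rw [he x (hv₀ x)]
    have e : (⟨φ₀ x, hv₀ x⟩ : S) = y₀ := Subtype.ext hx
    rw [e, hy₀]
  · -- `F`-centric implies `E`-centric
    obtain ⟨φ, hφ, rfl⟩ := hQ
    exact hc.2 _ ⟨φ, hEF _ hφ, rfl⟩

end CfsgLib.Frat
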