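import Cfsg.Agent.Lib.MX.Res2
import Cfsg.Agent.Lib.MX.Frat
import Cfsg.Agent.Lib.Fusion.Abelian

/-! Saturated subsystems of `p`-power index over normal subgroups are normal. -/

set_option autoImplicit false
set_option linter.unusedSectionVars false
set_option linter.unusedVariables false
set_option linter.style.haveILetI false

open Subgroup Cfsg Cfsg.FusionSystem CfsgLib.Fusion CfsgLib.Frat

namespace CfsgLib.Res

variable {Ω : Type*} [Group Ω] {p : ℕ} [Fact p.Prime] {S T : Subgroup Ω} [Finite S]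

theorem stronglyClosed_of_hyperfocal_le (hS : IsPGroup p S) (F : FusionSystem S) (hF : F.IsSaturated p) (hTS : T ≤ S)
    (hTn : S ≤ normalizer (T : Set Ω)) (hT : F.hyperfocalSubgroup p ≤ T) : F.StronglyClosed T := by
  refine ⟨hTS, fun R hR φ hφ x => ?_⟩
  have := rel_of_residual hS F hF (fun x y => x ∈ T ↔ y ∈ T) (fun h => h.symm) (fun h k => h.trans k)
    (fun g hg x _ => mem_normalizer_iff.mp (hTn hg) x) (fun R' hR' β hβ y => ?_) hφ x
  · exact this.mp (hR x.2)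
  · have h1 : (y : Ω)⁻¹ * ((β : MulAut R') y : R') ∈ T := hT (hyperfocal_mem F hR' hβ y)
    constructor
    · intro h2
      have := T.mul_mem h2 h1
      simpa using this
    · intro h2
      have := T.mul_mem h2 (T.inv_mem h1)
      simpa using this

omit [Finite S] in
theorem mem_restrict_aut {F : FusionSystem S} (hTS : T ≤ S) {α : MulAut T} (hα : α ∈ F.autGroup T) :
    α ∈ (restrictSystem F T hTS).autGroup T :=
  (mem_autGroup_iff _ le_rfl).mpr ⟨(mem_autGroup_iff F hTS).mp hα, le_rfl, fun x => (α x).2⟩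

omit [Finite S] in
theorem of_restrict_aut {F : FusionSystem S} (hTS : T ≤ S) {α : MulAut T} (hα : α ∈ (restrictSystem F T hTS).autGroup T) :
    α ∈ F.autGroup T :=
  (mem_autGroup_iff F hTS).mpr ((mem_autGroup_iff _ le_rfl).mp hα).1

theorem coprime_mem_core {F : FusionSystem S} (hTS : T ≤ S) {E : FusionSystem T} (hEi : E.HasPPowerIndexIn F p)
    {Q : Subgroup Ω} (hQ : Q ≤ T) {a : MulAut Q} (ha : a ∈ F.autGroup Q) (hc : (orderOf a).Coprime p) :
    Q.subtype.comp a.toMonoidHom ∈ (invCore (restrictSystem F T hTS) E).Hom Q := by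
  have key : ∀ (R' : Subgroup Ω) (_ : R' ≤ T) {o' : MulAut R'} (_ : o' ∈ F.autGroup R') (_ : (orderOf o').Coprime p),
      o' ∈ E.autGroup R' := fun R' hR' o' ho' hk' =>
    hEi.2.2 R' hR' ⟨⟨o', ho'⟩, mem_residual_of_coprime (by rw [Subgroup.orderOf_mk]; exact hk'), rfl⟩
  refine ⟨(mem_autGroup_iff E hQ).mp (key Q hQ ha hc), fun α hα => ?_⟩
  have hα' := ((mem_autGroup_iff _ le_rfl).mp hα).1
  have ha₀ : (T.subtype.comp α.toMonoidHom).comp (Subgroup.inclusion hQ) ∈ F.Hom Q := restrict_mem F hα' hQ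
  obtain ⟨a', haA, hae, haO⟩ := exists_congr_aut F ha₀ ha
  have hrT : ((T.subtype.comp α.toMonoidHom).comp (Subgroup.inclusion hQ)).range ≤ T := by
    rintro _ ⟨x, rfl⟩
    exact (α _).2
  have hm := key _ hrT haA (by rw [haO]; exact hc)
  have hm' := (mem_autGroup_iff E hrT).mp hm
  have hle : amap α Q ≤ ((T.subtype.comp α.toMonoidHom).comp (Subgroup.inclusion hQ)).range := by
    rintro _ ⟨y, hy, rfl⟩
    exact ⟨⟨y, mem_subgroupOf.mp hy⟩, rfl⟩
  refine ⟨_, restrict_mem E hm' hle, fun x hx hy hz => ?_⟩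
  exact hae x

/-- The system of maps of `F` whose restriction to the trace on `T` lies in `X`. -/
def ySys (F : FusionSystem S) (X : FusionSystem T) (hsc : F.StronglyClosed T)
    (hc : ∀ (P : Subgroup Ω), P ≤ S → ∀ g ∈ S,
      (conjHom P g).comp (Subgroup.inclusion (inf_le_left : P ⊓ T ≤ P)) ∈ X.Hom (P ⊓ T)) : FusionSystem S where
  Hom P := {φ | φ ∈ F.Hom P ∧ φ.comp (Subgroup.inclusion (inf_le_left : P ⊓ T ≤ P)) ∈ X.Hom (P ⊓ T)}
  le_of_mem h := F.le_of_mem h.1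
  injective_of_mem h := F.injective_of_mem h.1
  conj_mem := fun hP hg => ⟨F.conj_mem hP hg, hc _ hP _ hg⟩
  comp_mem := by
    intro P Q φ ψ hφ hψ h
    refine ⟨F.comp_mem hφ.1 hψ.1 h, ?_⟩
    have hv : ∀ x : ↥(P ⊓ T), (φ.comp (Subgroup.inclusion (inf_le_left : P ⊓ T ≤ P))) x ∈ Q ⊓ T := fun x =>
      ⟨h _, hsc.2 _ inf_le_right _ (restrict_mem F hφ.1 inf_le_left) x⟩
    exact X.comp_mem hφ.2 hψ.2 hv
  inv_mem := by
    intro P φ hφ
    obtain ⟨ψ, hψ, he⟩ := F.inv_mem hφ.1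
    refine ⟨ψ, ⟨hψ, ?_⟩, he⟩
    obtain ⟨ξ, hξ, hξe⟩ := X.inv_mem hφ.2
    have hle : φ.range ⊓ T ≤ (φ.comp (Subgroup.inclusion (inf_le_left : P ⊓ T ≤ P))).range := by
      rintro y ⟨⟨x, rfl⟩, hy⟩
      have h1 := hsc.2 _ inf_le_right _ (restrict_mem F hψ (inf_le_left : φ.range ⊓ T ≤ φ.range)) ⟨φ x, ⟨x, rfl⟩, hy⟩
      have h2 : ψ ⟨φ x, ⟨x, rfl⟩⟩ = x := he x
      have h3 : (x : Ω) ∈ T := by
        rw [← h2]
        exact h1
      exact ⟨⟨x, x.2, h3⟩, rfl⟩
    have h1 := restrict_mem X hξ hle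
    convert h1 using 1
    ext ⟨y, ⟨x, rfl⟩, hy⟩
    show ψ ⟨φ x, ⟨x, rfl⟩⟩ = ξ ⟨φ x, _⟩
    rw [he]
    have h3 : (x : Ω) ∈ T := by
      have h4 := hsc.2 _ inf_le_right _ (restrict_mem F hψ (inf_le_left : φ.range ⊓ T ≤ φ.range)) ⟨φ x, ⟨x, rfl⟩, hy⟩
      have h2 : ψ ⟨φ x, ⟨x, rfl⟩⟩ = x := he x
      rw [← h2]
      exact h4
    exact (hξe ⟨x, x.2, h3⟩).symm

/-- The restriction of an automorphism of order prime to `p` to the trace on a strongly closed subgroup. -/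
theorem exists_restrict_aut {F : FusionSystem S} (hsc : F.StronglyClosed T) {R : Subgroup Ω} (hR : R ≤ S) {a : MulAut R}
    (ha : a ∈ F.autGroup R) (hc : (orderOf a).Coprime p) :
    ∃ a₀ : MulAut ↥(R ⊓ T), a₀ ∈ F.autGroup (R ⊓ T) ∧ (orderOf a₀).Coprime p ∧
      ∀ w : ↥(R ⊓ T), ((a₀ w : ↥(R ⊓ T)) : Ω) = (a ⟨w, w.2.1⟩ : R) := by
  have hf := restrict_mem F ((mem_autGroup_iff F hR).mp ha) (inf_le_left : R ⊓ T ≤ R)
  have hv : ∀ z : ↥(R ⊓ T), (R.subtype.comp a.toMonoidHom).comp (Subgroup.inclusion (inf_le_left : R ⊓ T ≤ R)) z ∈ R ⊓ T :=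
    fun z => ⟨(a _).2, hsc.2 _ inf_le_right _ hf z⟩
  have hfr := range_eq_of_self F hf hv
  obtain ⟨a₀, ha₀, ha₀e⟩ := exists_aut_of_map F hf hfr
  have ha₀v : ∀ (k : ℕ) (w : ↥(R ⊓ T)), (((a₀ ^ k) w : ↥(R ⊓ T)) : Ω) = ((a ^ k) ⟨w, w.2.1⟩ : R) := by
    intro k
    induction k with
    | zero => intro w; rfl
    | succ k ih =>
      intro w
      rw [pow_succ, MulAut.mul_apply, ih, pow_succ, MulAut.mul_apply]
      congr 2
      exact Subtype.ext (ha₀e w)
  refine ⟨a₀, ha₀, ?_, fun w => ha₀e w⟩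
  have h1 : a₀ ^ orderOf a = 1 := by
    ext w
    rw [ha₀v, pow_orderOf_eq_one]
    rfl
  exact Nat.Coprime.coprime_dvd_left (orderOf_dvd_of_pow_eq_one h1) hc

/-- **Frattini condition**: all maps of `F` on subgroups of `T` factor. -/
theorem hom_le_ySys (hS : IsPGroup p S) (F : FusionSystem S) (hF : F.IsSaturated p) (hTS : T ≤ S)
    (hTn : S ≤ normalizer (T : Set Ω)) (hsc : F.StronglyClosed T) {E : FusionSystem T} (hEi : E.HasPPowerIndexIn F p)
    {P : Subgroup Ω} {φ : P →* Ω} (hφ : φ ∈ F.Hom P) :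
    φ.comp (Subgroup.inclusion (inf_le_left : P ⊓ T ≤ P)) ∈ (fratSystem (restrictSystem F T hTS) E).Hom (P ⊓ T) := by
  have hc : ∀ (P : Subgroup Ω), P ≤ S → ∀ g ∈ S,
      (conjHom P g).comp (Subgroup.inclusion (inf_le_left : P ⊓ T ≤ P)) ∈ (fratSystem (restrictSystem F T hTS) E).Hom (P ⊓ T) := by
    intro P hP g hg
    refine ⟨conjAut (hTn hg), mem_restrict_aut hTS (autInducedBy_le_autGroup F hTS (conjAut_mem_autInducedBy (hTn hg) hg)),
      (P ⊓ T).subtype, subtype_mem _ inf_le_right, fun x hx => rfl⟩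
  have h1 := hom_subset_of_coprime hS F (ySys F _ hsc hc) hF (fun R hR a ha => ?_) P hφ
  · exact h1.2
  · have ha' : (orderOf (a : MulAut R)).Coprime p := by
      rw [Subgroup.orderOf_coe]
      exact ha
    obtain ⟨a₀, ha₀, hc₀, he₀⟩ := exists_restrict_aut hsc hR a.2 ha'
    have h2 := coprime_mem_core hTS hEi (inf_le_right : R ⊓ T ≤ T) ha₀ hc₀
    refine (mem_autGroup_iff _ hR).mpr ⟨(mem_autGroup_iff F hR).mp a.2, ?_⟩
    refine ⟨1, Subgroup.one_mem _, _, h2, fun x hx => ?_⟩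
    exact (he₀ x).symm

section ext

variable {F : FusionSystem S}

/-- The extension condition on an automorphism of `T`. -/
def ExtP (F : FusionSystem S) (α : MulAut T) : Prop :=
  ∃ β ∈ F.autGroup (T ⊔ centralizerIn S T),
    (∀ x : T, ((β (Subgroup.inclusion le_sup_left x) : ↥(T ⊔ centralizerIn S T)) : Ω) = ((α x : T) : Ω)) ∧
    ∀ c : ↥(T ⊔ centralizerIn S T), (c : Ω) ∈ centralizerIn S T →
      (c : Ω)⁻¹ * ((β c : ↥(T ⊔ centralizerIn S T)) : Ω) ∈ T ⊓ Subgroup.centralizer (T : Set Ω)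

omit [Finite S] in
theorem extP_one : ExtP F (1 : MulAut T) :=
  ⟨1, Subgroup.one_mem _, fun x => rfl, fun c hc => by
    show (c : Ω)⁻¹ * (c : Ω) ∈ _
    rw [inv_mul_cancel]
    exact Subgroup.one_mem _⟩

theorem extP_mul (hTS : T ≤ S) {α₁ α₂ : MulAut T} (h₁ : ExtP F α₁) (h₂ : ExtP F α₂) : ExtP F (α₁ * α₂) := by
  obtain ⟨β₁, hβ₁, h1a, h1b⟩ := h₁
  obtain ⟨β₂, hβ₂, h2a, h2b⟩ := h₂
  refine ⟨β₁ * β₂, Subgroup.mul_mem _ hβ₁ hβ₂, fun x => ?_, fun c hc => ?_⟩
  · have e : β₂ (Subgroup.inclusion le_sup_left x) = Subgroup.inclusion le_sup_left (α₂ x) := Subtype.ext (h2a x)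
    rw [MulAut.mul_apply, e]
    exact h1a _
  · have hz := h2b c hc
    have hzS : (c : Ω)⁻¹ * ((β₂ c : ↥(T ⊔ centralizerIn S T)) : Ω) ∈ centralizerIn S T := ⟨hTS hz.1, hz.2⟩
    have hc₂ : ((β₂ c : ↥(T ⊔ centralizerIn S T)) : Ω) ∈ centralizerIn S T := by
      have := Subgroup.mul_mem _ hc hzS
      simpa using this
    have h3 := h1b (β₂ c) hc₂
    have e : (c : Ω)⁻¹ * (((β₁ * β₂) c : ↥(T ⊔ centralizerIn S T)) : Ω) =
        ((c : Ω)⁻¹ * ((β₂ c : ↥(T ⊔ centralizerIn S T)) : Ω)) *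
          (((β₂ c : ↥(T ⊔ centralizerIn S T)) : Ω)⁻¹ * ((β₁ (β₂ c) : ↥(T ⊔ centralizerIn S T)) : Ω)) := by
      rw [MulAut.mul_apply]
      group
    rw [e]
    exact Subgroup.mul_mem _ hz h3

theorem extP_inv (hTS : T ≤ S) {α : MulAut T} (h : ExtP F α) : ExtP F α⁻¹ := by
  obtain ⟨β, hβ, ha, hb⟩ := h
  refine ⟨β⁻¹, Subgroup.inv_mem _ hβ, fun x => ?_, fun c hc => ?_⟩
  · have e : β (Subgroup.inclusion le_sup_left (α⁻¹ x)) = Subgroup.inclusion le_sup_left x := by
      apply Subtype.ext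
      refine (ha _).trans ?_
      rw [MulAut.apply_inv_self]
      rfl
    have e2 : β⁻¹ (Subgroup.inclusion le_sup_left x) = Subgroup.inclusion le_sup_left (α⁻¹ x) := by
      rw [← e, MulAut.inv_apply_self]
    rw [e2]
    rfl
  · -- `d = β⁻¹ c` centralizes `T`
    obtain ⟨d, hd⟩ : ∃ d, d = β⁻¹ c := ⟨_, rfl⟩
    have hβd : β d = c := by rw [hd, MulAut.apply_inv_self]
    have hdC : (d : Ω) ∈ centralizerIn S T := by
      refine ⟨(sup_le hTS inf_le_left : T ⊔ centralizerIn S T ≤ S) d.2, mem_centralizer_iff.mpr fun t ht => ?_⟩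
      have ht' := ha ⟨t, ht⟩
      have hcomm : c * β (Subgroup.inclusion le_sup_left ⟨t, ht⟩) = β (Subgroup.inclusion le_sup_left ⟨t, ht⟩) * c := by
        apply Subtype.ext
        have h1 : ((β (Subgroup.inclusion le_sup_left ⟨t, ht⟩) : ↥(T ⊔ centralizerIn S T)) : Ω) ∈ T := by
          rw [ht']
          exact (α _).2
        exact (mem_centralizer_iff.mp hc.2 _ h1).symm
      have h2 : β (d * Subgroup.inclusion le_sup_left ⟨t, ht⟩) = β (Subgroup.inclusion le_sup_left ⟨t, ht⟩ * d) := by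
        rw [map_mul, map_mul, hβd]
        exact hcomm
      exact (congrArg Subtype.val (β.injective h2)).symm
    have h1 := hb d hdC
    rw [hβd] at h1
    have h2 := Subgroup.inv_mem _ h1
    rw [mul_inv_rev, inv_inv] at h2
    show (c : Ω)⁻¹ * ((β⁻¹ c : ↥(T ⊔ centralizerIn S T)) : Ω) ∈ T ⊓ Subgroup.centralizer (T : Set Ω)
    rw [← hd]
    exact h2

theorem extP_inner (hTS : T ≤ S) {α : MulAut T} (h : α ∈ autInducedBy T T) : ExtP F α := by
  obtain ⟨t, ht, hte⟩ := mem_autInducedBy.mp h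
  have hUS : T ⊔ centralizerIn S T ≤ S := sup_le hTS inf_le_left
  haveI : Finite ↥(T ⊔ centralizerIn S T) := finite_of_le hUS
  have hN : t ∈ normalizer ((T ⊔ centralizerIn S T : Subgroup Ω) : Set Ω) := by
    refine mem_normalizer_of_conj_mem ?_
    have hle : T ⊔ centralizerIn S T ≤ (T ⊔ centralizerIn S T).comap (MulAut.conj t).toMonoidHom := by
      refine sup_le (fun x hx => ?_) (fun y hy => ?_)
      · exact mem_sup_left (T.mul_mem (T.mul_mem ht hx) (T.inv_mem ht))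
      · show t * y * t⁻¹ ∈ T ⊔ centralizerIn S T
        have h1 := mem_centralizer_iff.mp hy.2 t ht
        have e : t * y * t⁻¹ = y := by
          rw [h1]
          group
        rw [e]
        exact mem_sup_right hy
    exact fun x hx => hle hx
  refine ⟨conjAut hN, autInducedBy_le_autGroup F hUS (conjAut_mem_autInducedBy hN (hTS ht)), fun x => ?_, fun c hc => ?_⟩
  · exact (hte x).symm
  · have h1 := mem_centralizer_iff.mp hc.2 t ht
    have e : (c : Ω)⁻¹ * ((conjAut hN c : ↥(T ⊔ centralizerIn S T)) : Ω) = 1 := by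
      show (c : Ω)⁻¹ * (t * c * t⁻¹) = 1
      rw [h1]
      group
    rw [e]
    exact Subgroup.one_mem _

theorem extP_coprime (hS : IsPGroup p S) (hF : F.IsSaturated p) (hsc : F.StronglyClosed T)
    (hT : F.hyperfocalSubgroup p ≤ T) {α : MulAut T} (hα : α ∈ F.autGroup T) (hc : (orderOf α).Coprime p) :
    ExtP F α := by
  have hTS : T ≤ S := hsc.1
  have hUS : T ⊔ centralizerIn S T ≤ S := sup_le hTS inf_le_left
  haveI : Finite ↥(T ⊔ centralizerIn S T) := finite_of_le hUS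
  haveI : Finite (MulAut ↥(T ⊔ centralizerIn S T)) := finite_mulAut _
  have hw := weaklyClosed_of_stronglyClosed F hsc
  have hfc : F.IsFullyCentralized T := by
    refine ⟨hTS, ?_⟩
    rintro Q ⟨φ, hφ, rfl⟩
    rw [hw.2 φ hφ]
  have hr := receptive_of_fullyCentralized hS F hF hfc
  have hα' := (mem_autGroup_iff F hTS).mp hα
  obtain ⟨ψ, hψ, he⟩ := hr.2 T _ hα' (range_of_aut α)
  have hUE : T ⊔ centralizerIn S T ≤ extender S T (T.subtype.comp α.toMonoidHom) :=
    sup_le (self_le_extender hTS _ (F.le_of_mem hα').2) (centralizerIn_le_extender _)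
  have hf := restrict_mem F hψ hUE
  have hfT : ∀ x : T, (ψ.comp (Subgroup.inclusion hUE)) (Subgroup.inclusion le_sup_left x) = (α x : T) := fun x =>
    he x x.2 (hUE (mem_sup_left x.2))
  have hfC : ∀ c : ↥(T ⊔ centralizerIn S T), (c : Ω) ∈ centralizerIn S T →
      (ψ.comp (Subgroup.inclusion hUE)) c ∈ centralizerIn S T := by
    intro c hc
    refine ⟨(F.le_of_mem hf).2 c, mem_centralizer_iff.mpr fun t' ht' => ?_⟩
    obtain ⟨t, ht⟩ : ∃ t : T, α t = ⟨t', ht'⟩ := ⟨α⁻¹ ⟨t', ht'⟩, by rw [MulAut.apply_inv_self]⟩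
    have e : t' = (ψ.comp (Subgroup.inclusion hUE)) (Subgroup.inclusion le_sup_left t) := by
      rw [hfT, ht]
    rw [e, ← map_mul, ← map_mul]
    congr 1
    exact Subtype.ext (mem_centralizer_iff.mp hc.2 _ t.2)
  have hfv : ∀ x : ↥(T ⊔ centralizerIn S T), (ψ.comp (Subgroup.inclusion hUE)) x ∈ T ⊔ centralizerIn S T := by
    have hle : T ⊔ centralizerIn S T ≤ (((T ⊔ centralizerIn S T).comap (ψ.comp (Subgroup.inclusion hUE))).map (T ⊔ centralizerIn S T).subtype) := by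
      refine sup_le (fun t ht => ?_) (fun c hc => ?_)
      · refine ⟨⟨t, mem_sup_left ht⟩, ?_, rfl⟩
        show (ψ.comp (Subgroup.inclusion hUE)) (Subgroup.inclusion le_sup_left ⟨t, ht⟩) ∈ T ⊔ centralizerIn S T
        rw [hfT]
        exact mem_sup_left (α _).2
      · exact ⟨⟨c, mem_sup_right hc⟩, mem_sup_right (hfC _ hc), rfl⟩
    intro x
    obtain ⟨y, hy, hye⟩ := hle x.2
    have e : y = x := Subtype.ext hye
    rw [← e]
    exact hy
  have hfr := range_eq_of_self F hf hfv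
  obtain ⟨β₁, hβ₁, hβ₁e⟩ := exists_aut_of_map F hf hfr
  obtain ⟨e, he1, he2⟩ := exists_coprime_pow β₁ hc
  have hαe : α ^ e = α := by
    have h1 : α ^ e = α ^ (e % orderOf α) := (pow_mod_orderOf α e).symm
    rw [h1, he1, pow_mod_orderOf, pow_one]
  have hpowT : ∀ (n : ℕ) (x : T), (β₁ ^ n) (Subgroup.inclusion le_sup_left x) = Subgroup.inclusion le_sup_left ((α ^ n) x) := by
    intro n
    induction n with
    | zero => intro x; rfl
    | succ n ih =>
      intro x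
      rw [pow_succ, MulAut.mul_apply, pow_succ, MulAut.mul_apply]
      have e1 : β₁ (Subgroup.inclusion le_sup_left x) = Subgroup.inclusion le_sup_left (α x) :=
        Subtype.ext ((hβ₁e _).trans (hfT x))
      rw [e1, ih]
  have hpowC : ∀ (n : ℕ) (c : ↥(T ⊔ centralizerIn S T)), (c : Ω) ∈ centralizerIn S T →
      (((β₁ ^ n) c : ↥(T ⊔ centralizerIn S T)) : Ω) ∈ centralizerIn S T := by
    intro n
    induction n with
    | zero => intro c hc; exact hc
    | succ n ih =>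
      intro c hc
      rw [pow_succ, MulAut.mul_apply]
      refine ih _ ?_
      rw [hβ₁e]
      exact hfC c hc
  have hβe : β₁ ^ e ∈ F.autGroup (T ⊔ centralizerIn S T) := Subgroup.pow_mem _ hβ₁ e
  refine ⟨β₁ ^ e, hβe, fun x => ?_, fun c hc => ?_⟩
  · rw [hpowT, hαe]
    rfl
  · have h1 : orderOf (⟨β₁ ^ e, hβe⟩ : F.autGroup (T ⊔ centralizerIn S T)) = orderOf (β₁ ^ e) := Subgroup.orderOf_mk _ _
    have h2 := hyperfocal_mem F hUS (α := ⟨β₁ ^ e, hβe⟩) (mem_residual_of_coprime (by rw [h1]; exact he2)) c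
    refine ⟨hT h2, ?_⟩
    exact Subgroup.mul_mem _ (Subgroup.inv_mem _ hc.2) (hpowC e c hc).2

end ext

/-- **S5120**. -/
theorem isNormalIn_of_pPower (hS : IsPGroup p S) (F : FusionSystem S) (hF : F.IsSaturated p) (hTS : T ≤ S)
    (hTn : S ≤ normalizer (T : Set Ω)) (hT : F.hyperfocalSubgroup p ≤ T) (E : FusionSystem T) (hEs : E.IsSaturated p)
    (hEi : E.HasPPowerIndexIn F p) : E.IsNormalIn F p := by
  have hsc := stronglyClosed_of_hyperfocal_le hS F hF hTS hTn hT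
  haveI : Finite T := finite_of_le hTS
  have hTp : IsPGroup p T := hS.to_le hTS
  have hcore : ∀ P : Subgroup Ω, E.Hom P ⊆ (invCore (restrictSystem F T hTS) E).Hom P := by
    refine hom_subset_of_coprime hTp E _ hEs fun R hR a ha => ?_
    have h1 := hEi.1 _ ((mem_autGroup_iff E hR).mp a.2)
    have h2 : (a : MulAut R) ∈ F.autGroup R := (mem_autGroup_iff F (hR.trans hTS)).mpr h1
    have h3 : (orderOf (a : MulAut R)).Coprime p := by
      rw [Subgroup.orderOf_coe]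
      exact ha
    exact (mem_autGroup_iff _ hR).mpr (coprime_mem_core hTS hEi hR h2 h3)
  refine ⟨⟨hEs, hF, hEi.1, hsc, ?_, ?_⟩, ?_⟩
  · intro P hPT φ hφ α hα
    obtain ⟨χ, hχ, he⟩ := (hcore P hφ).2 α (mem_restrict_aut hTS hα)
    exact ⟨χ, hχ, fun x hφx hαx => he x (hPT x.2) hφx hαx⟩
  · intro P hPT φ hφ
    obtain ⟨α, hα, φ₀, hφ₀, he⟩ := hom_le_ySys hS F hF hTS hTn hsc hEi hφ
    have hle : P ≤ P ⊓ T := le_inf le_rfl hPT
    refine ⟨α, of_restrict_aut hTS hα, _, invCore_le _ _ (restrict_mem _ hφ₀ hle), fun x hx => ?_⟩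
    exact he ⟨x, hle x.2⟩ hx
  · intro α hα
    have hfa := fullyAutomized_of_fullyNormalized hTp E hEs (fullyNormalized_top E)
    obtain ⟨-, T₀, hT₀⟩ := hfa
    haveI : Finite (MulAut T) := finite_mulAut _
    obtain ⟨β, hβ, τ, hτ, he⟩ := exists_residual_mul_sylow T₀ (⟨α, hα⟩ : E.autGroup T)
    have hτ' : ExtP F (τ : MulAut T) := by
      rw [hT₀] at hτ
      exact extP_inner hTS (mem_subgroupOf.mp hτ)
    have hres : ∀ b ∈ pResidual p (E.autGroup T), ExtP F (b : MulAut T) := by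
      intro b hb
      induction hb using Subgroup.closure_induction with
      | mem a ha =>
        have h1 := hEi.1 _ ((mem_autGroup_iff E le_rfl).mp a.2)
        have h2 : (a : MulAut T) ∈ F.autGroup T := (mem_autGroup_iff F hTS).mpr h1
        have h3 : (orderOf (a : MulAut T)).Coprime p := by
          rw [Subgroup.orderOf_coe]
          exact ha
        exact extP_coprime hS hF hsc hT h2 h3
      | one => exact extP_one
      | mul a b _ _ ha hb => exact extP_mul hTS ha hb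
      | inv a _ ha => exact extP_inv hTS ha
    have e : α = (β : MulAut T) * (τ : MulAut T) := congrArg (fun z : E.autGroup T => (z : MulAut T)) he
    rw [e]
    exact extP_mul hTS (hres β hβ) hτ'

end CfsgLib.Res
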