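import Cfsg.Agent.Lib.MX.Bis1
import Cfsg.Agent.Lib.MX.Norm1

/-! Graph subgroups of `S × S` and the marks of their coset spaces. -/

set_option autoImplicit false
set_option linter.unusedSectionVars false
set_option linter.unusedVariables false
set_option linter.style.haveILetI false

open Subgroup Cfsg Cfsg.FusionSystem CfsgLib.Fusion MulAction

namespace CfsgLib.Bis

universe u
variable {Ω : Type u} [Group Ω] {S : Subgroup Ω}

/-- `S × S`. -/
abbrev KK (S : Subgroup Ω) : Type u := ↥S × ↥S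

/-- `E` is the graph of a map of `F` with source `Q`. -/
def IsGrOn (F : FusionSystem S) (Q : Subgroup Ω) (E : Subgroup (KK S)) : Prop :=
  ∃ φ ∈ F.Hom Q, ∀ a b : ↥S, (a, b) ∈ E ↔ ∃ h : (a : Ω) ∈ Q, φ ⟨a, h⟩ = b

/-- `E` is the graph of a map of `F`. -/
def IsGr (F : FusionSystem S) (E : Subgroup (KK S)) : Prop := ∃ Q, IsGrOn F Q E

theorem isGr_of_le {F : FusionSystem S} {E' E : Subgroup (KK S)} (hE'E : E' ≤ E) (hE : IsGr F E) : IsGr F E' := by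
  obtain ⟨Q, φ, hφ, hE⟩ := hE
  let Q' : Subgroup Ω := (E'.map (MonoidHom.fst _ _)).map S.subtype
  have hQ'Q : Q' ≤ Q := by
    rintro _ ⟨_, ⟨e, he, rfl⟩, rfl⟩
    obtain ⟨h, -⟩ := (hE e.1 e.2).1 (hE'E he)
    exact h
  refine ⟨Q', φ.comp (Subgroup.inclusion hQ'Q), restrict_mem F hφ hQ'Q, fun a b => ⟨fun h => ?_, ?_⟩⟩
  · have hm : (a : Ω) ∈ Q' := ⟨a, ⟨(a, b), h, rfl⟩, rfl⟩
    obtain ⟨h₁, h₂⟩ := (hE a b).1 (hE'E h)
    exact ⟨hm, h₂⟩
  · rintro ⟨hm, hv⟩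
    obtain ⟨a', ⟨e, he, rfl⟩, hae⟩ := hm
    have ha : e.1 = a := Subtype.ext hae
    obtain ⟨e₁, e₂⟩ := e
    simp only at ha
    subst ha
    obtain ⟨h₁, h₂⟩ := (hE e₁ e₂).1 (hE'E he)
    have : e₂ = b := Subtype.ext (h₂.symm.trans hv)
    rw [← this]; exact he

theorem isGr_map {F : FusionSystem S} {R₁ R₂ : Subgroup Ω} {α : R₁ →* Ω} {β : R₂ →* Ω} (hα : α ∈ F.Hom R₁)
    (hβ : β ∈ F.Hom R₂) {D D' : Subgroup (KK S)} {Q : Subgroup Ω} (hD : IsGrOn F Q D)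
    (h1 : ∀ x y : ↥S, (x, y) ∈ D → (x : Ω) ∈ R₁ ∧ (y : Ω) ∈ R₂)
    (hD' : ∀ a b : ↥S, (a, b) ∈ D' ↔ ∃ (x y : ↥S) (hx : (x : Ω) ∈ R₁) (hy : (y : Ω) ∈ R₂),
      (x, y) ∈ D ∧ α ⟨x, hx⟩ = a ∧ β ⟨y, hy⟩ = b) :
    ∃ Q', IsGrOn F Q' D' ∧ F.IsConj Q Q' := by
  obtain ⟨ρ, hρ, hD⟩ := hD
  have hQS : Q ≤ S := source_le F hρ
  have hρS : ∀ x : Q, ρ x ∈ S := fun x => (F.le_of_mem hρ).2 x
  have hpair : ∀ x : Q, ((⟨x, hQS x.2⟩ : ↥S), (⟨ρ x, hρS x⟩ : ↥S)) ∈ D := fun x =>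
    (hD _ _).2 ⟨x.2, rfl⟩
  have hQR : Q ≤ R₁ := fun x hx => (h1 _ _ (hpair ⟨x, hx⟩)).1
  have hρR : ∀ x : Q, ρ x ∈ R₂ := fun x => (h1 _ _ (hpair x)).2
  let α₀ : Q →* Ω := α.comp (Subgroup.inclusion hQR)
  have hα₀ : α₀ ∈ F.Hom Q := restrict_mem F hα hQR
  obtain ⟨α', hα', hα'v⟩ := F.inv_mem hα₀
  have h₁ : ∀ t : α₀.range, α' t ∈ Q := by
    rintro ⟨_, x, rfl⟩
    rw [hα'v]; exact x.2
  have hρ₁ := F.comp_mem hα' hρ h₁
  have h₂ : ∀ t : α₀.range, (ρ.comp (α'.codRestrict Q h₁)) t ∈ R₂ := fun t => hρR _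
  have hτ := F.comp_mem hρ₁ hβ h₂
  refine ⟨α₀.range, ⟨_, hτ, ?_⟩, α₀, hα₀, rfl⟩
  have hval : ∀ (x : Q) (h : α₀ x ∈ α₀.range), (β.comp ((ρ.comp (α'.codRestrict Q h₁)).codRestrict R₂ h₂)) ⟨α₀ x, h⟩ = β ⟨ρ x, hρR x⟩ := by
    intro x h
    have e : α' ⟨α₀ x, h⟩ = (x : Ω) := hα'v x
    have e' : (α'.codRestrict Q h₁) ⟨α₀ x, h⟩ = x := Subtype.ext e
    simp only [MonoidHom.comp_apply]
    rw [show (ρ.comp (α'.codRestrict Q h₁)).codRestrict R₂ h₂ ⟨α₀ x, h⟩ = ⟨ρ x, hρR x⟩ from Subtype.ext (by simp [e'])]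
  intro a b
  rw [hD']
  constructor
  · rintro ⟨x, y, hx, hy, hxy, h₁', h₂'⟩
    obtain ⟨hxQ, hv⟩ := (hD x y).1 hxy
    have hmem : (a : Ω) ∈ α₀.range := ⟨⟨x, hxQ⟩, h₁'⟩
    refine ⟨hmem, ?_⟩
    have e : (⟨(a : Ω), hmem⟩ : α₀.range) = ⟨α₀ ⟨x, hxQ⟩, ⟨⟨x, hxQ⟩, rfl⟩⟩ := Subtype.ext h₁'.symm
    rw [e]
    refine (hval _ _).trans ?_
    refine Eq.trans ?_ h₂'
    congr 1
    exact Subtype.ext hv
  · rintro ⟨⟨x, hx⟩, hv⟩
    have hm := h1 _ _ (hpair x)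
    refine ⟨⟨x, hQS x.2⟩, ⟨ρ x, hρS x⟩, hm.1, hm.2, hpair x, hx, ?_⟩
    rw [← hv]
    have e : (⟨(a : Ω), ⟨x, hx⟩⟩ : α₀.range) = ⟨α₀ x, ⟨x, rfl⟩⟩ := Subtype.ext hx.symm
    rw [e]
    exact (hval _ _).symm

theorem isGr_conj {F : FusionSystem S} {E : Subgroup (KK S)} {Q : Subgroup Ω} (hE : IsGrOn F Q E) (g : KK S) :
    ∃ Q', IsGrOn F Q' (E.map (MulAut.conj g).toMonoidHom) ∧ F.IsConj Q Q' := by
  refine isGr_map (R₁ := S) (R₂ := S) (α := conjHom S (g.1 : Ω)) (β := conjHom S (g.2 : Ω))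
    (F.conj_mem le_rfl g.1.2) (F.conj_mem le_rfl g.2.2) hE (fun x y _ => ⟨x.2, y.2⟩) ?_
  intro a b
  constructor
  · rintro ⟨⟨x, y⟩, he, hv⟩
    have h1 : g.1 * x * g.1⁻¹ = a := congrArg Prod.fst hv
    have h2 : g.2 * y * g.2⁻¹ = b := congrArg Prod.snd hv
    exact ⟨x, y, x.2, y.2, he, by simpa [conjHom] using congrArg Subtype.val h1, by simpa [conjHom] using congrArg Subtype.val h2⟩
  · rintro ⟨x, y, hx, hy, he, h₁, h₂⟩
    refine ⟨(x, y), he, ?_⟩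
    refine Prod.ext (Subtype.ext ?_) (Subtype.ext ?_)
    · simpa [conjHom] using h₁
    · simpa [conjHom] using h₂

theorem card_of_isGrOn {F : FusionSystem S} {E : Subgroup (KK S)} {Q : Subgroup Ω} (hE : IsGrOn F Q E) :
    Nat.card E = Nat.card Q := by
  obtain ⟨ρ, hρ, hD⟩ := hE
  have hQS : Q ≤ S := source_le F hρ
  have hρS : ∀ x : Q, ρ x ∈ S := fun x => (F.le_of_mem hρ).2 x
  refine Nat.card_congr (Equiv.ofBijective (fun e : E => (⟨e.1.1, ((hD e.1.1 e.1.2).1 e.2).1⟩ : Q)) ⟨?_, ?_⟩)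
  · rintro ⟨⟨a, b⟩, he⟩ ⟨⟨a', b'⟩, he'⟩ h
    have h' : a = a' := Subtype.ext (congrArg (fun z : Q => (z : Ω)) h)
    subst h'
    obtain ⟨_, h₁⟩ := (hD a b).1 he
    obtain ⟨_, h₂⟩ := (hD a b').1 he'
    have : b = b' := Subtype.ext (h₁.symm.trans h₂)
    subst this; rfl
  · intro x
    exact ⟨⟨(⟨x, hQS x.2⟩, ⟨ρ x, hρS x⟩), (hD _ _).2 ⟨x.2, rfl⟩⟩, rfl⟩

section Marks
variable {K : Type*} [Group K]

theorem fx_conj {Y : Type*} [MulAction K Y] (g : K) (D : Subgroup K) :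
    fx (Y := Y) (D.map (MulAut.conj g).toMonoidHom) = fx (Y := Y) D := by
  unfold fx
  refine Nat.card_congr (Equiv.subtypeEquiv (MulAction.toPerm g⁻¹) ?_)
  intro y
  constructor
  · intro h d hd
    have this : (g * d * g⁻¹) • y = y := h _ ⟨d, hd, rfl⟩
    rw [toPerm_apply]
    calc d • g⁻¹ • y = g⁻¹ • ((g * d * g⁻¹) • y) := by simp [mul_smul]
      _ = g⁻¹ • y := by rw [this]
  · rintro h _ ⟨d, hd, rfl⟩
    have this := h d hd
    rw [toPerm_apply] at this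
    change (g * d * g⁻¹) • y = y
    rw [mul_smul, mul_smul, this, smul_inv_smul]

theorem smul_mk_iff (E : Subgroup K) (k g : K) :
    k • (QuotientGroup.mk g : K ⧸ E) = QuotientGroup.mk g ↔ k ∈ E.map (MulAut.conj g).toMonoidHom := by
  rw [MulAction.Quotient.smul_mk, QuotientGroup.eq]
  constructor
  · intro h
    refine ⟨g⁻¹ * k * g, ?_, by simp [mul_assoc]⟩
    have := E.inv_mem h
    simpa [mul_assoc] using this
  · rintro ⟨e, he, rfl⟩
    have := E.inv_mem he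
    simpa [mul_assoc] using this

/-- marks of coset spaces -/
noncomputable abbrev tm (D E : Subgroup K) : ℕ := fx (Y := K ⧸ E) D

theorem exists_conj_of_tm_ne_zero {D E : Subgroup K} (h : tm D E ≠ 0) :
    ∃ g : K, D ≤ E.map (MulAut.conj g).toMonoidHom := by
  unfold tm fx at h
  have : Nonempty {y : K ⧸ E // ∀ d ∈ D, d • y = y} := by
    by_contra hc
    rw [not_nonempty_iff] at hc
    exact h Nat.card_of_isEmpty
  obtain ⟨⟨y, hy⟩⟩ := this
  obtain ⟨g, rfl⟩ := QuotientGroup.mk_surjective y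
  exact ⟨g, fun d hd => (smul_mk_iff E d g).1 (hy d hd)⟩

theorem card_conj (E : Subgroup K) (g : K) : Nat.card (E.map (MulAut.conj g).toMonoidHom) = Nat.card E :=
  Subgroup.card_map_of_injective (MulAut.conj g).injective

/-- the index of `E` in its normalizer -/
noncomputable def uu (E : Subgroup K) : ℕ := (E.subgroupOf (normalizer (E : Set K))).index

theorem tm_self [Finite K] (E : Subgroup K) : tm E E = uu E := by
  unfold tm fx uu Subgroup.index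
  refine Nat.card_congr ?_
  refine Equiv.trans ?_ (Sylow.fixedPointsMulLeftCosetsEquivQuotient E)
  refine Equiv.subtypeEquivRight ?_
  intro y
  rw [MulAction.mem_fixedPoints]
  exact ⟨fun h m => h m m.2, fun h d hd => h ⟨d, hd⟩⟩

theorem uu_pos [Finite K] (E : Subgroup K) : 0 < uu E := by
  unfold uu
  exact Nat.pos_of_ne_zero Subgroup.index_ne_zero_of_finite

theorem tm_eq_of_card [Finite K] {D E : Subgroup K} (h : tm D E ≠ 0) (hc : Nat.card E ≤ Nat.card D) :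
    ∃ g : K, D = E.map (MulAut.conj g).toMonoidHom ∧ tm D E = uu E := by
  obtain ⟨g, hg⟩ := exists_conj_of_tm_ne_zero h
  have e : D = E.map (MulAut.conj g).toMonoidHom := Subgroup.eq_of_le_of_card_ge hg (by rw [card_conj]; exact hc)
  refine ⟨g, e, ?_⟩
  rw [e]
  unfold tm
  rw [fx_conj]
  exact tm_self E

theorem tm_conj_self [Finite K] (E : Subgroup K) (g : K) : tm (E.map (MulAut.conj g).toMonoidHom) E = uu E := by
  unfold tm
  rw [fx_conj]; exact tm_self E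

theorem tm_eq_zero_of_card [Finite K] {D E : Subgroup K} (hc : Nat.card E < Nat.card D) : tm D E = 0 := by
  by_contra h
  obtain ⟨g, hg⟩ := exists_conj_of_tm_ne_zero h
  have := Subgroup.card_le_of_le hg
  rw [card_conj] at this
  omega

end Marks

section Multi
variable {K : Type*} [Group K] [Finite K]

noncomputable instance : Fintype (Subgroup K) := Fintype.ofFinite _

/-- The coset family with multiplicities `c`. -/
def YS (c : Subgroup K → ℕ) : Type _ := Σ x : (Σ E : Subgroup K, Fin (c E)), K ⧸ x.1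

instance (c : Subgroup K → ℕ) : MulAction K (YS c) := inferInstanceAs (MulAction K (Σ x : (Σ E : Subgroup K, Fin (c E)), K ⧸ x.1))

noncomputable instance (c : Subgroup K → ℕ) : Fintype (YS c) :=
  haveI : Finite (YS c) := inferInstanceAs (Finite (Σ x : (Σ E : Subgroup K, Fin (c E)), K ⧸ x.1))
  Fintype.ofFinite _

/-- the mark of the coset family -/
noncomputable def mk (c : Subgroup K → ℕ) (D : Subgroup K) : ℕ := ∑ E, c E * tm D E

theorem fx_YS (c : Subgroup K → ℕ) (D : Subgroup K) : fx (Y := YS c) D = mk c D := by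
  unfold fx mk
  have e : {y : YS c // ∀ d ∈ D, d • y = y} ≃ Σ x : (Σ E : Subgroup K, Fin (c E)), {z : K ⧸ x.1 // ∀ d ∈ D, d • z = z} :=
    { toFun := fun y => ⟨y.1.1, ⟨y.1.2, fun d hd => by
        have := y.2 d hd
        obtain ⟨⟨x, z⟩, hz⟩ := y
        exact eq_of_heq (Sigma.mk.inj_iff.1 this).2⟩⟩
      invFun := fun y => ⟨⟨y.1, y.2.1⟩, fun d hd => by
        have := y.2.2 d hd
        exact Sigma.ext rfl (heq_of_eq this)⟩
      left_inv := fun y => rfl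
      right_inv := fun y => rfl }
  rw [Nat.card_congr e, Nat.card_sigma, Fintype.sum_sigma]
  refine Finset.sum_congr rfl fun E _ => ?_
  change ∑ _x : Fin (c E), Nat.card {z : K ⧸ E // ∀ d ∈ D, d • z = z} = c E * Nat.card {z : K ⧸ E // ∀ d ∈ D, d • z = z}
  simp only [Finset.sum_const, Finset.card_univ, Fintype.card_fin, smul_eq_mul]

theorem mk_conj (c : Subgroup K → ℕ) (D : Subgroup K) (g : K) : mk c (D.map (MulAut.conj g).toMonoidHom) = mk c D := by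
  unfold mk tm
  refine Finset.sum_congr rfl fun E _ => ?_
  rw [fx_conj]

theorem card_YS (c : Subgroup K → ℕ) : Nat.card (YS c) = ∑ E, c E * E.index := by
  have e : Nat.card (YS c) = Nat.card (Σ x : (Σ E : Subgroup K, Fin (c E)), K ⧸ x.1) := rfl
  rw [e, Nat.card_sigma, Fintype.sum_sigma]
  refine Finset.sum_congr rfl fun E _ => ?_
  change ∑ _x : Fin (c E), Nat.card (K ⧸ E) = c E * E.index
  simp only [Finset.sum_const, Finset.card_univ, Fintype.card_fin, smul_eq_mul, Subgroup.index]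

end Multi

end CfsgLib.Bis
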