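import Cfsg.Agent.Lib.MX.Bis2

/-! The congruence of marks of coset families. -/

set_option autoImplicit false
set_option linter.unusedSectionVars false
set_option linter.unusedVariables false
set_option linter.style.haveILetI false

open Subgroup Cfsg Cfsg.FusionSystem CfsgLib.Fusion MulAction

namespace CfsgLib.Bis

universe u
variable {Ω : Type u} [Group Ω] {S : Subgroup Ω}

/-- the diagonal over `P` -/
def diag (S P : Subgroup Ω) : Subgroup (KK S) where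
  carrier := {x | x.1 = x.2 ∧ (x.1 : Ω) ∈ P}
  mul_mem' := by
    rintro a b ⟨h₁, h₂⟩ ⟨h₃, h₄⟩
    exact ⟨by simp [h₁, h₃], P.mul_mem h₂ h₄⟩
  one_mem' := ⟨rfl, P.one_mem⟩
  inv_mem' := by
    rintro a ⟨h₁, h₂⟩
    exact ⟨by simp [h₁], P.inv_mem h₂⟩

theorem mem_diag {P : Subgroup Ω} {a b : ↥S} : (a, b) ∈ diag S P ↔ a = b ∧ (a : Ω) ∈ P := Iff.rfl

theorem isGrOn_diag (F : FusionSystem S) {P : Subgroup Ω} (hP : P ≤ S) : IsGrOn F P (diag S P) :=
  ⟨P.subtype, subtype_mem F hP, fun a b => ⟨fun h => ⟨h.2, congrArg Subtype.val h.1⟩, fun ⟨h, e⟩ => ⟨Subtype.ext e, h⟩⟩⟩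

variable [Finite S]

theorem mk_eq_zero {F : FusionSystem S} {c : Subgroup (KK S) → ℕ} (hgr : ∀ E, c E ≠ 0 → IsGr F E) {D : Subgroup (KK S)}
    (hD : ¬ IsGr F D) : mk c D = 0 := by
  unfold mk
  refine Finset.sum_eq_zero fun E _ => ?_
  by_contra h
  have h₁ : c E ≠ 0 := fun h0 => h (by simp [h0])
  have h₂ : tm D E ≠ 0 := fun h0 => h (by simp [h0])
  obtain ⟨g, hg⟩ := exists_conj_of_tm_ne_zero h₂
  obtain ⟨Q, hQ⟩ := hgr E h₁
  obtain ⟨Q', hQ', -⟩ := isGr_conj hQ g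
  exact hD (isGr_of_le hg ⟨Q', hQ'⟩)

variable {p : ℕ} [Fact p.Prime]

theorem congr_marks (hS : IsPGroup p S) (F : FusionSystem S) (hF : F.IsSaturated p) {c : Subgroup (KK S) → ℕ}
    (hgr : ∀ E, c E ≠ 0 → IsGr F E) (n : ℕ)
    (hlev : ∀ (Q Q' : Subgroup Ω) (E E' : Subgroup (KK S)), IsGrOn F Q E → IsGrOn F Q' E' → F.IsConj Q Q' →
      n < Nat.card Q → mk c E = mk c E')
    {Q : Subgroup Ω} {E : Subgroup (KK S)} (hE : IsGrOn F Q E) (hn : Nat.card Q = n) {P₀ : Subgroup Ω}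
    (hfn : F.IsFullyNormalized P₀) (hconj : F.IsConj Q P₀) :
    uu E ∣ uu (diag S P₀) ∧ mk c E ≡ mk c (diag S P₀) [MOD uu E] := by
  have hEc := card_of_isGrOn hE
  obtain ⟨ψ, hψ, hEψ⟩ := hE
  have hQS : Q ≤ S := source_le F hψ
  have hψS : ∀ x, ψ x ∈ S := (F.le_of_mem hψ).2
  have hrec : F.IsReceptive P₀ := receptive_of_fullyCentralized hS F hF (fullyCentralized_of_fullyNormalized hS F hF hfn)
  have hfa : F.IsFullyAutomized p P₀ := fullyAutomized_of_fullyNormalized hS F hF hfn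
  obtain ⟨αh, hαh, hαhv, hαhQ⟩ := exists_map_normalizer hS F P₀ Q hfa hrec hconj
  have hαhS : ∀ x, αh x ∈ S := (F.le_of_mem hαh).2
  have hQN : Q ≤ normalizerIn S Q := fun x hx => ⟨hQS hx, Subgroup.le_normalizer hx⟩
  let α₀ : Q →* Ω := αh.comp (Subgroup.inclusion hQN)
  have hα₀ : α₀ ∈ F.Hom Q := restrict_mem F hαh hQN
  have hα₀r : α₀.range = P₀ := by
    rw [← hαhQ]
    ext y
    constructor
    · rintro ⟨x, rfl⟩
      exact ⟨⟨(x : Ω), hQN x.2⟩, x.2, rfl⟩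
    · rintro ⟨x, hx', rfl⟩
      exact ⟨⟨x.1, hx'⟩, rfl⟩
  obtain ⟨ψ', hψ', hψ'v⟩ := F.inv_mem hψ
  have h₁ : ∀ t : ψ.range, ψ' t ∈ Q := by
    rintro ⟨_, x, rfl⟩
    rw [hψ'v]; exact x.2
  have hβ := F.comp_mem hψ' hα₀ h₁
  obtain ⟨β, hβe⟩ : ∃ β, β = α₀.comp (ψ'.codRestrict Q h₁) := ⟨_, rfl⟩
  rw [← hβe] at hβ
  have hβv : ∀ (x : Q) (h : ψ x ∈ ψ.range), β ⟨ψ x, h⟩ = α₀ x := by
    intro x h
    rw [hβe, MonoidHom.comp_apply]
    congr 1
    exact Subtype.ext (hψ'v x)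
  have hβr : β.range = P₀ := by
    rw [← hα₀r]
    ext y
    constructor
    · rintro ⟨⟨_, x, rfl⟩, rfl⟩
      exact ⟨x, (hβv x _).symm⟩
    · rintro ⟨x, rfl⟩
      exact ⟨⟨ψ x, ⟨x, rfl⟩⟩, hβv x _⟩
  obtain ⟨βh, hβh, hβhv⟩ := hrec.2 _ β hβ hβr
  have hβhS : ∀ x, βh x ∈ S := (F.le_of_mem hβh).2
  -- the normalizer
  have hconjE : ∀ m : normalizer (E : Set (KK S)), ∀ x : Q, ∃ (hq : ((m.1.1 : Ω) * x * (m.1.1 : Ω)⁻¹) ∈ Q),
      ψ ⟨_, hq⟩ = (m.1.2 : Ω) * ψ x * (m.1.2 : Ω)⁻¹ := by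
    intro m x
    have hx : ((⟨x, hQS x.2⟩ : ↥S), (⟨ψ x, hψS x⟩ : ↥S)) ∈ E := (hEψ _ _).2 ⟨x.2, rfl⟩
    have h2 := (mem_normalizer_iff.1 m.2 _).1 hx
    have h3 : (m.1 * ((⟨x, hQS x.2⟩ : ↥S), (⟨ψ x, hψS x⟩ : ↥S)) * m.1⁻¹) = ((m.1.1 * ⟨x, hQS x.2⟩ * m.1.1⁻¹, m.1.2 * ⟨ψ x, hψS x⟩ * m.1.2⁻¹)) := rfl
    rw [h3] at h2
    exact (hEψ _ _).1 h2
  have hpr1 : ∀ m : normalizer (E : Set (KK S)), (m.1.1 : Ω) ∈ normalizerIn S Q := by
    intro m
    haveI : Finite Q := finite_of_le hQS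
    exact ⟨m.1.1.2, mem_normalizer_of_conj_mem (fun x hx => (hconjE m ⟨x, hx⟩).1)⟩
  have hpr2 : ∀ m : normalizer (E : Set (KK S)), (m.1.2 : Ω) ∈ extender S ψ.range β := by
    intro m
    refine Subgroup.subset_closure ⟨m.1.2.2, ?_, αh ⟨m.1.1, hpr1 m⟩, hαhS _, ?_⟩
    · haveI : Finite ψ.range := finite_of_le (range_le F hψ)
      refine mem_normalizer_of_conj_mem ?_
      rintro _ ⟨x, rfl⟩
      obtain ⟨hq, hv⟩ := hconjE m x
      exact ⟨⟨_, hq⟩, hv⟩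
    · rintro ⟨_, x, rfl⟩ hx
      obtain ⟨hq, hv⟩ := hconjE m x
      have e : (⟨(m.1.2 : Ω) * ψ x * (m.1.2 : Ω)⁻¹, hx⟩ : ψ.range) = ⟨ψ ⟨_, hq⟩, ⟨_, rfl⟩⟩ := Subtype.ext hv.symm
      refine (congrArg β e).trans ((hβv _ _).trans ?_)
      have e₂ := hβv x ⟨x, rfl⟩
      refine Eq.trans ?_ (congrArg (fun z => αh ⟨m.1.1, hpr1 m⟩ * z * (αh ⟨m.1.1, hpr1 m⟩)⁻¹) e₂).symm
      change αh ⟨_, hQN hq⟩ = αh ⟨m.1.1, hpr1 m⟩ * αh ⟨x, hQN x.2⟩ * (αh ⟨m.1.1, hpr1 m⟩)⁻¹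
      rw [← map_inv, ← map_mul, ← map_mul]
      rfl
  obtain ⟨Θ, hΘ⟩ : ∃ Θ : normalizer (E : Set (KK S)) →* KK S, ∀ m, Θ m = ((⟨αh ⟨m.1.1, hpr1 m⟩, hαhS _⟩ : ↥S), (⟨βh ⟨m.1.2, hpr2 m⟩, hβhS _⟩ : ↥S)) :=
    ⟨MonoidHom.mk' (fun m => ((⟨αh ⟨m.1.1, hpr1 m⟩, hαhS _⟩ : ↥S), (⟨βh ⟨m.1.2, hpr2 m⟩, hβhS _⟩ : ↥S))) (by
      intro a b
      refine Prod.ext (Subtype.ext ?_) (Subtype.ext ?_)
      · exact map_mul αh ⟨a.1.1, hpr1 a⟩ ⟨b.1.1, hpr1 b⟩
      · exact map_mul βh ⟨a.1.2, hpr2 a⟩ ⟨b.1.2, hpr2 b⟩), fun m => rfl⟩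
  have hΘinj : Function.Injective Θ := by
    intro a b hab
    rw [hΘ, hΘ] at hab
    have h₁ := congrArg (fun z : KK S => (z.1 : Ω)) hab
    have h₂ := congrArg (fun z : KK S => (z.2 : Ω)) hab
    have h₁' := F.injective_of_mem hαh h₁
    have h₂' := F.injective_of_mem hβh h₂
    refine Subtype.ext (Prod.ext (Subtype.ext ?_) (Subtype.ext ?_))
    · exact congrArg (fun z : normalizerIn S Q => (z : Ω)) h₁'
    · exact congrArg (fun z : extender S ψ.range β => (z : Ω)) h₂'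
  obtain ⟨E', hE'⟩ : ∃ E' : Subgroup (normalizer (E : Set (KK S))), E' = E.subgroupOf (normalizer (E : Set (KK S))) := ⟨_, rfl⟩
  haveI hnorm : E'.Normal := by rw [hE']; infer_instance
  have hmap₁ : E'.map (normalizer (E : Set (KK S))).subtype = E := by
    rw [hE']; exact map_subgroupOf_eq_of_le Subgroup.le_normalizer
  have hmapΘ : E'.map Θ = diag S P₀ := by
    ext ⟨a, b⟩
    constructor
    · rintro ⟨m, hm, hv⟩
      have hm2 : m ∈ E' := hm
      rw [hE', mem_subgroupOf] at hm2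
      have hm' : (m.1.1, m.1.2) ∈ E := hm2
      obtain ⟨hq, hv'⟩ := (hEψ _ _).1 hm'
      rw [hΘ] at hv
      have h₁' : αh ⟨m.1.1, hpr1 m⟩ = a := congrArg (fun z : KK S => (z.1 : Ω)) hv
      have h₂' : βh ⟨m.1.2, hpr2 m⟩ = b := congrArg (fun z : KK S => (z.2 : Ω)) hv
      have hr : (m.1.2 : Ω) ∈ ψ.range := ⟨⟨_, hq⟩, hv'⟩
      rw [hβhv (m.1.2 : Ω) hr (hpr2 m)] at h₂'
      have e : (⟨(m.1.2 : Ω), hr⟩ : ψ.range) = ⟨ψ ⟨_, hq⟩, ⟨_, rfl⟩⟩ := Subtype.ext hv'.symm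
      have h₂'' : α₀ ⟨_, hq⟩ = b := (hβv ⟨_, hq⟩ ⟨_, rfl⟩).symm.trans ((congrArg β e.symm).trans h₂')
      have h₃ : α₀ ⟨_, hq⟩ = a := h₁'
      refine ⟨Subtype.ext (h₃.symm.trans h₂''), ?_⟩
      rw [← hα₀r, ← h₃]
      exact ⟨_, rfl⟩
    · intro hmemd
      obtain ⟨hab, ha⟩ := mem_diag.1 hmemd
      subst hab
      rw [← hα₀r] at ha
      obtain ⟨x, hx⟩ := ha
      have hxE : ((⟨x, hQS x.2⟩ : ↥S), (⟨ψ x, hψS x⟩ : ↥S)) ∈ E := (hEψ _ _).2 ⟨x.2, rfl⟩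
      refine ⟨⟨_, Subgroup.le_normalizer hxE⟩, ?_, ?_⟩
      · change (⟨_, Subgroup.le_normalizer hxE⟩ : normalizer (E : Set (KK S))) ∈ E'
        rw [hE', mem_subgroupOf]; exact hxE
      · rw [hΘ]
        refine Prod.ext (Subtype.ext ?_) (Subtype.ext ?_)
        · exact hx
        · have hr : ψ x ∈ ψ.range := ⟨x, rfl⟩
          refine Eq.trans (hβhv (ψ x) hr _) ?_
          rw [hβv]; exact hx
  have hcongr : mk c E ≡ mk c (diag S P₀) [MOD uu E] := by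
    have hidx : uu E = E'.index := by rw [hE']; rfl
    by_cases hne : Nonempty (YS c)
    · have := fx_modEq (Y := YS c) (normalizer (E : Set (KK S))).subtype Θ E' ?_
      · rw [hmap₁, hmapΘ, fx_YS, fx_YS] at this
        rw [hidx]; exact this
      · intro D hD
        rw [fx_YS, fx_YS]
        have hDcard : n < Nat.card (D.map (normalizer (E : Set (KK S))).subtype) := by
          rw [Subgroup.card_map_of_injective (Subgroup.subtype_injective _)]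
          have h1 : Nat.card E' < Nat.card D :=
            lt_of_not_ge (fun hge => hD.ne (Subgroup.eq_of_le_of_card_ge hD.le hge))
          have h2 : Nat.card E' = Nat.card E := by
            have := Subgroup.card_map_of_injective (K := E') (f := (normalizer (E : Set (KK S))).subtype) (Subgroup.subtype_injective _)
            rw [hmap₁] at this; exact this.symm
          omega
        -- domain facts
        have hD1 : ∀ x y : ↥S, (x, y) ∈ D.map (normalizer (E : Set (KK S))).subtype → (x : Ω) ∈ normalizerIn S Q ∧ (y : Ω) ∈ extender S ψ.range β := by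
          rintro x y ⟨m, hm, hv⟩
          have h1 : m.1.1 = x := congrArg Prod.fst hv
          have h2 : m.1.2 = y := congrArg Prod.snd hv
          rw [← h1, ← h2]
          exact ⟨hpr1 m, hpr2 m⟩
        have hD2 : ∀ a b : ↥S, (a, b) ∈ D.map Θ ↔ ∃ (x y : ↥S) (hx : (x : Ω) ∈ normalizerIn S Q) (hy : (y : Ω) ∈ extender S ψ.range β),
            (x, y) ∈ D.map (normalizer (E : Set (KK S))).subtype ∧ αh ⟨x, hx⟩ = a ∧ βh ⟨y, hy⟩ = b := by
          intro a b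
          constructor
          · rintro ⟨m, hm, hv⟩
            rw [hΘ] at hv
            exact ⟨m.1.1, m.1.2, hpr1 m, hpr2 m, ⟨m, hm, rfl⟩, congrArg (fun z : KK S => (z.1 : Ω)) hv, congrArg (fun z : KK S => (z.2 : Ω)) hv⟩
          · rintro ⟨x, y, hx, hy, ⟨m, hm, hv⟩, h₁', h₂'⟩
            refine ⟨m, hm, ?_⟩
            rw [hΘ]
            have e₁ : m.1.1 = x := congrArg Prod.fst hv
            have e₂ : m.1.2 = y := congrArg Prod.snd hv
            subst e₁ e₂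
            exact Prod.ext (Subtype.ext h₁') (Subtype.ext h₂')
        by_cases hg : IsGr F (D.map (normalizer (E : Set (KK S))).subtype)
        · obtain ⟨Q₁, hQ₁⟩ := hg
          obtain ⟨Q₂, hQ₂, hc⟩ := isGr_map hαh hβh hQ₁ hD1 hD2
          refine hlev Q₁ Q₂ _ _ hQ₁ hQ₂ hc ?_
          rw [← card_of_isGrOn hQ₁]; exact hDcard
        · rw [mk_eq_zero hgr hg, mk_eq_zero hgr]
          -- converse
          rintro ⟨Q₂, hQ₂⟩
          refine hg ?_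
          obtain ⟨α', hα', hα'v⟩ := F.inv_mem hαh
          obtain ⟨β', hβ', hβ'v⟩ := F.inv_mem hβh
          obtain ⟨Q₁, hQ₁, -⟩ := isGr_map (D' := D.map (normalizer (E : Set (KK S))).subtype) hα' hβ' hQ₂ (by
            intro x y hxy
            obtain ⟨a, b, ha, hb, -, h₁', h₂'⟩ := (hD2 x y).1 hxy
            exact ⟨⟨_, h₁'⟩, ⟨_, h₂'⟩⟩) (by
            intro a b
            constructor
            · intro hab
              obtain ⟨hx, hy⟩ := hD1 a b hab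
              refine ⟨⟨_, hαhS ⟨a, hx⟩⟩, ⟨_, hβhS ⟨b, hy⟩⟩, ⟨_, rfl⟩, ⟨_, rfl⟩, (hD2 _ _).2 ⟨a, b, hx, hy, hab, rfl, rfl⟩, ?_, ?_⟩
              · exact hα'v ⟨a, hx⟩
              · exact hβ'v ⟨b, hy⟩
            · rintro ⟨x, y, hx, hy, hxy, h₁', h₂'⟩
              obtain ⟨a', b', ha', hb', hab', e₁, e₂⟩ := (hD2 x y).1 hxy
              have e₃ : (⟨(x : Ω), hx⟩ : αh.range) = ⟨αh ⟨a', ha'⟩, ⟨_, rfl⟩⟩ := Subtype.ext e₁.symm
              have e₄ : (⟨(y : Ω), hy⟩ : βh.range) = ⟨βh ⟨b', hb'⟩, ⟨_, rfl⟩⟩ := Subtype.ext e₂.symm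
              rw [e₃, hα'v] at h₁'
              rw [e₄, hβ'v] at h₂'
              have : a' = a := Subtype.ext h₁'
              have h' : b' = b := Subtype.ext h₂'
              subst this h'
              exact hab')
          exact ⟨Q₁, hQ₁⟩
    · rw [not_nonempty_iff] at hne
      have h0 : ∀ D, mk c D = 0 := by
        intro D
        rw [← fx_YS]
        unfold fx
        exact Nat.card_of_isEmpty
      rw [h0, h0]
  refine ⟨?_, hcongr⟩
  -- divisibility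
  have hle : Θ.range ≤ normalizer ((diag S P₀ : Subgroup (KK S)) : Set (KK S)) := by
    have h₁ := Subgroup.le_normalizer_map (H := E') Θ
    rw [hmapΘ, Subgroup.normalizer_eq_top (H := E'), ← MonoidHom.range_eq_map] at h₁
    exact h₁
  have hd : Nat.card (normalizer (E : Set (KK S))) ∣ Nat.card (normalizer ((diag S P₀ : Subgroup (KK S)) : Set (KK S))) := by
    have h1 := Subgroup.card_dvd_of_le hle
    have h2 : Nat.card Θ.range = Nat.card (normalizer (E : Set (KK S))) := by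
      rw [MonoidHom.range_eq_map, Subgroup.card_map_of_injective hΘinj, Subgroup.card_top]
    rwa [h2] at h1
  have hc₁ : uu E * Nat.card E' = Nat.card (normalizer (E : Set (KK S))) := by
    have : uu E = E'.index := by rw [hE']; rfl
    rw [this]; exact Subgroup.index_mul_card E'
  have hc₂ : Nat.card E' = Nat.card (diag S P₀) := by
    rw [← hmapΘ, Subgroup.card_map_of_injective hΘinj]
  have hc₃ : uu (diag S P₀) * Nat.card E' = Nat.card (normalizer ((diag S P₀ : Subgroup (KK S)) : Set (KK S))) := by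
    rw [hc₂]
    unfold uu
    have := Subgroup.index_mul_card ((diag S P₀).subgroupOf (normalizer ((diag S P₀ : Subgroup (KK S)) : Set (KK S))))
    rw [Nat.card_congr (subgroupOfEquivOfLe (Subgroup.le_normalizer)).toEquiv] at this
    exact this
  have hpos : 0 < Nat.card E' := Nat.card_pos
  rw [← hc₁, ← hc₃] at hd
  exact Nat.dvd_of_mul_dvd_mul_right hpos hd

end CfsgLib.Bis
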