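import Cfsg.Agent.Lib.MX.Bis3

/-! The level step: existence of the characteristic family. -/

set_option autoImplicit false
set_option linter.unusedSectionVars false
set_option linter.unusedVariables false
set_option linter.style.haveILetI false

open Subgroup Cfsg Cfsg.FusionSystem CfsgLib.Fusion MulAction

namespace CfsgLib.Bis

universe u
variable {Ω : Type u} [Group Ω] {S : Subgroup Ω} [Finite S] {p : ℕ} [Fact p.Prime]

/-- relative index -/
noncomputable def idx (E : Subgroup (KK S)) : ℕ := Nat.card S / Nat.card E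

/-- total relative index -/
noncomputable def JJ (c : Subgroup (KK S) → ℕ) : ℕ := ∑ E, c E * idx E

/-- marks are `F`-invariant above order `n`, the family is supported on graphs, and the total index is prime to `p`. -/
def Good (p : ℕ) (F : FusionSystem S) (n : ℕ) (c : Subgroup (KK S) → ℕ) : Prop :=
  (∀ E, c E ≠ 0 → IsGr F E) ∧
  (∀ (Q Q' : Subgroup Ω) (E E' : Subgroup (KK S)), IsGrOn F Q E → IsGrOn F Q' E' → F.IsConj Q Q' →
      n < Nat.card Q → mk c E = mk c E') ∧ ¬ p ∣ JJ c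

theorem card_eq_of_isConj {F : FusionSystem S} {Q Q' : Subgroup Ω} (h : F.IsConj Q Q') : Nat.card Q = Nat.card Q' := by
  obtain ⟨φ, hφ, rfl⟩ := h
  exact Nat.card_congr (MonoidHom.ofInjective (F.injective_of_mem hφ)).toEquiv

theorem dom_unique {F : FusionSystem S} {Q₁ Q₂ : Subgroup Ω} {D : Subgroup (KK S)} (h₁ : IsGrOn F Q₁ D) (h₂ : IsGrOn F Q₂ D) :
    Q₁ = Q₂ := by
  obtain ⟨φ₁, hφ₁, h₁⟩ := h₁
  obtain ⟨φ₂, hφ₂, h₂⟩ := h₂
  have hs₁ := source_le F hφ₁
  have hs₂ := source_le F hφ₂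
  ext x
  constructor
  · intro hx
    have := (h₁ ⟨x, hs₁ hx⟩ ⟨φ₁ ⟨x, hx⟩, (F.le_of_mem hφ₁).2 _⟩).2 ⟨hx, rfl⟩
    exact ((h₂ _ _).1 this).1
  · intro hx
    have := (h₂ ⟨x, hs₂ hx⟩ ⟨φ₂ ⟨x, hx⟩, (F.le_of_mem hφ₂).2 _⟩).2 ⟨hx, rfl⟩
    exact ((h₁ _ _).1 this).1

theorem p_dvd_idx (hS : IsPGroup p S) {F : FusionSystem S} {Q : Subgroup Ω} {E : Subgroup (KK S)} (hE : IsGrOn F Q E)
    (hlt : Nat.card Q < Nat.card S) : p ∣ idx E := by
  unfold idx
  rw [card_of_isGrOn hE]
  obtain ⟨φ, hφ, -⟩ := hE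
  have hQS := source_le F hφ
  have hd : Nat.card Q ∣ Nat.card S := Subgroup.card_dvd_of_le hQS
  obtain ⟨d, hd'⟩ := hd
  have hQpos : 0 < Nat.card Q := by
    haveI : Finite Q := finite_of_le hQS
    exact Nat.card_pos
  rw [hd', Nat.mul_div_cancel_left _ hQpos]
  obtain ⟨k, hk⟩ := IsPGroup.iff_card.1 hS
  have hdvd : d ∣ p ^ k := by rw [← hk, hd']; exact Dvd.intro_left _ rfl
  obtain ⟨l, -, rfl⟩ := (Nat.dvd_prime_pow (Fact.out : p.Prime)).1 hdvd
  rcases l with _ | l
  · simp at hd'; omega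
  · exact dvd_pow_self p (Nat.succ_ne_zero l)

open Classical in
theorem mk_add (c : Subgroup (KK S) → ℕ) (E D : Subgroup (KK S)) (j : ℕ) :
    mk (fun E' => c E' + if E' = E then j else 0) D = mk c D + j * tm D E := by
  unfold mk
  simp only [add_mul, Finset.sum_add_distrib, ite_mul, zero_mul, Finset.sum_ite_eq', Finset.mem_univ, if_true]

open Classical in
theorem JJ_add (c : Subgroup (KK S) → ℕ) (E : Subgroup (KK S)) (j : ℕ) :
    JJ (fun E' => c E' + if E' = E then j else 0) = JJ c + j * idx E := by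
  unfold JJ
  simp only [add_mul, Finset.sum_add_distrib, ite_mul, zero_mul, Finset.sum_ite_eq', Finset.mem_univ, if_true]

theorem level_inner (hS : IsPGroup p S) (F : FusionSystem S) {n : ℕ} (hnS : n < Nat.card S) (T : Subgroup Ω → ℕ)
    (hT : ∀ Q Q', F.IsConj Q Q' → T Q = T Q') (c : Subgroup (KK S) → ℕ) (hc : Good p F n c)
    (hinv : ∀ (Q : Subgroup Ω) (E : Subgroup (KK S)), IsGrOn F Q E → Nat.card Q = n → mk c E ≤ T Q ∧ uu E ∣ T Q - mk c E) :
    ∃ c', Good p F (n - 1) c' := by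
  classical
  induction' hb : (Finset.univ.filter (fun E : Subgroup (KK S) => ∃ Q, IsGrOn F Q E ∧ Nat.card Q = n ∧ mk c E ≠ T Q)).card
    using Nat.strong_induction_on with b ih generalizing c
  by_cases hne : (Finset.univ.filter (fun E : Subgroup (KK S) => ∃ Q, IsGrOn F Q E ∧ Nat.card Q = n ∧ mk c E ≠ T Q)).Nonempty
  swap
  · refine ⟨c, hc.1, ?_, hc.2.2⟩
    intro Q Q' E E' hE hE' hQ hcard
    by_cases h : n < Nat.card Q
    · exact hc.2.1 Q Q' E E' hE hE' hQ h
    · have hcn : Nat.card Q = n := by omega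
      have hcn' : Nat.card Q' = n := by rw [← card_eq_of_isConj hQ]; exact hcn
      have h₁ : mk c E = T Q := by
        by_contra hcon
        exact hne ⟨E, Finset.mem_filter.2 ⟨Finset.mem_univ _, Q, hE, hcn, hcon⟩⟩
      have h₂ : mk c E' = T Q' := by
        by_contra hcon
        exact hne ⟨E', Finset.mem_filter.2 ⟨Finset.mem_univ _, Q', hE', hcn', hcon⟩⟩
      rw [h₁, h₂, hT Q Q' hQ]
  obtain ⟨E, hEm⟩ := hne
  obtain ⟨-, Q, hQE, hQn, hne'⟩ := Finset.mem_filter.1 hEm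
  obtain ⟨hle, j, hj⟩ := hinv Q E hQE hQn
  have hadd : mk c E + j * uu E = T Q := by
    have : T Q = mk c E + (T Q - mk c E) := by omega
    rw [this, hj, mul_comm]
  let c' : Subgroup (KK S) → ℕ := fun E' => c E' + if E' = E then j else 0
  have hmk : ∀ D, mk c' D = mk c D + j * tm D E := fun D => mk_add c E D j
  have hEc : Nat.card E = n := by rw [card_of_isGrOn hQE]; exact hQn
  -- behaviour at level n when the mark of the new coset space is nonzero
  have hnz : ∀ (Q' : Subgroup Ω) (D : Subgroup (KK S)), IsGrOn F Q' D → Nat.card Q' = n → tm D E ≠ 0 → mk c' D = T Q' := by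
    intro Q' D hD hQ' hne0
    obtain ⟨g, hg, hv⟩ := tm_eq_of_card hne0 (by rw [hEc, card_of_isGrOn hD, hQ'])
    obtain ⟨Q'', hQ'', hconj⟩ := isGr_conj hQE g
    rw [← hg] at hQ''
    have hQq := dom_unique hD hQ''
    rw [hmk, hv, hg, mk_conj, hQq, ← hT _ _ hconj, hadd]
  have hgood : Good p F n c' := by
    refine ⟨?_, ?_, ?_⟩
    · intro E' hE'
      by_cases h : E' = E
      · subst h; exact ⟨Q, hQE⟩
      · have : c' E' = c E' := by simp [c', h]
        exact hc.1 E' (by rwa [← this])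
    · intro Q₁ Q₂ E₁ E₂ h₁ h₂ hconj hlt
      have h₃ : n < Nat.card Q₂ := by rw [← card_eq_of_isConj hconj]; exact hlt
      have t₁ : tm E₁ E = 0 := tm_eq_zero_of_card (by rw [hEc, card_of_isGrOn h₁]; exact hlt)
      have t₂ : tm E₂ E = 0 := tm_eq_zero_of_card (by rw [hEc, card_of_isGrOn h₂]; exact h₃)
      rw [hmk, hmk, t₁, t₂]
      simpa using hc.2.1 Q₁ Q₂ E₁ E₂ h₁ h₂ hconj hlt
    · have hJ : JJ c' = JJ c + j * idx E := JJ_add c E j
      rw [hJ]
      intro hd
      have hp : p ∣ idx E := p_dvd_idx hS hQE (by omega)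
      exact hc.2.2 ((Nat.dvd_add_left (Dvd.dvd.mul_left hp j)).1 hd)
  have hsub : (Finset.univ.filter (fun E' : Subgroup (KK S) => ∃ Q, IsGrOn F Q E' ∧ Nat.card Q = n ∧ mk c' E' ≠ T Q)) ⊂
      (Finset.univ.filter (fun E' : Subgroup (KK S) => ∃ Q, IsGrOn F Q E' ∧ Nat.card Q = n ∧ mk c E' ≠ T Q)) := by
    refine Finset.ssubset_iff_of_subset ?_ |>.2 ⟨E, hEm, ?_⟩
    · intro D hD
      obtain ⟨-, Q', hQ', hQ'n, hne''⟩ := Finset.mem_filter.1 hD
      refine Finset.mem_filter.2 ⟨Finset.mem_univ _, Q', hQ', hQ'n, ?_⟩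
      by_cases h0 : tm D E = 0
      · rw [hmk, h0] at hne''
        simpa using hne''
      · exact absurd (hnz Q' D hQ' hQ'n h0) hne''
    · intro hcon
      obtain ⟨-, Q', hQ', hQ'n, hne''⟩ := Finset.mem_filter.1 hcon
      refine hne'' (hnz Q' E hQ' hQ'n ?_)
      rw [tm_self]
      exact (uu_pos E).ne'
  refine ih _ ?_ c' hgood ?_ rfl
  · rw [← hb]; exact Finset.card_lt_card hsub
  · intro Q' D hD hQ'n
    by_cases h0 : tm D E = 0
    · rw [hmk, h0]
      simpa using hinv Q' D hD hQ'n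
    · rw [hnz Q' D hD hQ'n h0]
      simp

theorem level_step (hS : IsPGroup p S) (F : FusionSystem S) (hF : F.IsSaturated p) {n : ℕ} (hnS : n < Nat.card S)
    (c : Subgroup (KK S) → ℕ) (hc : Good p F n c) : ∃ c', Good p F (n - 1) c' := by
  classical
  let P₀ : Subgroup Ω → Subgroup Ω := fun Q => Classical.epsilon (fun P => F.IsConj Q P ∧ F.IsFullyNormalized P)
  have hP₀ : ∀ Q, Q ≤ S → F.IsConj Q (P₀ Q) ∧ F.IsFullyNormalized (P₀ Q) := fun Q hQ =>
    Classical.epsilon_spec (p := fun P => F.IsConj Q P ∧ F.IsFullyNormalized P) (exists_fullyNormalized_conj F hQ)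
  have hP₀c : ∀ Q Q', F.IsConj Q Q' → P₀ Q = P₀ Q' := by
    intro Q Q' h
    have : (fun P => F.IsConj Q P ∧ F.IsFullyNormalized P) = (fun P => F.IsConj Q' P ∧ F.IsFullyNormalized P) := by
      funext P
      apply propext
      exact ⟨fun h' => ⟨isConj_trans F (isConj_symm F h) h'.1, h'.2⟩, fun h' => ⟨isConj_trans F h h'.1, h'.2⟩⟩
    change Classical.epsilon _ = Classical.epsilon _
    rw [this]
  let B : ℕ := ∑ D, mk c D
  let T : Subgroup Ω → ℕ := fun Q => mk c (diag S (P₀ Q)) + B * uu (diag S (P₀ Q))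
  refine level_inner hS F hnS T ?_ c hc ?_
  · intro Q Q' h
    simp only [T]
    rw [hP₀c Q Q' h]
  · intro Q E hE hn
    have hQS : Q ≤ S := by
      obtain ⟨φ, hφ, -⟩ := hE
      exact source_le F hφ
    obtain ⟨hdvd, hmod⟩ := congr_marks hS F hF hc.1 n hc.2.1 hE hn (hP₀ Q hQS).2 (hP₀ Q hQS).1
    have hle : mk c E ≤ T Q := by
      have h₁ : mk c E ≤ B := Finset.single_le_sum (f := fun D => mk c D) (fun _ _ => Nat.zero_le _) (Finset.mem_univ E)
      have h₂ : B ≤ B * uu (diag S (P₀ Q)) := Nat.le_mul_of_pos_right _ (uu_pos _)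
      simp only [T]
      omega
    refine ⟨hle, (Nat.modEq_iff_dvd' hle).1 ?_⟩
    have : T Q ≡ mk c (diag S (P₀ Q)) [MOD uu E] := by
      simp only [T]
      obtain ⟨k, hk⟩ := hdvd
      rw [hk, show B * (uu E * k) = uu E * (B * k) by ring]
      exact Nat.add_mul_mod_self_left _ _ _
    exact hmod.trans this.symm

/-! ### the base of the construction -/

/-- graph of an automorphism of `S` -/
def tg (α : MulAut ↥S) : Subgroup (KK S) where
  carrier := {x | α x.1 = x.2}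
  mul_mem' := by
    rintro a b h₁ h₂
    simp only [Set.mem_setOf_eq] at h₁ h₂ ⊢
    simp [h₁, h₂]
  one_mem' := by simp
  inv_mem' := by
    rintro a h₁
    simp only [Set.mem_setOf_eq] at h₁ ⊢
    simp [h₁]

theorem mem_tg {α : MulAut ↥S} {a b : ↥S} : (a, b) ∈ tg α ↔ α a = b := Iff.rfl

theorem isGrOn_tg (F : FusionSystem S) {α : MulAut ↥S} (hα : α ∈ F.autGroup S) : IsGrOn F S (tg α) := by
  refine ⟨S.subtype.comp α.toMonoidHom, (mem_autGroup_iff F le_rfl).1 hα, fun a b => ?_⟩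
  rw [mem_tg]
  constructor
  · intro h
    exact ⟨a.2, congrArg Subtype.val h⟩
  · rintro ⟨_, h⟩
    exact Subtype.ext h

theorem exists_tg (F : FusionSystem S) {D : Subgroup (KK S)} (hD : IsGrOn F S D) :
    ∃ α ∈ F.autGroup S, D = tg α := by
  obtain ⟨φ, hφ, h⟩ := hD
  obtain ⟨χ, hχ, hv⟩ := exists_aut_of_map F hφ (range_eq_of_self F hφ (F.le_of_mem hφ).2)
  refine ⟨χ, hχ, ?_⟩
  ext ⟨a, b⟩
  rw [h, mem_tg]
  constructor
  · rintro ⟨_, e⟩
    exact Subtype.ext ((hv a).trans e)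
  · intro e
    exact ⟨a.2, (hv a).symm.trans (congrArg Subtype.val e)⟩

theorem uu_map_equiv (E : Subgroup (KK S)) (θ : KK S ≃* KK S) : uu (E.map θ.toMonoidHom) = uu E := by
  have h₁ : ∀ E : Subgroup (KK S), uu E * Nat.card E = Nat.card (normalizer (E : Set (KK S))) := by
    intro E
    unfold uu
    have := Subgroup.index_mul_card (E.subgroupOf (normalizer (E : Set (KK S))))
    rw [Nat.card_congr (subgroupOfEquivOfLe (Subgroup.le_normalizer)).toEquiv] at this
    exact this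
  have h₂ : Nat.card (E.map θ.toMonoidHom) = Nat.card E := Subgroup.card_map_of_injective θ.injective
  have h₃ : Nat.card (normalizer ((E.map θ.toMonoidHom : Subgroup (KK S)) : Set (KK S))) = Nat.card (normalizer (E : Set (KK S))) := by
    rw [← Subgroup.map_equiv_normalizer_eq]
    exact Subgroup.card_map_of_injective θ.injective
  have h₄ := h₁ (E.map θ.toMonoidHom)
  have h₅ := h₁ E
  rw [h₂, h₃] at h₄
  have hpos : 0 < Nat.card E := Nat.card_pos
  exact Nat.eq_of_mul_eq_mul_right hpos (h₄.trans h₅.symm)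

theorem uu_tg (α : MulAut ↥S) : uu (tg α) = uu (tg (1 : MulAut ↥S)) := by
  have e : tg α = (tg (1 : MulAut ↥S)).map (MulEquiv.prodCongr (MulEquiv.refl ↥S) α).toMonoidHom := by
    ext ⟨a, b⟩
    constructor
    · intro h
      exact ⟨(a, a), rfl, Prod.ext rfl h⟩
    · rintro ⟨⟨x, y⟩, hxy, hv⟩
      have hxy' : x = y := hxy
      subst hxy'
      have h1 : x = a := congrArg Prod.fst hv
      have h2 : α x = b := congrArg Prod.snd hv
      subst h1; exact h2
  rw [e, uu_map_equiv]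

theorem card_tg (α : MulAut ↥S) : Nat.card (tg α) = Nat.card S := by
  refine Nat.card_congr (Equiv.ofBijective (fun e : tg α => e.1.1) ⟨?_, ?_⟩)
  · rintro ⟨⟨a, b⟩, he⟩ ⟨⟨a', b'⟩, he'⟩ h
    have h' : a = a' := h
    subst h'
    have h₁ : α a = b := he
    have h₂ : α a = b' := he'
    have : b = b' := h₁.symm.trans h₂
    subst this; rfl
  · intro a
    exact ⟨⟨(a, α a), rfl⟩, rfl⟩

theorem exists_base (hS : IsPGroup p S) (F : FusionSystem S) (hF : F.IsSaturated p) :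
    ∃ c, Good p F (Nat.card S - 1) c := by
  classical
  have hfa : F.IsFullyAutomized p S := fullyAutomized_of_fullyNormalized hS F hF (fullyNormalized_top F)
  obtain ⟨-, R, hR⟩ := hfa
  haveI : Finite (MulAut ↥S) := finite_mulAut _
  obtain ⟨I₀, hI₀⟩ : ∃ I₀ : Subgroup (F.autGroup S), I₀ = (autInducedBy S S).subgroupOf (F.autGroup S) := ⟨_, rfl⟩
  have hidx : ¬ p ∣ I₀.index := by
    rw [hI₀, ← hR]
    exact R.not_dvd_index
  letI : Fintype (F.autGroup S ⧸ I₀) := Fintype.ofFinite _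
  have hmem : ∀ x : F.autGroup S, x ∈ I₀ ↔ x.1 ∈ autInducedBy S S := by
    intro x; rw [hI₀]; exact mem_subgroupOf
  let ψ : (F.autGroup S ⧸ I₀) → MulAut ↥S := fun q => (Quotient.out q : F.autGroup S).1
  have hψ : ∀ q, ψ q ∈ F.autGroup S := fun q => (Quotient.out q : F.autGroup S).2
  let c₀ : Subgroup (KK S) → ℕ := fun E => (Finset.univ.filter (fun q => tg (ψ q) = E)).card
  have hsum : ∀ f : Subgroup (KK S) → ℕ, ∑ E, c₀ E * f E = ∑ q, f (tg (ψ q)) := by
    intro f
    have : ∀ E, c₀ E * f E = ∑ q ∈ Finset.univ.filter (fun q => tg (ψ q) = E), f (tg (ψ q)) := by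
      intro E
      rw [Finset.sum_congr rfl (fun q hq => by rw [(Finset.mem_filter.1 hq).2])]
      simp [c₀]
    simp_rw [this]
    exact Finset.sum_fiberwise _ _ _
  -- membership in the index subgroup
  have hmkeq : ∀ (α α' : F.autGroup S) (w : ↥S), (∀ y : ↥S, (α'.1 y : ↥S) = α.1 (w * y * w⁻¹)) →
      (QuotientGroup.mk α : F.autGroup S ⧸ I₀) = QuotientGroup.mk α' := by
    intro α α' w hw
    rw [QuotientGroup.eq, hmem]
    refine mem_autInducedBy.2 ⟨w, w.2, fun x => ?_⟩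
    have : ((α⁻¹ * α' : F.autGroup S).1 x) = w * x * w⁻¹ := by
      change (α.1)⁻¹ (α'.1 x) = _
      rw [hw]
      simp
    rw [this]
    simp
  -- the marks at the top
  have htop : ∀ α ∈ F.autGroup S, mk c₀ (tg α) = uu (tg (1 : MulAut ↥S)) := by
    intro α hα
    unfold mk
    rw [hsum (fun E => tm (tg α) E)]
    let q₀ : F.autGroup S ⧸ I₀ := QuotientGroup.mk ⟨α, hα⟩
    rw [Finset.sum_eq_single q₀]
    · -- value at q₀
      have hq : (QuotientGroup.mk (Quotient.out q₀ : F.autGroup S) : F.autGroup S ⧸ I₀) = QuotientGroup.mk ⟨α, hα⟩ := Quotient.out_eq' q₀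
      rw [QuotientGroup.eq, hmem] at hq
      obtain ⟨w, hwS, hw⟩ := mem_autInducedBy.1 hq
      -- `(ψ q₀)⁻¹ α` is conjugation by `w`
      have hv : ∀ y : ↥S, α y = ψ q₀ (⟨w, hwS⟩ * y * (⟨w, hwS⟩ : ↥S)⁻¹) := by
        intro y
        have h2 : ((ψ q₀)⁻¹ * α) y = ⟨w, hwS⟩ * y * (⟨w, hwS⟩ : ↥S)⁻¹ := Subtype.ext (hw y)
        rw [← h2]
        simp
      have hconj : tg (ψ q₀) = (tg α).map (MulAut.conj (((⟨w, hwS⟩ : ↥S), (1 : ↥S)) : KK S)).toMonoidHom := by
        ext ⟨a, b⟩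
        constructor
        · intro h
          have h' : ψ q₀ a = b := h
          refine ⟨(⟨w, hwS⟩⁻¹ * a * ⟨w, hwS⟩, b), ?_, ?_⟩
          · change α (⟨w, hwS⟩⁻¹ * a * ⟨w, hwS⟩) = b
            rw [hv, ← h']
            congr 1
            simp [mul_assoc]
          · refine Prod.ext ?_ ?_
            · change ⟨w, hwS⟩ * (⟨w, hwS⟩⁻¹ * a * ⟨w, hwS⟩) * (⟨w, hwS⟩ : ↥S)⁻¹ = a
              simp [mul_assoc]
            · change 1 * b * 1⁻¹ = b
              simp
        · rintro ⟨⟨x, y⟩, hxy, hv'⟩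
          have h₁ : α x = y := hxy
          have h₂ : ⟨w, hwS⟩ * x * (⟨w, hwS⟩ : ↥S)⁻¹ = a := congrArg Prod.fst hv'
          have h₃ : 1 * y * 1⁻¹ = b := congrArg Prod.snd hv'
          change ψ q₀ a = b
          rw [← h₂, ← hv, h₁, ← h₃]
          simp
      have : tm (tg α) (tg (ψ q₀)) = uu (tg (ψ q₀)) := by
        have h₁ := fx_conj (Y := KK S ⧸ tg (ψ q₀)) (((⟨w, hwS⟩ : ↥S), (1 : ↥S)) : KK S) (tg α)
        rw [← hconj] at h₁
        unfold tm
        rw [← h₁]
        exact tm_self _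
      rw [this, uu_tg]
    · -- other cosets
      intro q _ hq
      by_contra hne
      obtain ⟨g, hg, -⟩ := tm_eq_of_card hne (by rw [card_tg, card_tg])
      apply hq
      have h := hmkeq ⟨α, hα⟩ (Quotient.out q : F.autGroup S) (α⁻¹ g.2⁻¹ * g.1) ?_
      · have : (QuotientGroup.mk (Quotient.out q : F.autGroup S) : F.autGroup S ⧸ I₀) = q := Quotient.out_eq' q
        rw [← this, ← h]
      · intro y
        have hm : (g * (y, ψ q y) * g⁻¹) ∈ tg α := by
          rw [hg]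
          exact ⟨(y, ψ q y), rfl, rfl⟩
        have hm' : α (g.1 * y * g.1⁻¹) = g.2 * ψ q y * g.2⁻¹ := hm
        have : ψ q y = g.2⁻¹ * α (g.1 * y * g.1⁻¹) * g.2 := by
          rw [hm']; group
        change ψ q y = _
        rw [this]
        simp [mul_assoc]
    · intro h
      exact absurd (Finset.mem_univ _) h
  refine ⟨c₀, ?_, ?_, ?_⟩
  · intro E hE
    obtain ⟨q, hq⟩ := Finset.card_pos.1 (Nat.pos_of_ne_zero hE)
    have hq' := (Finset.mem_filter.1 hq).2
    exact ⟨S, by rw [← hq']; exact isGrOn_tg F (hψ q)⟩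
  · intro Q Q' E E' hE hE' hconj hlt
    have hSpos : 0 < Nat.card S := Nat.card_pos
    have hle : ∀ {Q₁ : Subgroup Ω} {E₁ : Subgroup (KK S)}, IsGrOn F Q₁ E₁ → Nat.card S ≤ Nat.card Q₁ → Q₁ = S := by
      intro Q₁ E₁ h₁ h₂
      obtain ⟨φ, hφ, -⟩ := h₁
      exact Subgroup.eq_of_le_of_card_ge (source_le F hφ) h₂
    have h₁ := hle hE (by omega)
    have h₂ := hle hE' (by rw [← card_eq_of_isConj hconj]; omega)
    rw [h₁] at hE
    rw [h₂] at hE'
    obtain ⟨α, hα, rfl⟩ := exists_tg F hE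
    obtain ⟨α', hα', rfl⟩ := exists_tg F hE'
    rw [htop α hα, htop α' hα']
  · have : JJ c₀ = I₀.index := by
      unfold JJ
      rw [hsum idx]
      have : ∀ q, idx (tg (ψ q)) = 1 := by
        intro q
        unfold idx
        rw [card_tg]
        exact Nat.div_self Nat.card_pos
      simp only [this, Finset.sum_const, Finset.card_univ, smul_eq_mul, mul_one]
      rw [Subgroup.index, Nat.card_eq_fintype_card]
    rw [this]
    exact hidx

theorem exists_char (hS : IsPGroup p S) (F : FusionSystem S) (hF : F.IsSaturated p) :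
    ∃ c : Subgroup (KK S) → ℕ, (∀ E, c E ≠ 0 → IsGr F E) ∧
      (∀ (Q Q' : Subgroup Ω) (E E' : Subgroup (KK S)), IsGrOn F Q E → IsGrOn F Q' E' → F.IsConj Q Q' → mk c E = mk c E') ∧
      ¬ p ∣ JJ c := by
  have hSpos : 0 < Nat.card S := Nat.card_pos
  have key : ∀ k, k ≤ Nat.card S - 1 → ∃ c, Good p F (Nat.card S - 1 - k) c := by
    intro k
    induction k with
    | zero => intro _; exact exists_base hS F hF
    | succ k ih =>
      intro hk
      obtain ⟨c, hc⟩ := ih (by omega)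
      obtain ⟨c', hc'⟩ := level_step hS F hF (by omega) c hc
      refine ⟨c', ?_⟩
      have e : Nat.card S - 1 - (k + 1) = Nat.card S - 1 - k - 1 := by omega
      rw [e]; exact hc'
  obtain ⟨c, hc⟩ := key _ le_rfl
  refine ⟨c, hc.1, ?_, hc.2.2⟩
  intro Q Q' E E' hE hE' hconj
  refine hc.2.1 Q Q' E E' hE hE' hconj ?_
  have : Finite Q := by
    obtain ⟨φ, hφ, -⟩ := hE
    exact finite_of_le (source_le F hφ)
  have := (Nat.card_pos (α := Q))
  simpa using this

end CfsgLib.Bis
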