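import Cfsg.Agent.Lib.MX.Bis4

/-! Transfer through the characteristic family; the focal subgroup meets the centre inside the derived subgroup. -/

set_option autoImplicit false
set_option linter.unusedSectionVars false
set_option linter.unusedVariables false
set_option linter.style.haveILetI false

open Subgroup Cfsg Cfsg.FusionSystem CfsgLib.Fusion MulAction

namespace CfsgLib.Bis

universe u
variable {Ω : Type u} [Group Ω] {S : Subgroup Ω} [Finite S] {p : ℕ} [Fact p.Prime]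

/-- the second-factor action -/
instance (c : Subgroup (KK S) → ℕ) : MulAction ↥S (YS c) := MulAction.compHom _ (MonoidHom.inr ↥S ↥S)

theorem smul_inr (c : Subgroup (KK S) → ℕ) (w : ↥S) (y : YS c) : w • y = ((1, w) : KK S) • y := rfl

noncomputable instance (c : Subgroup (KK S) → ℕ) : Fintype (orbitRel.Quotient ↥S (YS c)) := Fintype.ofFinite _

theorem stab_isGr {F : FusionSystem S} {c : Subgroup (KK S) → ℕ} (hgr : ∀ E, c E ≠ 0 → IsGr F E) (y : YS c) :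
    IsGr F (stabilizer (KK S) y) := by
  obtain ⟨⟨E, i⟩, z⟩ := y
  have hE : c E ≠ 0 := by
    intro h
    have := i.2
    omega
  obtain ⟨Q, hQ⟩ := hgr E hE
  obtain ⟨g, rfl⟩ := QuotientGroup.mk_surjective z
  obtain ⟨Q', hQ', -⟩ := isGr_conj hQ g
  refine isGr_of_le ?_ ⟨Q', hQ'⟩
  intro d hd
  have hd' : d • (⟨⟨E, i⟩, (QuotientGroup.mk g : KK S ⧸ E)⟩ : Σ x : (Σ E : Subgroup (KK S), Fin (c E)), KK S ⧸ x.1) = ⟨⟨E, i⟩, QuotientGroup.mk g⟩ := hd
  have := eq_of_heq (Sigma.mk.inj_iff.1 hd').2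
  exact (smul_mk_iff E d g).1 this

theorem free_action {F : FusionSystem S} {c : Subgroup (KK S) → ℕ} (hgr : ∀ E, c E ≠ 0 → IsGr F E) (w : ↥S) (y : YS c)
    (h : w • y = y) : w = 1 := by
  obtain ⟨Q, ρ, hρ, hG⟩ := stab_isGr hgr y
  obtain ⟨h₁, h₂⟩ := (hG 1 w).1 h
  have : ρ ⟨((1 : ↥S) : Ω), h₁⟩ = 1 := map_one ρ
  exact Subtype.ext (h₂.symm.trans this)

/-- left multiplication -/
def LL (c : Subgroup (KK S) → ℕ) : ↥S →* Equiv.Perm (YS c) :=
  (MulAction.toPermHom (KK S) (YS c)).comp (MonoidHom.inl ↥S ↥S)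

theorem LL_apply (c : Subgroup (KK S) → ℕ) (a : ↥S) (y : YS c) : LL c a y = ((a, 1) : KK S) • y := rfl

theorem LL_comm (c : Subgroup (KK S) → ℕ) (a : ↥S) (w : ↥S) (y : YS c) : LL c a (w • y) = w • LL c a y := by
  rw [LL_apply, LL_apply, smul_inr, smul_inr, smul_smul, smul_smul]
  congr 1
  exact Prod.ext (by simp) (by simp)

/-- the section -/
noncomputable def sec (c : Subgroup (KK S) → ℕ) : orbitRel.Quotient ↥S (YS c) → YS c := Quotient.out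

theorem sec_spec (c : Subgroup (KK S) → ℕ) (i) : Quotient.mk (orbitRel ↥S (YS c)) (sec c i) = i := Quotient.out_eq i

/-- the transfer -/
noncomputable def VV (c : Subgroup (KK S) → ℕ) (a : ↥S) : Abelianization ↥S :=
  Tv (Abelianization.of) (sec c) (LL c a)

theorem VV_mul {F : FusionSystem S} {c : Subgroup (KK S) → ℕ} (hgr : ∀ E, c E ≠ 0 → IsGr F E) (a b : ↥S) :
    VV c (a * b) = VV c a * VV c b := by
  unfold VV
  rw [map_mul]
  exact Tv_mul _ (free_action hgr) (sec_spec c) _ _ (LL_comm c a) (LL_comm c b)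

theorem nonempty_YS {c : Subgroup (KK S) → ℕ} (hJ : ¬ p ∣ JJ c) : Nonempty (YS c) := by
  by_contra hne
  have hall : ∀ E, c E = 0 := by
    intro E
    by_contra hE
    exact hne ⟨⟨⟨E, ⟨0, Nat.pos_of_ne_zero hE⟩⟩, QuotientGroup.mk 1⟩⟩
  apply hJ
  have : JJ c = 0 := by
    unfold JJ
    exact Finset.sum_eq_zero fun E _ => by simp [hall E]
  rw [this]
  exact dvd_zero _

theorem VV_map {F : FusionSystem S} {c : Subgroup (KK S) → ℕ} (hgr : ∀ E, c E ≠ 0 → IsGr F E)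
    (hmk : ∀ (Q Q' : Subgroup Ω) (E E' : Subgroup (KK S)), IsGrOn F Q E → IsGrOn F Q' E' → F.IsConj Q Q' → mk c E = mk c E')
    (hJ : ¬ p ∣ JJ c) {P : Subgroup Ω} {φ : P →* Ω} (hφ : φ ∈ F.Hom P) (a : P) :
    VV c ⟨φ a, (F.le_of_mem hφ).2 a⟩ = VV c ⟨a, (source_le F hφ) a.2⟩ := by
  have hPS := source_le F hφ
  have hφS : ∀ x, φ x ∈ S := (F.le_of_mem hφ).2
  haveI : Finite P := finite_of_le hPS
  haveI := nonempty_YS hJ
  let Θ₁ : (↥P × ↥S) →* KK S := (Subgroup.inclusion hPS).prodMap (MonoidHom.id ↥S)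
  let Θ₂ : (↥P × ↥S) →* KK S := (φ.codRestrict S hφS).prodMap (MonoidHom.id ↥S)
  have hD1 : ∀ (D : Subgroup (↥P × ↥S)) (x y : ↥S), (x, y) ∈ D.map Θ₁ → (x : Ω) ∈ P ∧ (y : Ω) ∈ S := by
    rintro D x y ⟨m, hm, hv⟩
    have h1 : (⟨m.1, hPS m.1.2⟩ : ↥S) = x := congrArg Prod.fst hv
    have h2 : m.2 = y := congrArg Prod.snd hv
    rw [← h1]
    exact ⟨m.1.2, y.2⟩
  have hD2 : ∀ (D : Subgroup (↥P × ↥S)) (a b : ↥S), (a, b) ∈ D.map Θ₂ ↔ ∃ (x y : ↥S) (hx : (x : Ω) ∈ P) (hy : (y : Ω) ∈ S),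
      (x, y) ∈ D.map Θ₁ ∧ φ ⟨x, hx⟩ = a ∧ S.subtype ⟨y, hy⟩ = b := by
    intro D a b
    constructor
    · rintro ⟨m, hm, hv⟩
      have h1 : (⟨φ m.1, hφS _⟩ : ↥S) = a := congrArg Prod.fst hv
      have h2 : m.2 = b := congrArg Prod.snd hv
      refine ⟨⟨m.1, hPS m.1.2⟩, m.2, m.1.2, m.2.2, ⟨m, hm, rfl⟩, congrArg Subtype.val h1, congrArg Subtype.val h2⟩
    · rintro ⟨x, y, hx, hy, ⟨m, hm, hv⟩, h₁, h₂⟩
      refine ⟨m, hm, ?_⟩
      have h1 : (⟨m.1, hPS m.1.2⟩ : ↥S) = x := congrArg Prod.fst hv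
      have h2 : m.2 = y := congrArg Prod.snd hv
      subst h1 h2
      exact Prod.ext (Subtype.ext h₁) (Subtype.ext h₂)
  have hmarks : ∀ D : Subgroup (↥P × ↥S), fx (Y := YS c) (D.map Θ₁) = fx (Y := YS c) (D.map Θ₂) := by
    intro D
    rw [fx_YS, fx_YS]
    by_cases hg : IsGr F (D.map Θ₁)
    · obtain ⟨Q₁, hQ₁⟩ := hg
      obtain ⟨Q₂, hQ₂, hc⟩ := isGr_map hφ (subtype_mem F le_rfl) hQ₁ (hD1 D) (hD2 D)
      exact hmk Q₁ Q₂ _ _ hQ₁ hQ₂ hc
    · rw [mk_eq_zero hgr hg, mk_eq_zero hgr]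
      rintro ⟨Q₂, hQ₂⟩
      refine hg ?_
      obtain ⟨φ', hφ', hφ'v⟩ := F.inv_mem hφ
      obtain ⟨Q₁, hQ₁, -⟩ := isGr_map (D' := D.map Θ₁) hφ' (subtype_mem F (le_refl S)) hQ₂ (by
        intro x y hxy
        obtain ⟨a, b, ha, hb, -, h₁, h₂⟩ := ((hD2 D) x y).1 hxy
        exact ⟨⟨_, h₁⟩, y.2⟩) (by
        intro a b
        constructor
        · intro hab
          obtain ⟨hx, hy⟩ := hD1 D a b hab
          refine ⟨⟨_, hφS ⟨a, hx⟩⟩, b, ⟨_, rfl⟩, hy, ((hD2 D) _ _).2 ⟨a, b, hx, hy, hab, rfl, rfl⟩, hφ'v ⟨a, hx⟩, rfl⟩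
        · rintro ⟨x, y, hx, hy, hxy, h₁, h₂⟩
          obtain ⟨a', b', ha', hb', hab', e₁, e₂⟩ := ((hD2 D) x y).1 hxy
          have e₃ : (⟨(x : Ω), hx⟩ : φ.range) = ⟨φ ⟨a', ha'⟩, ⟨_, rfl⟩⟩ := Subtype.ext e₁.symm
          have h₁' : φ' ⟨φ ⟨a', ha'⟩, ⟨_, rfl⟩⟩ = a := by rw [← e₃]; exact h₁
          rw [hφ'v] at h₁'
          have : a' = a := Subtype.ext h₁'
          have h' : b' = y := Subtype.ext e₂
          have h'' : y = b := Subtype.ext h₂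
          subst this h' h''
          exact hab')
      exact ⟨Q₁, hQ₁⟩
  obtain ⟨f, hf⟩ := exists_equivariant (Y := YS c) Θ₁ Θ₂ hmarks
  have hfw : ∀ (w : ↥S) (y : YS c), f (w • y) = w • f y := by
    intro w y
    have := hf (1, w) y
    have e₁ : Θ₁ (1, w) = (1, w) := Prod.ext rfl rfl
    have e₂ : Θ₂ (1, w) = (1, w) := Prod.ext (map_one (φ.codRestrict S hφS)) rfl
    rw [e₁, e₂] at this
    exact this
  have hfa : ∀ y : YS c, f (LL c ⟨a, hPS a.2⟩ y) = LL c ⟨φ a, hφS a⟩ (f y) := by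
    intro y
    have := hf (a, 1) y
    exact this
  unfold VV
  exact Tv_conj _ (free_action hgr) (sec_spec c) _ _ f (LL_comm c _) (LL_comm c _) hfw hfa

theorem VV_center {F : FusionSystem S} {c : Subgroup (KK S) → ℕ} (hgr : ∀ E, c E ≠ 0 → IsGr F E) {z : ↥S}
    (hz : (z : Ω) ∈ F.center) :
    VV c z = (Abelianization.of z⁻¹) ^ Fintype.card (orbitRel.Quotient ↥S (YS c)) := by
  unfold VV
  refine Tv_cycle _ (free_action hgr) (sec_spec c) _ (LL_comm c z) z⁻¹ ?_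
  intro ℓ y w h
  have hcen := isCentral_center F
  rw [← map_pow, LL_apply, smul_inr] at h
  have hfix : ((z ^ ℓ, w⁻¹) : KK S) • y = y := by
    have e : ((z ^ ℓ, w⁻¹) : KK S) = (1, w⁻¹) * (z ^ ℓ, 1) := Prod.ext (by simp) (by simp)
    rw [e, mul_smul, h, smul_smul]
    have e' : ((1, w⁻¹) : KK S) * (1, w) = 1 := Prod.ext (by simp) (by simp)
    rw [e', one_smul]
  obtain ⟨Q, ρ, hρ, hG⟩ := stab_isGr hgr y
  obtain ⟨h₁, h₂⟩ := (hG _ _).1 hfix
  have hzℓ : ((z ^ ℓ : ↥S) : Ω) ∈ F.center := by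
    rw [SubgroupClass.coe_pow]
    exact Subgroup.pow_mem _ hz ℓ
  obtain ⟨ψ, -, hψ₁, hψ₂⟩ := hcen.2 Q ρ hρ
  have e₁ := hψ₁ ⟨_, h₁⟩
  have e₂ := hψ₂ ⟨_, hzℓ⟩
  have e₃ : Subgroup.inclusion (le_sup_left : Q ≤ Q ⊔ F.center) ⟨_, h₁⟩ = Subgroup.inclusion (le_sup_right : F.center ≤ Q ⊔ F.center) ⟨_, hzℓ⟩ := rfl
  rw [e₃, e₂] at e₁
  have e₄ : ((w⁻¹ : ↥S) : Ω) = ((z ^ ℓ : ↥S) : Ω) := (h₂.symm.trans e₁.symm)
  have e₅ : w⁻¹ = z ^ ℓ := Subtype.ext e₄
  rw [inv_pow, ← e₅, inv_inv]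

theorem card_R {F : FusionSystem S} {c : Subgroup (KK S) → ℕ} (hgr : ∀ E, c E ≠ 0 → IsGr F E) :
    Fintype.card (orbitRel.Quotient ↥S (YS c)) = JJ c := by
  have e : YS c ≃ (orbitRel.Quotient ↥S (YS c)) × ↥S :=
    { toFun := fun y => (Quotient.mk _ y, nf (sec c) y)
      invFun := fun x => x.2 • sec c x.1
      left_inv := fun y => (nf_spec (sec_spec c) y).symm
      right_inv := fun x => by
        have h₁ : Quotient.mk (orbitRel ↥S (YS c)) (x.2 • sec c x.1) = x.1 :=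
          (Quotient.sound (s := orbitRel ↥S (YS c)) (show x.2 • sec c x.1 ∈ orbit ↥S (sec c x.1) from ⟨x.2, rfl⟩)).trans (sec_spec c x.1)
        exact Prod.ext h₁ (nf_eq (free_action hgr) (sec_spec c) (i := x.1) rfl) }
  have h₁ : Nat.card (YS c) = Fintype.card (orbitRel.Quotient ↥S (YS c)) * Nat.card S := by
    rw [Nat.card_congr e, Nat.card_prod, Nat.card_eq_fintype_card]
  rw [card_YS] at h₁
  have hpos : 0 < Nat.card S := Nat.card_pos
  have h₂ : ∑ E, c E * E.index = JJ c * Nat.card S := by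
    unfold JJ
    rw [Finset.sum_mul]
    refine Finset.sum_congr rfl fun E _ => ?_
    by_cases hE : c E = 0
    · simp [hE]
    · obtain ⟨Q, hQ⟩ := hgr E hE
      have hcard := card_of_isGrOn hQ
      obtain ⟨φ, hφ, -⟩ := hQ
      have hd : Nat.card Q ∣ Nat.card S := Subgroup.card_dvd_of_le (source_le F hφ)
      obtain ⟨k, hk⟩ := hd
      have hEpos : 0 < Nat.card E := Nat.card_pos
      have hi : idx E = k := by
        unfold idx
        rw [hcard, hk, Nat.mul_div_cancel_left]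
        rw [← hcard]; exact hEpos
      have h₃ := Subgroup.index_mul_card E
      rw [Nat.card_prod, hcard, hk] at h₃
      have hQpos : 0 < Nat.card Q := by rw [← hcard]; exact hEpos
      have h₄ : E.index = k * (Nat.card Q * k) := by
        refine Nat.eq_of_mul_eq_mul_right hQpos ?_
        rw [h₃]; ring
      rw [hi, h₄, hk]
      ring
  rw [h₂] at h₁
  exact (Nat.eq_of_mul_eq_mul_right hpos h₁).symm

theorem mem_commutator_of_focal_center (hS : IsPGroup p S) (F : FusionSystem S) (hF : F.IsSaturated p) {z : Ω}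
    (hzf : z ∈ F.focalSubgroup) (hzc : z ∈ F.center) : z ∈ ⁅S, S⁆ := by
  obtain ⟨c, hgr, hmk, hJ⟩ := exists_char hS F hF
  have hcen := isCentral_center F
  have hzS : z ∈ S := hcen.1 hzc
  have hV : ∀ t ∈ F.focalSubgroup, ∃ h : t ∈ S, VV c ⟨t, h⟩ = 1 := by
    intro t ht
    induction ht using Subgroup.closure_induction with
    | mem t ht =>
      obtain ⟨P, φ, x, hφ, rfl⟩ := ht
      have hxS : (x : Ω) ∈ S := source_le F hφ x.2
      have hφS : φ x ∈ S := (F.le_of_mem hφ).2 x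
      refine ⟨S.mul_mem (S.inv_mem hxS) hφS, ?_⟩
      have e : (⟨(x : Ω)⁻¹ * φ x, S.mul_mem (S.inv_mem hxS) hφS⟩ : ↥S) = (⟨x, hxS⟩ : ↥S)⁻¹ * ⟨φ x, hφS⟩ := rfl
      rw [e]
      have h₁ := VV_mul hgr (⟨x, hxS⟩ : ↥S)⁻¹ ⟨φ x, hφS⟩
      rw [h₁, VV_map hgr hmk hJ hφ x]
      have h₂ := VV_mul hgr (⟨x, hxS⟩ : ↥S)⁻¹ ⟨x, hxS⟩
      rw [inv_mul_cancel] at h₂
      have h₃ : VV c 1 = 1 := by
        have := VV_mul hgr (1 : ↥S) 1
        rw [mul_one] at this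
        exact left_eq_mul.1 this
      rw [← h₂, h₃]
    | one => exact ⟨S.one_mem, by
        have := VV_mul hgr (1 : ↥S) 1
        rw [mul_one] at this
        exact left_eq_mul.1 this⟩
    | mul a b _ _ ha hb =>
      obtain ⟨h₁, h₂⟩ := ha
      obtain ⟨h₃, h₄⟩ := hb
      refine ⟨S.mul_mem h₁ h₃, ?_⟩
      have := VV_mul hgr ⟨a, h₁⟩ ⟨b, h₃⟩
      rw [h₂, h₄, mul_one] at this
      exact this
    | inv a _ ha =>
      obtain ⟨h₁, h₂⟩ := ha
      refine ⟨S.inv_mem h₁, ?_⟩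
      have := VV_mul hgr (⟨a, h₁⟩ : ↥S)⁻¹ ⟨a, h₁⟩
      rw [h₂, mul_one, inv_mul_cancel] at this
      have h₃ : VV c 1 = 1 := by
        have := VV_mul hgr (1 : ↥S) 1
        rw [mul_one] at this
        exact left_eq_mul.1 this
      rw [h₃] at this
      exact this.symm
  obtain ⟨_, hv⟩ := hV z hzf
  rw [VV_center hgr (z := ⟨z, hzS⟩) hzc, card_R hgr] at hv
  obtain ⟨k, hk⟩ := hS ⟨z, hzS⟩
  have hp : p.Prime := Fact.out
  have hcop : Nat.Coprime (JJ c) (p ^ k) := Nat.Coprime.pow_right k ((Nat.Prime.coprime_iff_not_dvd hp).2 hJ).symm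
  have ht : (Abelianization.of (⟨z, hzS⟩ : ↥S)⁻¹) ^ (p ^ k) = 1 := by
    rw [← map_pow, inv_pow, hk, inv_one, map_one]
  have h₁ := orderOf_dvd_of_pow_eq_one hv
  have h₂ := orderOf_dvd_of_pow_eq_one ht
  have h₃ := Nat.eq_one_of_dvd_coprimes hcop h₁ h₂
  rw [orderOf_eq_one_iff] at h₃
  have h₄ : (⟨z, hzS⟩ : ↥S)⁻¹ ∈ commutator ↥S := by
    rw [← Abelianization.ker_of]
    exact h₃
  have h₅ : (⟨z, hzS⟩ : ↥S) ∈ commutator ↥S := by
    simpa using (commutator ↥S).inv_mem h₄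
  have h₆ : (commutator ↥S).map S.subtype = ⁅S, S⁆ := S.map_subtype_commutator
  rw [← h₆]
  exact ⟨_, h₅, rfl⟩

theorem commutator_le_focal (F : FusionSystem S) : ⁅S, S⁆ ≤ F.focalSubgroup := by
  rw [Subgroup.commutator_le]
  intro a ha b hb
  refine Subgroup.subset_closure ⟨S, conjHom S b, ⟨a⁻¹, S.inv_mem ha⟩, F.conj_mem le_rfl hb, ?_⟩
  simp [conjHom, commutatorElement_def, mul_assoc]

end CfsgLib.Bis
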