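import Cfsg.Agent.Lib.MX.Wz4
import Cfsg.Agent.Lib.Fusion.GroupSys2
import Cfsg.Agent.Lib.Fusion.GroupSat
import Cfsg.Agent.S5091

/-! Local models inside a finite group. -/

set_option autoImplicit false
set_option linter.unusedSectionVars false
set_option linter.unusedVariables false
set_option linter.style.haveILetI false

open Subgroup Cfsg Cfsg.FusionSystem CfsgLib.Fusion

namespace CfsgLib.MX

universe u

variable {G : Type u} [Group G] [Finite G] {p : ℕ} [Fact p.Prime]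

/-- Two maps which agree modulo a normal subgroup without `p`-elements differ by an element of that subgroup. -/
theorem exists_conj_adjust {M Y : Type*} [Group M] [Finite M] [Group Y] (π : M →* Y) (hπ : ∀ g, π g = 1 → (∃ k : ℕ, g ^ (p ^ k) = 1) → g = 1)
    {B A : Subgroup M} (hB : IsPGroup p B) (hA : IsPGroup p A) (hAB : ∀ a ∈ A, ∃ b ∈ B, π a = π b) :
    ∃ k : M, π k = 1 ∧ ∀ a ∈ A, k * a * k⁻¹ ∈ B := by
  classical
  obtain ⟨D, hDd⟩ : ∃ D, D = (B.map π).comap π := ⟨_, rfl⟩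
  have hDm : ∀ g, g ∈ D ↔ ∃ b ∈ B, π b = π g := by
    intro g
    rw [hDd]
    exact Iff.rfl
  have hBD : B ≤ D := fun b hb => (hDm b).mpr ⟨b, hb, rfl⟩
  have hAD : A ≤ D := by
    intro a ha
    obtain ⟨b, hb, he⟩ := hAB a ha
    exact (hDm a).mpr ⟨b, hb, he.symm⟩
  -- `π` is injective on `p`-subgroups
  have hinj : ∀ (C : Subgroup M), IsPGroup p C → ∀ x ∈ C, ∀ y ∈ C, π x = π y → x = y := by
    intro C hC x hx y hy he
    have h1 : π (x⁻¹ * y) = 1 := by
      rw [map_mul, map_inv, he, inv_mul_cancel]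
    obtain ⟨k, hk⟩ := hC ⟨x⁻¹ * y, mul_mem (inv_mem hx) hy⟩
    have h2 := hπ _ h1 ⟨k, congrArg Subtype.val hk⟩
    exact (inv_mul_eq_one.mp h2)
  have hBD' : IsPGroup p (B.subgroupOf D) := by
    rintro ⟨⟨b, hbD⟩, hb⟩
    obtain ⟨k, hk⟩ := hB ⟨b, mem_subgroupOf.mp hb⟩
    exact ⟨k, Subtype.ext (Subtype.ext (by simpa using congrArg (fun z : B => (z : M)) hk))⟩
  let R : Sylow p D := ⟨B.subgroupOf D, hBD', by
    intro Q' hQ' hle
    apply le_antisymm _ hle
    intro x hx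
    have hQ'm : IsPGroup p (Q'.map D.subtype) := hQ'.map _
    obtain ⟨b, hb, hbe⟩ := (hDm x).mp x.2
    have h1 : (x : M) ∈ Q'.map D.subtype := ⟨x, hx, rfl⟩
    have h2 : b ∈ Q'.map D.subtype := ⟨⟨b, hBD hb⟩, hle (mem_subgroupOf.mpr hb), rfl⟩
    have h3 := hinj _ hQ'm _ h1 _ h2 hbe.symm
    exact mem_subgroupOf.mpr (by rw [h3]; exact hb)⟩
  obtain ⟨x, hx, hxA⟩ := conj_into_of_sylow R rfl hAD hA
  obtain ⟨b, hb, hbe⟩ := (hDm x).mp hx
  refine ⟨b⁻¹ * x, by rw [map_mul, map_inv, hbe, inv_mul_cancel], fun a ha => ?_⟩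
  have h1 : x * a * x⁻¹ ∈ B := hxA ⟨a, ha, rfl⟩
  have e : b⁻¹ * x * a * (b⁻¹ * x)⁻¹ = b⁻¹ * (x * a * x⁻¹) * b := by group
  rw [e]
  exact mul_mem (mul_mem (inv_mem hb) h1) hb

/-- The local model of a fully normalized centric subgroup. -/
theorem exists_group_model (P : Sylow p G) {Q : Subgroup G} (hQn : (groupFusionSystem (P : Subgroup G)).IsFullyNormalized Q)
    (hQc : (groupFusionSystem (P : Subgroup G)).IsCentric Q) :
    ∃ (Y : Type u) (_ : Group Y) (π : ↥(normalizer (Q : Set G)) →* Y) (ιY : ↥(normalizerIn (P : Subgroup G) Q) →* Y),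
      Function.Surjective π ∧ (∀ g, π g = 1 → (∃ k : ℕ, g ^ (p ^ k) = 1) → g = 1) ∧
      (normalizerSystem (groupFusionSystem (P : Subgroup G)) Q hQn.1).IsModel p Y ιY := by
  classical
  have hQP : Q ≤ (P : Subgroup G) := hQn.1
  obtain ⟨R, hRe⟩ := (fullyNormalized_iff_sylow P hQP).mp hQn
  obtain ⟨Y, _, π, hπs, hcore, -, hπ₂⟩ := exists_core_quotient (p := p) (⊥ : Subgroup ↥(normalizer (Q : Set G))) Subgroup.normal_bot
  have hπ₂' : ∀ g, π g = 1 → (∃ k : ℕ, g ^ (p ^ k) = 1) → g = 1 := fun g h1 h2 => mem_bot.mp (hπ₂ g h1 h2)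
  haveI hfinY : Finite Y := Finite.of_surjective π hπs
  have hTM : normalizerIn (P : Subgroup G) Q ≤ normalizer (Q : Set G) := inf_le_right
  have hTle : normalizerIn (P : Subgroup G) Q ≤ (P : Subgroup G) := inf_le_left
  have hTp : IsPGroup p (normalizerIn (P : Subgroup G) Q) := P.isPGroup'.to_le hTle
  haveI hTfin : Finite (normalizerIn (P : Subgroup G) Q) := inferInstance
  obtain ⟨ιY, hιY⟩ : ∃ ιY : ↥(normalizerIn (P : Subgroup G) Q) →* Y, ∀ t, ιY t = π ⟨t, hTM t.2⟩ :=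
    ⟨π.comp (Subgroup.inclusion hTM), fun t => rfl⟩
  have hιinj : Function.Injective ιY := by
    refine (injective_iff_map_eq_one ιY).mpr fun t ht => ?_
    rw [hιY] at ht
    obtain ⟨k, hk⟩ := hTp t
    have h1 : (⟨t, hTM t.2⟩ : ↥(normalizer (Q : Set G))) ^ (p ^ k) = 1 := by
      apply Subtype.ext
      have := congrArg (fun z : ↥(normalizerIn (P : Subgroup G) Q) => (z : G)) hk
      simpa using this
    have h2 := hπ₂' _ ht ⟨k, h1⟩
    have h3 := congrArg (fun z : ↥(normalizer (Q : Set G)) => (z : G)) h2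
    exact Subtype.ext h3
  have hQT : Q ≤ normalizerIn (P : Subgroup G) Q := le_inf hQP Subgroup.le_normalizer
  have hTY : ((R.mapSurjective hπs : Sylow p Y) : Subgroup Y) = ιY.range := by
    rw [Sylow.coe_mapSurjective, hRe]
    ext y
    constructor
    · rintro ⟨t, ht, rfl⟩
      exact ⟨⟨t, mem_subgroupOf.mp ht⟩, hιY _⟩
    · rintro ⟨t, rfl⟩
      exact ⟨⟨t, hTM t.2⟩, mem_subgroupOf.mpr t.2, (hιY t).symm⟩
  have hQn' : (Q.subgroupOf (normalizer (Q : Set G))).Normal :=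
    (Subgroup.normal_subgroupOf_iff_le_normalizer Subgroup.le_normalizer).mpr le_rfl
  have hRhn : ((Q.subgroupOf (normalizerIn (P : Subgroup G) Q)).map ιY).Normal := by
    have h1 := hQn'.map π hπs
    have h2 : (Q.subgroupOf (normalizerIn (P : Subgroup G) Q)).map ιY = (Q.subgroupOf (normalizer (Q : Set G))).map π := by
      ext y
      constructor
      · rintro ⟨t, ht, rfl⟩
        exact ⟨⟨t, hTM t.2⟩, mem_subgroupOf.mpr (mem_subgroupOf.mp ht), (hιY t).symm⟩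
      · rintro ⟨t, ht, rfl⟩
        have htQ : (t : G) ∈ Q := mem_subgroupOf.mp ht
        exact ⟨⟨t, hQT htQ⟩, mem_subgroupOf.mpr htQ, hιY _⟩
    rw [h2]
    exact h1
  have hRc'Y : ∀ x : ↥(normalizerIn (P : Subgroup G) Q), ιY x ∈ centralizer (((Q.subgroupOf (normalizerIn (P : Subgroup G) Q)).map ιY : Subgroup Y) : Set Y) →
      ιY x ∈ (Q.subgroupOf (normalizerIn (P : Subgroup G) Q)).map ιY := by
    intro x hx
    have h1 : (x : G) ∈ centralizerIn (P : Subgroup G) Q := by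
      refine ⟨x.2.1, mem_centralizer_iff.mpr fun r hr' => ?_⟩
      have h2 := mem_centralizer_iff.mp hx (ιY ⟨r, hQT hr'⟩) ⟨⟨r, hQT hr'⟩, mem_subgroupOf.mpr hr', rfl⟩
      have h3 : ιY (⟨r, hQT hr'⟩ * x) = ιY (x * ⟨r, hQT hr'⟩) := by
        rw [map_mul, map_mul]
        exact h2
      have h4 := hιinj h3
      exact congrArg (fun z : ↥(normalizerIn (P : Subgroup G) Q) => (z : G)) h4
    have h2 := hQc.2 Q (isConj_refl _ hQP) h1
    exact ⟨x, mem_subgroupOf.mpr h2, rfl⟩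
  have hC₂₀ := centralizer_le_of_core_bot hcore (R.mapSurjective hπs) hRhn (fun x hx hxC => by
    rw [hTY] at hx
    obtain ⟨y, rfl⟩ := hx
    exact hRc'Y y hxC)
  have hRhp : IsPGroup p ↥((Q.subgroupOf (normalizerIn (P : Subgroup G) Q)).map ιY) :=
    (hTp.to_subgroup _).map _
  have hC₂ : centralizer ((pCore p Y : Subgroup Y) : Set Y) ≤ pCore p Y := by
    have hle := CfsgLib.PLocal.le_pCore_of_normal _ hRhn hRhp
    intro c hc
    exact hle (hC₂₀ (Subgroup.centralizer_le hle hc))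
  refine ⟨Y, inferInstance, π, ιY, hπs, hπ₂', hfinY, ⟨hιinj, fun P₁ hP₁ φ hφ => ⟨?_, ?_⟩⟩, ⟨R.mapSurjective hπs, hTY⟩, hC₂⟩
  · rintro ⟨hφF, hPN, hv, ψ, ⟨-, hψv, g, hg⟩, hψe, hψm⟩
    have hgq : ∀ q ∈ Q, g * q * g⁻¹ ∈ Q := by
      intro q hq
      have h1 : ψ ⟨q, mem_sup_right hq⟩ ∈ (Q.subgroupOf (P₁ ⊔ Q)).map ψ := ⟨_, mem_subgroupOf.mpr hq, rfl⟩
      rw [hψm, hg] at h1
      exact h1
    have hgq' : ∀ q ∈ Q, g⁻¹ * q * g⁻¹⁻¹ ∈ Q := by
      intro q hq
      have h1 : q ∈ (Q.subgroupOf (P₁ ⊔ Q)).map ψ := by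
        rw [hψm]
        exact hq
      obtain ⟨x, hx, rfl⟩ := h1
      rw [hg]
      have e : g⁻¹ * (g * (x : G) * g⁻¹) * g⁻¹⁻¹ = x := by group
      rw [e]
      exact mem_subgroupOf.mp hx
    have hgN : g ∈ normalizer (Q : Set G) := mem_normalizer_of_conj hgq (fun r hr => by have := hgq' r hr; rwa [inv_inv] at this)
    refine ⟨π ⟨g, hgN⟩, fun x => ?_⟩
    rw [hιY, hιY, ← map_inv, ← map_mul, ← map_mul]
    congr 1
    apply Subtype.ext
    have h1 := hψe x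
    rw [hg] at h1
    exact h1.symm
  · rintro ⟨y, hy⟩
    obtain ⟨m, rfl⟩ := hπs y
    -- adjusting `m` by the kernel
    have hP₁M : P₁ ≤ normalizer (Q : Set G) := hP₁.trans hTM
    obtain ⟨B, hBd⟩ : ∃ B, B = (φ.range).subgroupOf (normalizer (Q : Set G)) := ⟨_, rfl⟩
    obtain ⟨A, hAd⟩ : ∃ A, A = ((P₁.subgroupOf (normalizer (Q : Set G)))).map (MulAut.conj m).toMonoidHom := ⟨_, rfl⟩
    have hφT : ∀ x, φ x ∈ normalizer (Q : Set G) := fun x => hTM (hφ x)
    have hrP : φ.range ≤ (P : Subgroup G) := by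
      rintro _ ⟨x, rfl⟩
      exact hTle (hφ x)
    have hBm : ∀ b : ↥(normalizer (Q : Set G)), b ∈ B ↔ (b : G) ∈ φ.range := by
      intro b
      rw [hBd]
      exact mem_subgroupOf
    have hBp : IsPGroup p B := by
      rintro ⟨b, hb⟩
      have hb' := (hBm b).mp hb
      obtain ⟨k, hk⟩ := P.isPGroup' ⟨b, hrP hb'⟩
      refine ⟨k, Subtype.ext (Subtype.ext ?_)⟩
      simpa using congrArg (fun z : (P : Subgroup G) => (z : G)) hk
    have hAp : IsPGroup p A := by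
      rw [hAd]
      refine IsPGroup.map ?_ _
      rintro ⟨b, hb⟩
      have hb' := mem_subgroupOf.mp hb
      obtain ⟨k, hk⟩ := P.isPGroup' ⟨b, hP₁.trans hTle hb'⟩
      refine ⟨k, Subtype.ext (Subtype.ext ?_)⟩
      simpa using congrArg (fun z : (P : Subgroup G) => (z : G)) hk
    have hpx : ∀ x : P₁, π (m * ⟨x, hP₁M x.2⟩ * m⁻¹) = π ⟨φ x, hφT x⟩ := by
      intro x
      have h1 := hy x
      rw [hιY, hιY] at h1
      rw [map_mul, map_mul, map_inv]
      exact h1.symm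
    obtain ⟨k, hk1, hkA⟩ := exists_conj_adjust π hπ₂' hBp hAp (by
      intro a ha
      rw [hAd] at ha
      obtain ⟨x, hx, rfl⟩ := ha
      have hxP : (x : G) ∈ P₁ := mem_subgroupOf.mp hx
      refine ⟨⟨φ ⟨x, hxP⟩, hφT _⟩, (hBm _).mpr ⟨_, rfl⟩, ?_⟩
      exact hpx ⟨x, hxP⟩)
    -- the conjugating element
    have hge : ∀ x : P₁, φ x = ((k * m : ↥(normalizer (Q : Set G))) : G) * x * ((k * m : ↥(normalizer (Q : Set G))) : G)⁻¹ := by
      intro x
      have h1 : m * ⟨x, hP₁M x.2⟩ * m⁻¹ ∈ A := by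
        rw [hAd]
        exact ⟨⟨x, hP₁M x.2⟩, mem_subgroupOf.mpr x.2, rfl⟩
      have h2 := hkA _ h1
      obtain ⟨x₂, hx₂⟩ := (hBm _).mp h2
      have hC : IsPGroup p B := hBp
      -- comparing in `B`
      have h3 : π (k * (m * ⟨x, hP₁M x.2⟩ * m⁻¹) * k⁻¹) = π ⟨φ x, hφT x⟩ := by
        rw [map_mul, map_mul, hpx, map_inv, hk1]
        simp
      have h4 : (⟨φ x, hφT x⟩ : ↥(normalizer (Q : Set G))) ∈ B := (hBm _).mpr ⟨x, rfl⟩
      have hmul : (⟨φ x, hφT x⟩ : ↥(normalizer (Q : Set G)))⁻¹ * (k * (m * ⟨x, hP₁M x.2⟩ * m⁻¹) * k⁻¹) ∈ B :=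
        mul_mem (inv_mem h4) h2
      obtain ⟨j, hj⟩ := hBp ⟨_, hmul⟩
      have h5 := hπ₂' _ (by rw [map_mul, map_inv, h3, inv_mul_cancel]) ⟨j, congrArg Subtype.val hj⟩
      have h6 := inv_mul_eq_one.mp h5
      have h7 := congrArg (fun z : ↥(normalizer (Q : Set G)) => (z : G)) h6
      simp only [Subgroup.coe_mul, Subgroup.coe_inv] at h7 ⊢
      rw [h7]
      group
    obtain ⟨g, hgd⟩ : ∃ g : ↥(normalizer (Q : Set G)), g = k * m := ⟨_, rfl⟩
    rw [← hgd] at hge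
    have hP₁Q : P₁ ⊔ Q ≤ normalizerIn (P : Subgroup G) Q := sup_le hP₁ hQT
    have hgQ : ∀ q ∈ Q, (g : G) * q * (g : G)⁻¹ ∈ Q := fun q hq => (mem_normalizer_iff.mp g.2 q).mp hq
    have hgT : ∀ x ∈ P₁ ⊔ Q, (g : G) * x * (g : G)⁻¹ ∈ normalizerIn (P : Subgroup G) Q := by
      have hle : P₁ ⊔ Q ≤ (normalizerIn (P : Subgroup G) Q).comap (MulAut.conj (g : G)).toMonoidHom := by
        have hc : ∀ x, (MulAut.conj (g : G)).toMonoidHom x = (g : G) * x * (g : G)⁻¹ := fun x => rfl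
        refine sup_le (fun x hx => ?_) (fun q hq => ?_)
        · have h1 := hge ⟨x, hx⟩
          rw [Subgroup.mem_comap, hc]
          have h2 := hφ ⟨x, hx⟩
          rw [h1] at h2
          exact h2
        · rw [Subgroup.mem_comap, hc]
          exact hQT (hgQ q hq)
      exact fun x hx => hle hx
    have hχ : conjHom (P₁ ⊔ Q) (g : G) ∈ (groupFusionSystem (P : Subgroup G)).Hom (P₁ ⊔ Q) :=
      ⟨hP₁Q.trans hTle, fun x => hTle (hgT x x.2), g, fun x => rfl⟩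
    refine ⟨⟨hP₁.trans hTle, fun x => hTle (hφ x), g, hge⟩, hP₁, hφ, conjHom (P₁ ⊔ Q) (g : G), hχ, fun x => (hge x).symm, ?_⟩
    apply le_antisymm
    · rintro _ ⟨x, hx, rfl⟩
      exact hgQ _ (mem_subgroupOf.mp hx)
    · intro q hq
      have h1 : (g : G)⁻¹ * q * (g : G)⁻¹⁻¹ ∈ Q := (mem_normalizer_iff.mp (inv_mem g.2) q).mp hq
      refine ⟨⟨_, mem_sup_right h1⟩, mem_subgroupOf.mpr h1, ?_⟩
      show (g : G) * ((g : G)⁻¹ * q * (g : G)⁻¹⁻¹) * (g : G)⁻¹ = q
      group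

/-- Not being involved in `G` passes to the models of the fusion system. -/
theorem sectionFree_group (P : Sylow p G) {H : Type*} [Group H] (h : ¬ Involves H G) :
    (groupFusionSystem (P : Subgroup G)).IsSectionFree p H := by
  intro Q hQn hQc N hN L _ ι hL hinv
  have hNe : N = normalizerSystem (groupFusionSystem (P : Subgroup G)) Q hQn.1 := fusion_ext (fun R => hN R)
  subst hNe
  obtain ⟨Y, _, π, ιY, hπs, -, hY⟩ := exists_group_model P hQn hQc
  have hTp : IsPGroup p (normalizerIn (P : Subgroup G) Q) := P.isPGroup'.to_le inf_le_left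
  haveI hTfin : Finite (normalizerIn (P : Subgroup G) Q) := inferInstance
  obtain ⟨e, -⟩ := Cfsg.Agent.S5091.result p hTp _ (isConstrained_of_model hY) ι ιY hL hY
  exact h (involves_of_injective (normalizer (Q : Set G)).subtype (Subgroup.subtype_injective _)
    (involves_of_surjective π hπs (involves_of_injective e.toMonoidHom e.injective hinv)))

end CfsgLib.MX
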