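import Cfsg.Agent.Lib.MX.Gp1
import Cfsg.Agent.S0664

/-! The centre of the Thompson subgroup is normal in `Qd(p)`-free systems. -/

set_option autoImplicit false
set_option linter.unusedSectionVars false
set_option linter.unusedVariables false
set_option linter.style.haveILetI false

open Subgroup Cfsg Cfsg.FusionSystem CfsgLib.Fusion

namespace CfsgLib.MX

universe u

/-- The centre of the Thompson subgroup, as a functor. -/
def zjFun (Q : Type u) [Group Q] : Subgroup Q := centerThompsonAOf (⊤ : Subgroup Q)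

theorem WS_zj {Ω : Type u} [Group Ω] [Finite Ω] (S : Subgroup Ω) : WS zjFun S = centerThompsonAOf S := by
  have h1 := CfsgLib.OOL.centerThompsonAOf_map_inj S.subtype (U := (⊤ : Subgroup ↥S)) (fun x _ y _ h => Subtype.ext h)
  have h2 : (⊤ : Subgroup ↥S).map S.subtype = S := by
    ext x
    constructor
    · rintro ⟨y, -, rfl⟩
      exact y.2
    · intro hx
      exact ⟨⟨x, hx⟩, mem_top _, rfl⟩
  rw [h2] at h1
  exact h1.symm

variable {p : ℕ} [Fact p.Prime]

theorem gfun_zj : GFun p zjFun := by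
  refine ⟨fun Q _ _ hQ hnt => ?_, fun Q R _ _ _ hQ φ => ?_⟩
  · apply CfsgLib.OOL.F_ne_bot (hQ.to_subgroup ⊤)
    intro h
    obtain ⟨a, b, hab⟩ := hnt
    have h1 : a ∈ (⊤ : Subgroup Q) := mem_top a
    have h2 : b ∈ (⊤ : Subgroup Q) := mem_top b
    rw [h] at h1 h2
    exact hab ((mem_bot.mp h1).trans (mem_bot.mp h2).symm)
  · haveI : Finite R := Finite.of_equiv Q φ.toEquiv
    have h1 := CfsgLib.OOL.centerThompsonAOf_map_inj φ.toMonoidHom (U := (⊤ : Subgroup Q)) (fun x _ y _ h => φ.injective h)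
    have h2 : (⊤ : Subgroup Q).map φ.toMonoidHom = ⊤ := by
      rw [eq_top_iff]
      intro y _
      exact ⟨φ.symm y, mem_top _, by simp⟩
    rw [h2] at h1
    exact h1.symm

/-- **Glauberman's `ZJ`-theorem for fusion systems**. -/
theorem isNormal_zj (hp : p ≠ 2) {Ω : Type u} [Group Ω] [Finite Ω] {S : Subgroup Ω} (hS : IsPGroup p S)
    (F : FusionSystem S) (hF : F.IsSaturated p) (hfree : F.IsSectionFree p ↥(qd p)) : F.IsNormal (centerThompsonAOf S) := by
  have h := isNormal_WS (p := p) (W := zjFun) (H := ↥(qd p)) gfun_zj (fun L _ _ P hC hf => by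
    have h1 := WS_zj (P : Subgroup L)
    have h2 : (centerThompsonAOf (P : Subgroup L)).Normal :=
      Cfsg.Agent.S0664.result hp hf (hC.le.trans inf_le_left) P
    show (WS zjFun (P : Subgroup L)).Normal
    rw [h1]
    exact h2) (Nat.card S) Ω S rfl hS F hF hfree
  rwa [WS_zj] at h

end CfsgLib.MX
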