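import Cfsg.Agent.Lib.MX.Gp2
import Cfsg.Agent.Lib.OOL.QdCtl

/-! `Qd(p)` in a finite group is visible in the local models. -/

set_option autoImplicit false
set_option linter.unusedSectionVars false
set_option linter.unusedVariables false
set_option linter.style.haveILetI false

open Subgroup Cfsg Cfsg.FusionSystem CfsgLib.Fusion CfsgLib.OOL

namespace CfsgLib.MX

universe u

variable {p : ℕ} [hpf : Fact p.Prime]

/-- A group acting through `SL₂(p)` on a section of a subgroup as on the natural module involves `Qd(p)`. -/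
theorem qd_section' (hp : p ≠ 2) {M : Type*} [Group M] [Finite M] (R₀ : Subgroup M) (τ : ↥R₀ →* VecP p)
    (hτ : Function.Surjective τ)
    (hact : ∀ g : M, ∃ A : SLE (ZMod p), ∀ (r : M) (hr : r ∈ R₀), ∃ h : g * r * g⁻¹ ∈ R₀,
      τ ⟨g * r * g⁻¹, h⟩ = vecAct A (τ ⟨r, hr⟩))
    (hsurj : ∀ A : SLE (ZMod p), ∃ g : M, ∀ (r : M) (hr : r ∈ R₀), ∃ h : g * r * g⁻¹ ∈ R₀,
      τ ⟨g * r * g⁻¹, h⟩ = vecAct A (τ ⟨r, hr⟩)) : SecX (qd p) M := by
  classical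
  -- uniqueness of the matrix
  have huniq : ∀ (g : M) (A B : SLE (ZMod p)),
      (∀ (r : M) (hr : r ∈ R₀), ∃ h : g * r * g⁻¹ ∈ R₀, τ ⟨g * r * g⁻¹, h⟩ = vecAct A (τ ⟨r, hr⟩)) →
      (∀ (r : M) (hr : r ∈ R₀), ∃ h : g * r * g⁻¹ ∈ R₀, τ ⟨g * r * g⁻¹, h⟩ = vecAct B (τ ⟨r, hr⟩)) → A = B := by
    intro g A B hA hB
    have h1 : A⁻¹ * B = 1 := by
      apply eq_one_of_act
      intro v
      obtain ⟨r, rfl⟩ := hτ v
      obtain ⟨h₁, h₂⟩ := hA r r.2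
      obtain ⟨h₃, h₄⟩ := hB r r.2
      have h5 : vecAct A (τ ⟨r, r.2⟩) = vecAct B (τ ⟨r, r.2⟩) := h₂.symm.trans h₄
      have h6 : (⟨r, r.2⟩ : ↥R₀) = r := rfl
      rw [h6] at h5
      rw [map_mul, MulAut.mul_apply, ← h5, ← MulAut.mul_apply, ← map_mul, inv_mul_cancel, map_one]
      rfl
    exact (inv_mul_eq_one.mp h1)
  obtain ⟨θ, hθ⟩ : ∃ θ : M →* SLE (ZMod p), ∀ g, ∀ (r : M) (hr : r ∈ R₀), ∃ h : g * r * g⁻¹ ∈ R₀,
      τ ⟨g * r * g⁻¹, h⟩ = vecAct (θ g) (τ ⟨r, hr⟩) := by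
    refine ⟨MonoidHom.mk' (fun g => Classical.choose (hact g)) ?_, fun g => Classical.choose_spec (hact g)⟩
    intro a b
    refine huniq (a * b) _ _ (Classical.choose_spec (hact (a * b))) ?_
    intro r hr
    obtain ⟨h₁, h₂⟩ := Classical.choose_spec (hact b) r hr
    obtain ⟨h₃, h₄⟩ := Classical.choose_spec (hact a) _ h₁
    have e : a * b * r * (a * b)⁻¹ = a * (b * r * b⁻¹) * a⁻¹ := by group
    refine ⟨e ▸ h₃, ?_⟩
    have h5 : (⟨a * b * r * (a * b)⁻¹, e ▸ h₃⟩ : ↥R₀) = ⟨a * (b * r * b⁻¹) * a⁻¹, h₃⟩ := Subtype.ext e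
    rw [h5, h₄, h₂, map_mul, MulAut.mul_apply]
  have hθs : Function.Surjective θ := by
    intro A
    obtain ⟨g, hg⟩ := hsurj A
    exact ⟨g, huniq g _ _ (hθ g) hg⟩
  have hRθ : ∀ r ∈ R₀, θ r = 1 := by
    intro r₀ hr₀
    refine huniq r₀ _ _ (hθ r₀) ?_
    intro r hr
    have h1 : r₀ * r * r₀⁻¹ ∈ R₀ := mul_mem (mul_mem hr₀ hr) (inv_mem hr₀)
    refine ⟨h1, ?_⟩
    rw [map_one]
    have e : (⟨r₀ * r * r₀⁻¹, h1⟩ : ↥R₀) = ⟨r₀, hr₀⟩ * ⟨r, hr⟩ * ⟨r₀, hr₀⟩⁻¹ := rfl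
    rw [e, map_mul, map_mul, map_inv, mul_comm (τ ⟨r₀, hr₀⟩), mul_inv_cancel_right]
    rfl
  -- the kernel
  obtain ⟨N, hNd⟩ : ∃ N, N = τ.ker.map R₀.subtype := ⟨_, rfl⟩
  have hNm : ∀ x, x ∈ N ↔ ∃ hx : x ∈ R₀, τ ⟨x, hx⟩ = 1 := by
    intro x
    rw [hNd]
    constructor
    · rintro ⟨y, hy, rfl⟩
      exact ⟨y.2, MonoidHom.mem_ker.mp hy⟩
    · rintro ⟨hx, h⟩
      exact ⟨⟨x, hx⟩, MonoidHom.mem_ker.mpr h, rfl⟩
  haveI hNn : N.Normal := by
    refine ⟨fun n hn g => ?_⟩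
    obtain ⟨hx, h⟩ := (hNm n).mp hn
    obtain ⟨h₁, h₂⟩ := hθ g n hx
    refine (hNm _).mpr ⟨h₁, ?_⟩
    rw [h₂, h, map_one]
  obtain ⟨θb, hθb⟩ : ∃ θb : M ⧸ N →* SLE (ZMod p), ∀ g, θb (QuotientGroup.mk' N g) = θ g :=
    ⟨QuotientGroup.lift N θ (fun x hx => hRθ x ((hNm x).mp hx).1), fun g => rfl⟩
  have hθbs : Function.Surjective θb := by
    intro A
    obtain ⟨g, rfl⟩ := hθs A
    exact ⟨QuotientGroup.mk' N g, hθb g⟩
  have hkerle : τ.ker ≤ ((QuotientGroup.mk' N).comp R₀.subtype).ker := by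
    intro y hy
    apply MonoidHom.mem_ker.mpr
    exact (QuotientGroup.eq_one_iff _).mpr ((hNm y).mpr ⟨y.2, MonoidHom.mem_ker.mp hy⟩)
  obtain ⟨β, hβ⟩ : ∃ β : VecP p →* M ⧸ N, ∀ r : ↥R₀, β (τ r) = QuotientGroup.mk' N (r : M) :=
    ⟨MonoidHom.liftOfSurjective τ hτ ⟨(QuotientGroup.mk' N).comp R₀.subtype, hkerle⟩,
      fun t => MonoidHom.liftOfRightInverse_comp_apply _ _ _ _ t⟩
  have hβi : Function.Injective β := by
    refine (injective_iff_map_eq_one β).mpr fun e he => ?_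
    obtain ⟨r, rfl⟩ := hτ e
    rw [hβ] at he
    have h1 := (QuotientGroup.eq_one_iff _).mp he
    obtain ⟨hx, h⟩ := (hNm _).mp h1
    exact h
  have hc : ∀ g e, g * β e * g⁻¹ = β (vecAct (θb g) e) := by
    intro g e
    obtain ⟨g, rfl⟩ := QuotientGroup.mk'_surjective N g
    obtain ⟨r, rfl⟩ := hτ e
    obtain ⟨h₁, h₂⟩ := hθ g r r.2
    have h6 : (⟨r, r.2⟩ : ↥R₀) = r := rfl
    rw [h6] at h₂
    rw [hθb, ← h₂, hβ, hβ, ← map_inv, ← map_mul, ← map_mul]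
  exact SecX.of_surjective (QuotientGroup.mk' N) (QuotientGroup.mk'_surjective N) (qd_section hp θb hθbs β hβi hc)

/-- Translations, inside `Qd(p)`. -/
def trQ : VecP p →* ↥(qd p) := qdTr.codRestrict (qd p) qdTr_mem

theorem trQ_inj : Function.Injective (trQ (p := p)) := by
  intro a b hab
  have h2 : qdTr a = qdTr b := congrArg Subtype.val hab
  have h3 := congrArg (fun M : SL3 p => (M : Matrix (Fin 3) (Fin 3) (ZMod p))) h2
  simp only [qdTr_coe] at h3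
  apply Multiplicative.toAdd.injective
  ext i
  fin_cases i
  · simpa using congrFun (congrFun h3 0) 2
  · simpa using congrFun (congrFun h3 1) 2

theorem exQ_conj (A : SLE (ZMod p)) (e : VecP p) :
    (⟨qdExt A, qdExt_mem A⟩ : ↥(qd p)) * trQ e * (⟨qdExt A, qdExt_mem A⟩ : ↥(qd p))⁻¹ = trQ (vecAct A e) := by
  apply Subtype.ext
  show qdExt A * qdTr e * (qdExt A)⁻¹ = qdTr (vecAct A e)
  rw [qdExt_mul_tr]
  group

theorem exists_conj_trQ (x : ↥(qd p)) : ∃ A : SLE (ZMod p), ∀ e, x * trQ e * x⁻¹ = trQ (vecAct A e) := by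
  obtain ⟨v, A, h⟩ := qd_decomp x.2
  refine ⟨A, fun e => ?_⟩
  have hx : x = trQ v * ⟨qdExt A, qdExt_mem A⟩ := Subtype.ext h
  rw [hx, mul_inv_rev]
  have h1 := exQ_conj A e
  calc trQ v * ⟨qdExt A, qdExt_mem A⟩ * trQ e * ((⟨qdExt A, qdExt_mem A⟩ : ↥(qd p))⁻¹ * (trQ v)⁻¹)
      = trQ v * ((⟨qdExt A, qdExt_mem A⟩ : ↥(qd p)) * trQ e * (⟨qdExt A, qdExt_mem A⟩ : ↥(qd p))⁻¹) * (trQ v)⁻¹ := by group
    _ = trQ v * trQ (vecAct A e) * (trQ v)⁻¹ := by rw [h1]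
    _ = trQ (v * vecAct A e * v⁻¹) := by rw [map_mul, map_mul, map_inv]
    _ = trQ (vecAct A e) := by
      congr 1
      rw [mul_comm v, mul_inv_cancel_right]

instance trQ_range_normal : (trQ (p := p)).range.Normal := by
  refine ⟨?_⟩
  rintro _ ⟨e, rfl⟩ x
  obtain ⟨A, hA⟩ := exists_conj_trQ x
  exact ⟨vecAct A e, (hA e).symm⟩

theorem trQ_range_pgroup : IsPGroup p (trQ (p := p)).range := by
  rintro ⟨_, e, rfl⟩
  refine ⟨1, Subtype.ext ?_⟩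
  show (trQ e) ^ p ^ 1 = 1
  rw [pow_one, ← map_pow, vecP_exp, map_one]

/-- `Qd(p)` has no nontrivial normal subgroup of order prime to `p`. -/
theorem qd_core_bot {A : Subgroup ↥(qd p)} (hA : A.Normal) (hc : ∀ a ∈ A, (orderOf a).Coprime p) : A = ⊥ := by
  rw [eq_bot_iff]
  intro a ha
  obtain ⟨B, hB⟩ := exists_conj_trQ a
  -- `a` centralizes the translations
  have hcomm : ∀ e, a * trQ e * a⁻¹ * (trQ e)⁻¹ = 1 := by
    intro e
    have h1 : a * trQ e * a⁻¹ * (trQ e)⁻¹ ∈ A := by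
      have h2 := hA.conj_mem _ (inv_mem ha) (trQ e)
      have e1 : a * trQ e * a⁻¹ * (trQ e)⁻¹ = a * (trQ e * a⁻¹ * (trQ e)⁻¹) := by group
      rw [e1]
      exact mul_mem ha h2
    have h3 := hc _ h1
    rw [hB, ← map_inv, ← map_mul] at h3 ⊢
    have h4 : (trQ (vecAct B e * e⁻¹)) ^ p = 1 := by
      rw [← map_pow, vecP_exp, map_one]
    have h5 := orderOf_dvd_of_pow_eq_one h4
    exact orderOf_eq_one_iff.mp (Nat.Coprime.eq_one_of_dvd h3 h5)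
  have hB1 : B = 1 := by
    apply eq_one_of_act
    intro v
    have h1 := hcomm v
    rw [hB, ← map_inv, ← map_mul] at h1
    have h2 : trQ (vecAct B v * v⁻¹) = trQ 1 := by rw [h1, map_one]
    have h3 := trQ_inj h2
    exact mul_inv_eq_one.mp h3
  obtain ⟨v, A', h⟩ := qd_decomp a.2
  have hae : a = trQ v * ⟨qdExt A', qdExt_mem A'⟩ := Subtype.ext h
  have hA' : A' = 1 := by
    apply eq_one_of_act
    intro e
    have h1 := hcomm e
    rw [hae, mul_inv_rev] at h1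
    have h2 := exQ_conj A' e
    have h3 : trQ v * ⟨qdExt A', qdExt_mem A'⟩ * trQ e * ((⟨qdExt A', qdExt_mem A'⟩ : ↥(qd p))⁻¹ * (trQ v)⁻¹) =
        trQ v * ((⟨qdExt A', qdExt_mem A'⟩ : ↥(qd p)) * trQ e * (⟨qdExt A', qdExt_mem A'⟩ : ↥(qd p))⁻¹) * (trQ v)⁻¹ := by group
    rw [h3, h2, ← map_inv, ← map_inv, ← map_mul, ← map_mul, ← map_mul] at h1
    have h4 : trQ (v * vecAct A' e * v⁻¹ * e⁻¹) = trQ 1 := by rw [h1, map_one]
    have h5 := trQ_inj h4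
    rw [mul_comm v, mul_inv_cancel_right] at h5
    exact mul_inv_eq_one.mp h5
  have hav : a = trQ v := by
    rw [hae, hA']
    have h1 : (⟨qdExt 1, qdExt_mem 1⟩ : ↥(qd p)) = 1 := Subtype.ext (map_one qdExt)
    rw [h1, mul_one]
  have h6 := hc a ha
  have h7 : a ^ p = 1 := by
    rw [hav, ← map_pow, vecP_exp, map_one]
  exact mem_bot.mpr (orderOf_eq_one_iff.mp (Nat.Coprime.eq_one_of_dvd h6 (orderOf_dvd_of_pow_eq_one h7)))

/-- `Qd(p)` survives the quotient by a normal subgroup without `p`-elements. -/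
theorem secX_of_quot {X Y : Type*} [Group X] [Finite X] [Group Y] (π : X →* Y) (hπs : Function.Surjective π)
    (hπ : ∀ g, π g = 1 → (∃ k : ℕ, g ^ (p ^ k) = 1) → g = 1) (h : SecX (qd p) X) : SecX (qd p) Y := by
  classical
  obtain ⟨K, ψ, hψ⟩ := h
  have hcop : ∀ x : X, π x = 1 → (orderOf x).Coprime p := by
    intro x hx
    by_contra hnc
    have hpd : p ∣ orderOf x := (Nat.Prime.dvd_iff_not_coprime hpf.out).mpr (fun h => hnc h.symm)
    obtain ⟨m, hm⟩ := hpd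
    have h1 : (x ^ m) ^ p ^ 1 = 1 := by
      rw [pow_one, ← pow_mul, mul_comm, ← hm, pow_orderOf_eq_one]
    have h2 := hπ (x ^ m) (by rw [map_pow, hx, one_pow]) ⟨1, h1⟩
    have hpos : 0 < orderOf x := orderOf_pos x
    have hmpos : 0 < m := Nat.pos_of_ne_zero (by rintro rfl; rw [mul_zero] at hm; omega)
    have h3 := orderOf_le_of_pow_eq_one hmpos h2
    have hp2 := hpf.out.two_le
    nlinarith
  -- the image of the kernel
  obtain ⟨A, hAd⟩ : ∃ A, A = (π.comp K.subtype).ker.map ψ := ⟨_, rfl⟩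
  have hAn : A.Normal := by
    rw [hAd]
    exact (MonoidHom.normal_ker _).map ψ hψ
  have hAb : A = ⊥ := by
    refine qd_core_bot hAn fun a ha => ?_
    rw [hAd] at ha
    obtain ⟨x, hx, rfl⟩ := ha
    have h1 := hcop x (MonoidHom.mem_ker.mp hx)
    have h2 : orderOf (ψ x) ∣ orderOf (x : X) := by
      rw [Subgroup.orderOf_coe]
      exact orderOf_map_dvd ψ x
    exact Nat.Coprime.coprime_dvd_left h2 h1
  have hker : ∀ x : K, π x = 1 → ψ x = 1 := by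
    intro x hx
    have h1 : ψ x ∈ A := by
      rw [hAd]
      exact ⟨x, MonoidHom.mem_ker.mpr hx, rfl⟩
    rw [hAb] at h1
    exact mem_bot.mp h1
  have hfs : Function.Surjective (π.subgroupMap K) := π.subgroupMap_surjective K
  have hle : (π.subgroupMap K).ker ≤ ψ.ker := by
    intro x hx
    apply MonoidHom.mem_ker.mpr
    apply hker
    have h1 := congrArg (fun z : ↥(K.map π) => (z : Y)) (MonoidHom.mem_ker.mp hx)
    exact h1
  obtain ⟨ψ', hψ'⟩ : ∃ ψ' : ↥(K.map π) →* ↥(qd p), ∀ x, ψ' (π.subgroupMap K x) = ψ x :=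
    ⟨MonoidHom.liftOfSurjective _ hfs ⟨ψ, hle⟩, fun t => MonoidHom.liftOfRightInverse_comp_apply _ _ _ _ t⟩
  refine ⟨K.map π, ψ', fun y => ?_⟩
  obtain ⟨x, rfl⟩ := hψ y
  exact ⟨_, hψ' x⟩

section local_qd

variable {G : Type u} [Group G] [Finite G]

/-- `g` acts on `R₀`, read through `τ`, as the matrix `A`. -/
def ActOn (R₀ : Subgroup G) (τ : ↥R₀ →* VecP p) (g : G) (A : SLE (ZMod p)) : Prop :=
  ∀ (r : G) (hr : r ∈ R₀), ∃ h : g * r * g⁻¹ ∈ R₀, τ ⟨g * r * g⁻¹, h⟩ = vecAct A (τ ⟨r, hr⟩)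

variable {R₀ : Subgroup G} {τ : ↥R₀ →* VecP p}

theorem ActOn.mul {a b : G} {A B : SLE (ZMod p)} (ha : ActOn R₀ τ a A) (hb : ActOn R₀ τ b B) :
    ActOn R₀ τ (a * b) (A * B) := by
  intro r hr
  obtain ⟨h₁, h₂⟩ := hb r hr
  obtain ⟨h₃, h₄⟩ := ha _ h₁
  have e : a * b * r * (a * b)⁻¹ = a * (b * r * b⁻¹) * a⁻¹ := by group
  have h0 : a * b * r * (a * b)⁻¹ ∈ R₀ := by
    rw [e]
    exact h₃
  refine ⟨h0, ?_⟩
  have h5 : (⟨a * b * r * (a * b)⁻¹, h0⟩ : ↥R₀) = ⟨a * (b * r * b⁻¹) * a⁻¹, h₃⟩ := Subtype.ext e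
  rw [h5, h₄, h₂, map_mul, MulAut.mul_apply]

theorem ActOn.inv {g : G} {A : SLE (ZMod p)} (hg : g ∈ normalizer (R₀ : Set G)) (h : ActOn R₀ τ g A) :
    ActOn R₀ τ g⁻¹ A⁻¹ := by
  intro r hr
  have h₁ : g⁻¹ * r * g⁻¹⁻¹ ∈ R₀ := (mem_normalizer_iff.mp (inv_mem hg) r).mp hr
  refine ⟨h₁, ?_⟩
  obtain ⟨h₂, h₃⟩ := h _ h₁
  have e : g * (g⁻¹ * r * g⁻¹⁻¹) * g⁻¹ = r := by group
  have h4 : (⟨g * (g⁻¹ * r * g⁻¹⁻¹) * g⁻¹, h₂⟩ : ↥R₀) = ⟨r, hr⟩ := Subtype.ext e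
  rw [h4] at h₃
  rw [h₃, map_inv, MulAut.inv_apply_self]

/-- Elements acting through `SL₂(p)`. -/
def actGroup (R₀ : Subgroup G) (τ : ↥R₀ →* VecP p) : Subgroup G where
  carrier := {g | g ∈ normalizer (R₀ : Set G) ∧ ∃ A, ActOn R₀ τ g A}
  one_mem' := by
    refine ⟨one_mem _, 1, fun r hr => ?_⟩
    have e : (1 : G) * r * 1⁻¹ = r := by group
    have h0 : (1 : G) * r * 1⁻¹ ∈ R₀ := by
      rw [e]
      exact hr
    refine ⟨h0, ?_⟩
    have h4 : (⟨(1 : G) * r * 1⁻¹, h0⟩ : ↥R₀) = ⟨r, hr⟩ := Subtype.ext e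
    rw [h4, map_one]
    rfl
  mul_mem' := by
    rintro a b ⟨ha, A, hA⟩ ⟨hb, B, hB⟩
    exact ⟨mul_mem ha hb, A * B, hA.mul hB⟩
  inv_mem' := by
    rintro a ⟨ha, A, hA⟩
    exact ⟨inv_mem ha, A⁻¹, hA.inv ha⟩

/-- The product of `R₀` and its centralizer. -/
def cenProd (R₀ : Subgroup G) : Subgroup G :=
  prodSub R₀ (centralizer (R₀ : Set G)) (fun a ha b hb => mem_centralizer_iff.mpr fun u hu => by
    have h1 := mem_centralizer_iff.mp hb (a⁻¹ * u * a) (mul_mem (mul_mem (inv_mem ha) hu) ha)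
    calc u * (a * b * a⁻¹) = a * ((a⁻¹ * u * a) * b) * a⁻¹ := by group
      _ = a * (b * (a⁻¹ * u * a)) * a⁻¹ := by rw [h1]
      _ = _ := by group)

theorem actOn_of_cenProd {c : G} (hc : c ∈ cenProd R₀) : ActOn R₀ τ c 1 := by
  obtain ⟨a, ha, b, hb, rfl⟩ := hc
  intro r hr
  have h1 := mem_centralizer_iff.mp hb r hr
  have e : a * b * r * (a * b)⁻¹ = a * r * a⁻¹ := by
    calc a * b * r * (a * b)⁻¹ = a * (b * r) * b⁻¹ * a⁻¹ := by group
      _ = a * (r * b) * b⁻¹ * a⁻¹ := by rw [← h1]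
      _ = _ := by group
  have h2 : a * r * a⁻¹ ∈ R₀ := mul_mem (mul_mem ha hr) (inv_mem ha)
  have h0 : a * b * r * (a * b)⁻¹ ∈ R₀ := by
    rw [e]
    exact h2
  refine ⟨h0, ?_⟩
  have h4 : (⟨a * b * r * (a * b)⁻¹, h0⟩ : ↥R₀) = ⟨a, ha⟩ * ⟨r, hr⟩ * ⟨a, ha⟩⁻¹ := Subtype.ext e
  rw [h4, map_mul, map_mul, map_inv, mul_comm (τ ⟨a, ha⟩), mul_inv_cancel_right, map_one]
  rfl

theorem cenProd_le_normalizer : cenProd R₀ ≤ normalizer (R₀ : Set G) := by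
  rintro _ ⟨a, ha, b, hb, rfl⟩
  refine mul_mem (Subgroup.le_normalizer ha) ?_
  exact Subgroup.centralizer_le_normalizer _ hb

theorem cenProd_le_actGroup : cenProd R₀ ≤ actGroup R₀ τ :=
  fun _ hc => ⟨cenProd_le_normalizer hc, 1, actOn_of_cenProd hc⟩

theorem conj_mem_cenProd {g c : G} (hg : g ∈ normalizer (R₀ : Set G)) (hc : c ∈ cenProd R₀) : g * c * g⁻¹ ∈ cenProd R₀ := by
  obtain ⟨a, ha, b, hb, rfl⟩ := hc
  refine ⟨g * a * g⁻¹, (mem_normalizer_iff.mp hg a).mp ha, g * b * g⁻¹, mem_centralizer_iff.mpr fun u hu => ?_, by group⟩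
  have h1 : g⁻¹ * u * g⁻¹⁻¹ ∈ R₀ := (mem_normalizer_iff.mp (inv_mem hg) u).mp hu
  have h2 := mem_centralizer_iff.mp hb _ h1
  calc u * (g * b * g⁻¹) = g * ((g⁻¹ * u * g⁻¹⁻¹) * b) * g⁻¹ := by group
    _ = g * (b * (g⁻¹ * u * g⁻¹⁻¹)) * g⁻¹ := by rw [h2]
    _ = _ := by group

/-- **The local form of `Qd(p)`**. -/
theorem exists_local_qd (hp : p ≠ 2) (h : SecX (qd p) G) : ∃ U : Subgroup G, IsPGroup p U ∧
    (∀ g ∈ centralizer (U : Set G), (∃ k : ℕ, g ^ (p ^ k) = 1) → g ∈ U) ∧ SecX (qd p) (normalizer (U : Set G)) := by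
  classical
  obtain ⟨K, ψ, hψ⟩ := h
  obtain ⟨T₀, hT₀p, hT₀m, hT₀n⟩ := normalizer_lift (p := p) ψ hψ (trQ (p := p)).range trQ_range_pgroup
  obtain ⟨τ₀, hτ₀⟩ : ∃ τ₀ : ↥T₀ →* VecP p, ∀ t, trQ (τ₀ t) = ψ t := by
    have hv : ∀ t : ↥T₀, (ψ.comp T₀.subtype) t ∈ (trQ (p := p)).range := fun t => by
      rw [← hT₀m]
      exact ⟨t, t.2, rfl⟩
    refine ⟨(MonoidHom.ofInjective (trQ_inj (p := p))).symm.toMonoidHom.comp ((ψ.comp T₀.subtype).codRestrict _ hv), fun t => ?_⟩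
    have h1 := (MonoidHom.ofInjective (trQ_inj (p := p))).apply_symm_apply ⟨_, hv t⟩
    exact congrArg Subtype.val h1
  have hτ₀s : Function.Surjective τ₀ := by
    intro e
    have h1 : trQ e ∈ T₀.map ψ := by
      rw [hT₀m]
      exact ⟨e, rfl⟩
    obtain ⟨t, ht, hte⟩ := h1
    refine ⟨⟨t, ht⟩, trQ_inj ?_⟩
    rw [hτ₀]
    exact hte
  obtain ⟨R₀, hR₀d⟩ : ∃ R₀, R₀ = T₀.map K.subtype := ⟨_, rfl⟩
  have hR₀K : R₀ ≤ K := by
    rw [hR₀d]
    exact Subgroup.map_subtype_le _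
  have hR₀m : ∀ (x : K), (x : G) ∈ R₀ ↔ x ∈ T₀ := by
    intro x
    rw [hR₀d]
    constructor
    · rintro ⟨y, hy, he⟩
      have : y = x := Subtype.ext he
      rwa [← this]
    · intro hx
      exact ⟨x, hx, rfl⟩
  have hR₀p : IsPGroup p R₀ := by
    rw [hR₀d]
    exact hT₀p.map _
  obtain ⟨τ, hτ⟩ : ∃ τ : ↥R₀ →* VecP p, ∀ (x : K) (hx : (x : G) ∈ R₀), trQ (τ ⟨x, hx⟩) = ψ x := by
    have hv : ∀ r : ↥R₀, (⟨r, hR₀K r.2⟩ : K) ∈ T₀ := fun r => (hR₀m _).mp r.2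
    refine ⟨τ₀.comp (MonoidHom.codRestrict (Subgroup.inclusion hR₀K) T₀ hv), fun x hx => ?_⟩
    exact hτ₀ ⟨x, (hR₀m x).mp hx⟩
  have hτs : Function.Surjective τ := by
    intro e
    obtain ⟨t, rfl⟩ := hτ₀s e
    have ht : ((t : K) : G) ∈ R₀ := (hR₀m _).mpr t.2
    refine ⟨⟨_, ht⟩, trQ_inj ?_⟩
    rw [hτ (t : K) ht, hτ₀]
  obtain ⟨Γ₁, hΓd⟩ : ∃ Γ₁, Γ₁ = actGroup R₀ τ := ⟨_, rfl⟩
  have hΓm : ∀ g, g ∈ Γ₁ ↔ g ∈ normalizer (R₀ : Set G) ∧ ∃ A, ActOn R₀ τ g A := by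
    intro g
    rw [hΓd]
    exact Iff.rfl
  have hCΓ : cenProd R₀ ≤ Γ₁ := by
    rw [hΓd]
    exact cenProd_le_actGroup
  have hR₀C : R₀ ≤ cenProd R₀ := fun r hr => ⟨r, hr, 1, one_mem _, by simp⟩
  -- the Frattini argument
  haveI hC'n : ((cenProd R₀).subgroupOf Γ₁).Normal := by
    refine ⟨fun n hn g => ?_⟩
    exact mem_subgroupOf.mpr (conj_mem_cenProd ((hΓm _).mp g.2).1 (mem_subgroupOf.mp hn))
  have hR'p : IsPGroup p (R₀.comap (Γ₁.subtype.comp ((cenProd R₀).subgroupOf Γ₁).subtype)) :=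
    hR₀p.comap_of_injective _ (Γ₁.subtype_injective.comp (Subgroup.subtype_injective _))
  obtain ⟨Pc, hPc⟩ := hR'p.exists_le_sylow
  have hfr := Sylow.normalizer_sup_eq_top Pc
  obtain ⟨U₁, hU₁d⟩ : ∃ U₁, U₁ = (Pc : Subgroup ↥((cenProd R₀).subgroupOf Γ₁)).map ((cenProd R₀).subgroupOf Γ₁).subtype := ⟨_, rfl⟩
  rw [← hU₁d] at hfr
  have hU₁p : IsPGroup p U₁ := by
    rw [hU₁d]
    exact Pc.2.map _
  have hR₀U₁ : ∀ (r : G) (hr : r ∈ R₀), (⟨r, hCΓ (hR₀C hr)⟩ : ↥Γ₁) ∈ U₁ := by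
    intro r hr
    rw [hU₁d]
    refine ⟨⟨⟨r, hCΓ (hR₀C hr)⟩, mem_subgroupOf.mpr (hR₀C hr)⟩, hPc ?_, rfl⟩
    exact hr
  refine ⟨U₁.map Γ₁.subtype, hU₁p.map _, ?_, ?_⟩
  · -- the maximality
    intro g hg hgp
    have hgC : g ∈ cenProd R₀ := by
      refine ⟨1, one_mem _, g, mem_centralizer_iff.mpr fun u hu => ?_, by simp⟩
      exact mem_centralizer_iff.mp hg u ⟨⟨u, hCΓ (hR₀C hu)⟩, hR₀U₁ u hu, rfl⟩
    obtain ⟨g₂, hg₂⟩ : ∃ g₂ : ↥((cenProd R₀).subgroupOf Γ₁), ((g₂ : ↥Γ₁) : G) = g :=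
      ⟨⟨⟨g, hCΓ hgC⟩, mem_subgroupOf.mpr hgC⟩, rfl⟩
    have hzp : IsPGroup p (zpowers g₂) := by
      rintro ⟨y, hy⟩
      obtain ⟨k, hk⟩ := hgp
      obtain ⟨j, rfl⟩ := Subgroup.mem_zpowers_iff.mp hy
      refine ⟨k, Subtype.ext (Subtype.ext (Subtype.ext ?_))⟩
      have h1 : g₂ ^ p ^ k = 1 := by
        apply Subtype.ext
        apply Subtype.ext
        simpa [hg₂] using hk
      show (((g₂ ^ j) ^ p ^ k : ↥((cenProd R₀).subgroupOf Γ₁)) : ↥Γ₁).1 = _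
      rw [← zpow_natCast, ← zpow_mul, mul_comm, zpow_mul, zpow_natCast, h1, one_zpow]
      rfl
    have hcg : ∀ u ∈ (Pc : Subgroup ↥((cenProd R₀).subgroupOf Γ₁)), g₂ * u = u * g₂ := by
      intro u hu
      apply Subtype.ext
      apply Subtype.ext
      have h1 : (((u : ↥((cenProd R₀).subgroupOf Γ₁)) : ↥Γ₁) : G) ∈ (U₁.map Γ₁.subtype : Subgroup G) := by
        rw [hU₁d]
        exact ⟨_, ⟨u, hu, rfl⟩, rfl⟩
      have h2 := mem_centralizer_iff.mp hg _ h1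
      simp only [Subgroup.coe_mul, hg₂]
      exact h2.symm
    have hzN : zpowers g₂ ≤ normalizer ((Pc : Subgroup ↥((cenProd R₀).subgroupOf Γ₁)) : Set _) := by
      rw [Subgroup.zpowers_le]
      refine mem_normalizer_iff.mpr fun u => ?_
      constructor
      · intro hu
        rw [hcg u hu]
        simpa using hu
      · intro hu
        have e : g₂ * u * g₂⁻¹ = g₂ * u * g₂⁻¹ := rfl
        have h1 : g₂⁻¹ * (g₂ * u * g₂⁻¹) = (u * g₂⁻¹) := by group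
        have hcg' := hcg _ hu
        have h2 : u = g₂ * u * g₂⁻¹ := by
          have : g₂ * (g₂ * u * g₂⁻¹) * g₂⁻¹ = g₂ * u * g₂⁻¹ := by
            rw [hcg' ]
            group
          have h3 : g₂ * (g₂ * u * g₂⁻¹) * g₂⁻¹ = g₂ * (g₂ * u * g₂⁻¹ * g₂⁻¹) := by group
          rw [h3] at this
          have h4 := mul_left_cancel (a := g₂) (b := g₂ * u * g₂⁻¹ * g₂⁻¹) (c := u * g₂⁻¹) (by rw [this]; group)
          have h5 := mul_right_cancel (b := g₂⁻¹) h4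
          exact h5.symm
        rw [h2]
        exact hu
    have hsup := hPc
    have hsupp := IsPGroup.to_sup_of_normal_left' Pc.2 hzp hzN
    have heq := Pc.is_maximal' hsupp le_sup_left
    have hmem : g₂ ∈ (Pc : Subgroup ↥((cenProd R₀).subgroupOf Γ₁)) := by
      rw [← heq]
      exact mem_sup_right (Subgroup.mem_zpowers g₂)
    rw [hU₁d]
    exact ⟨_, ⟨g₂, hmem, rfl⟩, hg₂⟩
  · -- the section
    apply secX_normalizer_map Γ₁.subtype Γ₁.subtype_injective U₁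
    -- the subgroup and the map
    obtain ⟨f, hfd⟩ : ∃ f : ↥(normalizer (U₁ : Set ↥Γ₁)) →* G, f = Γ₁.subtype.comp (normalizer (U₁ : Set ↥Γ₁)).subtype := ⟨_, rfl⟩
    have hfv : ∀ x : ↥(normalizer (U₁ : Set ↥Γ₁)), f x = ((x : ↥Γ₁) : G) := fun x => by rw [hfd]; rfl
    refine qd_section' hp (R₀.comap f) (τ.comp (f.subgroupComap R₀)) ?_ ?_ ?_
    · intro e
      obtain ⟨r, rfl⟩ := hτs e
      have hx : (⟨r, hCΓ (hR₀C r.2)⟩ : ↥Γ₁) ∈ normalizer (U₁ : Set ↥Γ₁) := Subgroup.le_normalizer (hR₀U₁ r r.2)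
      have hfx : f ⟨_, hx⟩ ∈ R₀ := by
        rw [hfv]
        exact r.2
      refine ⟨⟨⟨_, hx⟩, hfx⟩, ?_⟩
      show τ (f.subgroupComap R₀ ⟨⟨_, hx⟩, hfx⟩) = τ r
      congr 1
      apply Subtype.ext
      exact hfv _
    · intro g
      obtain ⟨A, hA⟩ := ((hΓm _).mp (g : ↥Γ₁).2).2
      refine ⟨A, fun r hr => ?_⟩
      have hr' : f r ∈ R₀ := hr
      obtain ⟨h₁, h₂⟩ := hA (f r) hr'
      refine ⟨?_, ?_⟩
      · show f (g * r * g⁻¹) ∈ R₀
        rw [map_mul, map_mul, map_inv, hfv g]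
        exact h₁
      · show τ (f.subgroupComap R₀ _) = vecAct A (τ (f.subgroupComap R₀ _))
        have e1 : f.subgroupComap R₀ ⟨r, hr⟩ = ⟨f r, hr'⟩ := rfl
        rw [e1, ← h₂]
        congr 1
        apply Subtype.ext
        show f (g * r * g⁻¹) = _
        rw [map_mul, map_mul, map_inv, hfv g]
    · intro A
      obtain ⟨x, hxA⟩ : ∃ x : ↥(qd p), ∀ e, x * trQ e * x⁻¹ = trQ (vecAct A e) := ⟨_, exQ_conj A⟩
      have hx : x ∈ (normalizer (T₀ : Set K)).map ψ := by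
        rw [hT₀n]
        exact mem_top x
      obtain ⟨k, hkN, rfl⟩ := hx
      have hkR : (k : G) ∈ normalizer (R₀ : Set G) := by
        rw [hR₀d]
        exact Subgroup.le_normalizer_map _ ⟨k, hkN, rfl⟩
      have hkA : ActOn R₀ τ (k : G) A := by
        intro r hr
        have h₁ : (k : G) * r * (k : G)⁻¹ ∈ R₀ := (mem_normalizer_iff.mp hkR r).mp hr
        refine ⟨h₁, trQ_inj ?_⟩
        have hrK : r ∈ K := hR₀K hr
        have h2 := hτ (k * ⟨r, hrK⟩ * k⁻¹) h₁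
        have h3 := hτ ⟨r, hrK⟩ hr
        have e1 : (⟨(k : G) * r * (k : G)⁻¹, h₁⟩ : ↥R₀) = ⟨((k * ⟨r, hrK⟩ * k⁻¹ : K) : G), h₁⟩ := rfl
        rw [e1, h2, ← hxA, map_mul, map_mul, map_inv]
        congr 2
        exact h3.symm
      have hkΓ : (k : G) ∈ Γ₁ := (hΓm _).mpr ⟨hkR, A, hkA⟩
      have htop : (⟨k, hkΓ⟩ : ↥Γ₁) ∈ normalizer (U₁ : Set ↥Γ₁) ⊔ (cenProd R₀).subgroupOf Γ₁ := by
        have hfr' : normalizer (U₁ : Set ↥Γ₁) ⊔ (cenProd R₀).subgroupOf Γ₁ = ⊤ := hfr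
        rw [hfr']
        exact mem_top _
      obtain ⟨m, hm, n, hn, hmn⟩ := Subgroup.mem_sup_of_normal_right.mp htop
      have hnC : (n : G) ∈ cenProd R₀ := mem_subgroupOf.mp hn
      have hmA : ActOn R₀ τ (m : G) A := by
        have h1 : (m : G) = (k : G) * (n : G)⁻¹ := by
          have h2 := congrArg (fun z : ↥Γ₁ => (z : G)) hmn
          simp only [Subgroup.coe_mul] at h2
          rw [← h2]
          group
        rw [h1]
        have h3 := hkA.mul ((actOn_of_cenProd hnC (τ := τ)).inv (cenProd_le_normalizer hnC))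
        simpa using h3
      refine ⟨⟨m, hm⟩, fun r hr => ?_⟩
      have hr' : f r ∈ R₀ := hr
      obtain ⟨h₁, h₂⟩ := hmA (f r) hr'
      refine ⟨?_, ?_⟩
      · show f (⟨m, hm⟩ * r * (⟨m, hm⟩ : ↥(normalizer (U₁ : Set ↥Γ₁)))⁻¹) ∈ R₀
        rw [map_mul, map_mul, map_inv, hfv ⟨m, hm⟩]
        exact h₁
      · show τ (f.subgroupComap R₀ _) = vecAct A (τ (f.subgroupComap R₀ _))
        have e1 : f.subgroupComap R₀ ⟨r, hr⟩ = ⟨f r, hr'⟩ := rfl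
        rw [e1, ← h₂]
        congr 1
        apply Subtype.ext
        show f (⟨m, hm⟩ * r * (⟨m, hm⟩ : ↥(normalizer (U₁ : Set ↥Γ₁)))⁻¹) = _
        rw [map_mul, map_mul, map_inv, hfv ⟨m, hm⟩]

end local_qd

/-- It suffices to exclude sections from the normalizers of the fully normalized centric subgroups. -/
theorem sectionFree_of_local {G : Type u} [Group G] [Finite G] (P : Sylow p G) {H : Type*} [Group H]
    (h : ∀ Q : Subgroup G, (groupFusionSystem (P : Subgroup G)).IsFullyNormalized Q →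
      (groupFusionSystem (P : Subgroup G)).IsCentric Q → ¬ Involves H ↥(normalizer (Q : Set G))) :
    (groupFusionSystem (P : Subgroup G)).IsSectionFree p H := by
  intro Q hQn hQc N hN L _ ι hL hinv
  have hNe : N = normalizerSystem (groupFusionSystem (P : Subgroup G)) Q hQn.1 := fusion_ext (fun R => hN R)
  subst hNe
  obtain ⟨Y, _, π, ιY, hπs, -, hY⟩ := exists_group_model P hQn hQc
  have hTp : IsPGroup p (normalizerIn (P : Subgroup G) Q) := P.isPGroup'.to_le inf_le_left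
  haveI hTfin : Finite (normalizerIn (P : Subgroup G) Q) := inferInstance
  obtain ⟨e, -⟩ := Cfsg.Agent.S5091.result p hTp _ (isConstrained_of_model hY) ι ιY hL hY
  exact h Q hQn hQc (involves_of_surjective π hπs (involves_of_injective e.toMonoidHom e.injective hinv))

/-- `SL₂(p)` is a section of `Qd(p)`. -/
theorem secX_sl2_qd : SecX (SLE (ZMod p)) ↥(qd p) := by
  have hinj : Function.Injective (qdExt.codRestrict (qd p) (qdExt_mem (p := p))) := by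
    intro a b hab
    have h2 : qdExt a = qdExt b := congrArg Subtype.val hab
    have h3 := congrArg (fun M : SL3 p => (M : Matrix (Fin 3) (Fin 3) (ZMod p))) h2
    simp only [qdExt_coe] at h3
    apply Subtype.ext
    ext i j
    fin_cases i <;> fin_cases j
    · simpa using (congrFun (congrFun h3 0) 0)
    · simpa using (congrFun (congrFun h3 0) 1)
    · simpa using (congrFun (congrFun h3 1) 0)
    · simpa using (congrFun (congrFun h3 1) 1)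
  exact SecX.of_equiv _ (MonoidHom.ofInjective hinj).symm

/-- A map of a normal subgroup gives an element of the normalizer. -/
theorem exists_normalizer_conj_of_normal {G : Type u} [Group G] [Finite G] {T W : Subgroup G}
    (hn : (groupFusionSystem T).IsNormal W) {x y g : G} (hxT : x ∈ T) (hyT : y ∈ T) (he : g * x * g⁻¹ = y) :
    ∃ n ∈ normalizer (W : Set G), n * x * n⁻¹ = y := by
  have hxz : zpowers x ≤ T := (Subgroup.zpowers_le).mpr hxT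
  have hφ : conjHom (zpowers x) g ∈ (groupFusionSystem T).Hom (zpowers x) := by
    refine ⟨hxz, ?_, g, fun _ => rfl⟩
    rintro ⟨u, hu⟩
    obtain ⟨k, rfl⟩ := Subgroup.mem_zpowers_iff.mp hu
    show g * x ^ k * g⁻¹ ∈ T
    rw [← conj_zpow, he]
    exact zpow_mem hyT k
  obtain ⟨ψ, ⟨-, -, n, hn'⟩, hψe, hψm⟩ := hn.2 _ _ hφ
  have hgq : ∀ q ∈ W, n * q * n⁻¹ ∈ W := by
    intro q hq
    have h1 : ψ ⟨q, mem_sup_right hq⟩ ∈ (W.subgroupOf (zpowers x ⊔ W)).map ψ := ⟨_, mem_subgroupOf.mpr hq, rfl⟩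
    rw [hψm, hn'] at h1
    exact h1
  have hgq' : ∀ q ∈ W, n⁻¹ * q * n ∈ W := by
    intro q hq
    have h1 : q ∈ (W.subgroupOf (zpowers x ⊔ W)).map ψ := by
      rw [hψm]
      exact hq
    obtain ⟨z, hz, rfl⟩ := h1
    rw [hn']
    have e : n⁻¹ * (n * (z : G) * n⁻¹) * n = z := by group
    rw [e]
    exact mem_subgroupOf.mp hz
  refine ⟨n, mem_normalizer_of_conj hgq hgq', ?_⟩
  have h1 := hψe ⟨x, mem_zpowers x⟩
  rw [hn'] at h1
  have h2 : conjHom (zpowers x) g ⟨x, mem_zpowers x⟩ = g * x * g⁻¹ := rfl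
  rw [h2, he] at h1
  exact h1

end CfsgLib.MX
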