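import Cfsg.Agent.Lib.MX.Gp1
import Cfsg.Agent.Lib.MX.MX4
import Cfsg.Agent.Lib.Fusion.Model
import Cfsg.Agent.Lib.H3.PSolv4
import Cfsg.Agent.Lib.Fusion.Core
import Cfsg.Agent.Lib.PLocal.Core

/-! Fusion systems of `p`-solvable groups. -/

set_option autoImplicit false
set_option linter.unusedSectionVars false
set_option linter.unusedVariables false
set_option linter.style.haveILetI false

open Subgroup Cfsg Cfsg.FusionSystem CfsgLib.Fusion

namespace CfsgLib.MX

universe u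

variable {Ω : Type u} [Group Ω] {S : Subgroup Ω} [Finite S] {p : ℕ} [Fact p.Prime] {F : FusionSystem S}

/-- The core of a system with a model. -/
theorem core_eq_of_model {G : Type*} [Group G] {ι : ↥S →* G} (hS : IsPGroup p S) (hG : F.IsModel p G ι) :
    F.core = preIota ι (pCore p G) := by
  obtain ⟨hfin, hF, ⟨T, hT⟩, hC⟩ := id hG
  have hJr : pCore p G ≤ ι.range := hT ▸ CfsgLib.PLocal.pCore_le_sylow T
  apply le_antisymm
  · exact le_of_isNormal hS F (model_core_centric hG) (model_core_radical hS hG) (isNormal_core F)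
  · exact le_sSup (isNormal_of_realized hF (pCore p G) CfsgLib.PLocal.pCore_normal' hJr)

/-- The group of a model maps onto the automizer of the core. -/
theorem exists_autRep {G : Type*} [Group G] {ι : ↥S →* G} (hG : F.IsModel p G ι) :
    ∃ ρ : G →* ↥(F.autGroup (preIota ι (pCore p G))), Function.Surjective ρ ∧ ρ.ker ≤ pCore p G := by
  obtain ⟨hfin, hF, ⟨T, hT⟩, hC⟩ := hG
  have hJr : pCore p G ≤ ι.range := hT ▸ CfsgLib.PLocal.pCore_le_sylow T
  obtain ⟨J, hJ⟩ : ∃ J, J = pCore p G := ⟨_, rfl⟩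
  rw [← hJ] at hJr hC ⊢
  have hJn : J.Normal := hJ ▸ CfsgLib.PLocal.pCore_normal'
  obtain ⟨U, hU⟩ : ∃ U : Subgroup Ω, U = preIota ι J := ⟨_, rfl⟩
  rw [← hU]
  have hUS : U ≤ S := hU ▸ preIota_le J
  have hUm : ∀ x (hx : x ∈ S), x ∈ U ↔ ι ⟨x, hx⟩ ∈ J := fun x hx => by rw [hU]; exact mem_preIota hx
  have : Finite U := finite_of_le hUS
  have : Finite (MulAut U) := finite_mulAut _
  let e₀ : U →* J := (ι.comp (Subgroup.inclusion hUS)).codRestrict J (fun x => (hUm _ (hUS x.2)).mp x.2)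
  have hι := hF.1
  have he₀ : Function.Bijective e₀ := by
    constructor
    · intro a b hab
      have h1 := hι (congrArg Subtype.val hab)
      exact Subgroup.inclusion_injective hUS h1
    · rintro ⟨y, hy⟩
      obtain ⟨x, rfl⟩ := hJr hy
      exact ⟨⟨x, (hUm _ x.2).mpr hy⟩, rfl⟩
  let e : U ≃* J := MulEquiv.ofBijective e₀ he₀
  let a₀ : G →* MulAut U := (MulAut.congr e.symm).toMonoidHom.comp (MulAut.conjNormal (H := J))
  have ha₀ : ∀ (g : G) (x : U), ι ⟨(a₀ g x : U), hUS (a₀ g x).2⟩ = g * ι ⟨x, hUS x.2⟩ * g⁻¹ := by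
    intro g x
    have h1 : e (a₀ g x) = MulAut.conjNormal g (e x) := by
      show e (e.symm (MulAut.conjNormal g (e.symm.symm x))) = _
      simp
    have h2 := congrArg (fun a : J => (a : G)) h1
    simp only [MulAut.conjNormal_apply] at h2
    exact h2
  have haA : ∀ g, a₀ g ∈ F.autGroup U := by
    intro g
    rw [mem_autGroup_iff F hUS]
    refine (hF.2 U hUS _ (fun x => hUS (a₀ g x).2)).mpr ⟨g, fun x => ?_⟩
    exact ha₀ g x
  let a : G →* F.autGroup U := a₀.codRestrict _ haA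
  have has : Function.Surjective a := by
    rintro ⟨α, hα⟩
    have h1 := (mem_autGroup_iff F hUS).mp hα
    obtain ⟨g, hg⟩ := (hF.2 U hUS _ (fun x => hUS (α x).2)).mp h1
    refine ⟨g, Subtype.ext ?_⟩
    ext x
    have h9 := hι ((ha₀ g x).trans (hg x).symm)
    exact Subtype.mk.inj h9
  have hkerJ : a.ker ≤ J := by
    intro g hg
    apply hC
    rw [mem_centralizer_iff]
    intro y hy
    obtain ⟨x, rfl⟩ := hJr hy
    have hxU : (x : Ω) ∈ U := (hUm _ x.2).mpr hy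
    have h1 : a₀ g = 1 := congrArg Subtype.val (MonoidHom.mem_ker.mp hg)
    have h2 := ha₀ g ⟨x, hxU⟩
    rw [h1] at h2
    have h3 : ι x = g * ι x * g⁻¹ := h2
    calc ι x * g = (g * ι x * g⁻¹) * g := by rw [← h3]
      _ = g * ι x := by group
  exact ⟨a, has, hkerJ⟩

/-- The quotient by the `p'`-core of a `p`-solvable group is a model. -/
theorem model_of_pSolvable {G : Type u} [Group G] [Finite G] {ι : ↥S →* G} (hS : IsPGroup p S) (hsol : IsPSolvable p G)
    (hr : F.IsRealizedBy ι) (T : Sylow p G) (hT : (T : Subgroup G) = ι.range) :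
    ∃ (Y : Type u) (_ : Group Y) (ῑ : ↥S →* Y), IsPSolvable p Y ∧ F.IsModel p Y ῑ := by
  classical
  haveI hKn : (pPrimeCore p G).Normal := CfsgLib.PLocal.pPrimeCore_normal'
  have hKc : (Nat.card (pPrimeCore p G)).Coprime p := CfsgLib.PLocal.pPrimeCore_coprime
  obtain ⟨π, hπd⟩ : ∃ π : G →* G ⧸ pPrimeCore p G, π = QuotientGroup.mk' (pPrimeCore p G) := ⟨_, rfl⟩
  have hπs : Function.Surjective π := by
    rw [hπd]
    exact QuotientGroup.mk'_surjective _
  have hπ : ∀ g, π g = 1 → (∃ k : ℕ, g ^ (p ^ k) = 1) → g = 1 := by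
    rintro g h1 ⟨k, hk⟩
    rw [hπd] at h1
    have hg : g ∈ pPrimeCore p G := (QuotientGroup.eq_one_iff g).mp h1
    have ho : orderOf g ∣ p ^ k := orderOf_dvd_of_pow_eq_one hk
    have ho2 : orderOf g ∣ Nat.card (pPrimeCore p G) := Subgroup.orderOf_dvd_natCard _ hg
    have h2 := Nat.Coprime.eq_one_of_dvd (Nat.Coprime.coprime_dvd_left ho2 (hKc.pow_right k)) ho
    exact orderOf_eq_one_iff.mp h2
  have hιp : ∀ x : ↥S, ∃ k : ℕ, (ι x) ^ (p ^ k) = 1 := by
    intro x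
    obtain ⟨k, hk⟩ := hS x
    exact ⟨k, by rw [← map_pow, hk, map_one]⟩
  have hinj : Function.Injective (π.comp ι) := by
    rw [injective_iff_map_eq_one]
    intro x hx
    exact hr.1 ((hπ _ hx (hιp x)).trans (map_one ι).symm)
  have hsol' : IsPSolvable p (G ⧸ pPrimeCore p G) := CfsgLib.PSolv.quotient Fact.out hsol _
  refine ⟨G ⧸ pPrimeCore p G, inferInstance, π.comp ι, hsol', inferInstance, ⟨hinj, fun P hP φ hφ => ?_⟩,
    ⟨T.mapSurjective hπs, ?_⟩, CfsgLib.PSolv.centralizer_pCore_le hsol' CfsgLib.PLocal.pPrimeCore_quotient⟩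
  · constructor
    · intro hm
      obtain ⟨g, hg⟩ := (hr.2 P hP φ hφ).mp hm
      refine ⟨π g, fun x => ?_⟩
      rw [MonoidHom.comp_apply, MonoidHom.comp_apply, hg x, map_mul, map_mul, map_inv]
    · rintro ⟨g₀, hg₀⟩
      obtain ⟨g, rfl⟩ := hπs g₀
      refine (hr.2 P hP φ hφ).mpr ?_
      have hSp : IsPGroup p (⊤ : Subgroup ↥S) := hS.to_subgroup _
      obtain ⟨B, hBd⟩ : ∃ B : Subgroup G, B = (⊤ : Subgroup ↥S).map ι := ⟨_, rfl⟩
      obtain ⟨A, hAd⟩ : ∃ A : Subgroup G, A = ((P.subgroupOf S).map ι).map (MulAut.conj g).toMonoidHom := ⟨_, rfl⟩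
      have hBp : IsPGroup p B := hBd ▸ hSp.map ι
      have hAp : IsPGroup p A := hAd ▸ ((hS.to_subgroup _).map ι).map _
      have hAB : ∀ a ∈ A, ∃ b ∈ B, π a = π b := by
        rw [hAd]
        rintro _ ⟨_, ⟨x, hx, rfl⟩, rfl⟩
        have hx' : (x : Ω) ∈ P := mem_subgroupOf.mp hx
        refine ⟨ι ⟨φ ⟨x, hx'⟩, hφ _⟩, by rw [hBd]; exact ⟨_, mem_top _, rfl⟩, ?_⟩
        have h1 := hg₀ ⟨x, hx'⟩
        rw [MonoidHom.comp_apply, MonoidHom.comp_apply] at h1
        rw [h1]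
        show π (g * ι x * g⁻¹) = _
        rw [map_mul, map_mul, map_inv]
      obtain ⟨k, hk1, hk2⟩ := exists_conj_adjust π hπ hBp hAp hAB
      refine ⟨k * g, fun x => ?_⟩
      have hxS : (x : Ω) ∈ S := hP x.2
      have ha : g * ι ⟨x, hxS⟩ * g⁻¹ ∈ A := by
        rw [hAd]
        exact ⟨ι ⟨x, hxS⟩, ⟨⟨x, hxS⟩, mem_subgroupOf.mpr x.2, rfl⟩, rfl⟩
      have hb := hk2 _ ha
      rw [hBd] at hb
      obtain ⟨y, -, hy⟩ := hb
      have h1 := hg₀ x
      have h2 : π (ι y) = π (ι ⟨φ x, hφ x⟩) := by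
        rw [hy, map_mul, map_mul, hk1, map_inv, hk1]
        rw [MonoidHom.comp_apply, MonoidHom.comp_apply] at h1
        rw [h1, map_mul, map_mul, map_inv]
        simp
      have h3 : y = ⟨φ x, hφ x⟩ := hinj h2
      rw [← h3, hy]
      group
  · show (T : Subgroup G).map π = _
    rw [hT]
    exact MonoidHom.map_range _ _

/-- The realization by a `p`-solvable group. -/
theorem pSolvable_realized_iff (hS : IsPGroup p S) (hF : F.IsSaturated p) :
    (∃ (G : Type u) (_ : Group G) (_ : Finite G) (ι : S →* G), IsPSolvable p G ∧ F.IsRealizedBy ι ∧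
        ∃ T : Sylow p G, (T : Subgroup G) = ι.range) ↔
      (F.IsConstrained p ∧ IsPSolvable p ↥(F.autGroup F.core)) := by
  constructor
  · rintro ⟨G, _, _, ι, hsol, hr, T, hT⟩
    obtain ⟨Y, _, ῑ, hY, hM⟩ := model_of_pSolvable hS hsol hr T hT
    refine ⟨isConstrained_of_model hM, ?_⟩
    rw [core_eq_of_model hS hM]
    obtain ⟨ρ, hρ, -⟩ := exists_autRep hM
    exact CfsgLib.PSolv.of_surjective Fact.out hY ρ hρ
  · rintro ⟨⟨hsat, Q, hQn, hQc⟩, hA⟩
    obtain ⟨L, _, ι, hM⟩ := exists_model hS F hF hQn hQc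
    obtain ⟨hfin, hr, ⟨T, hT⟩, hC⟩ := id hM
    rw [core_eq_of_model hS hM] at hA
    obtain ⟨ρ, hρ, hk⟩ := exists_autRep hM
    refine ⟨L, inferInstance, hfin, ι, ?_, hr, T, hT⟩
    haveI : ρ.ker.Normal := MonoidHom.normal_ker ρ
    refine CfsgLib.PSolv.ext ρ.ker ?_ ?_
    · have hp : IsPGroup p ρ.ker := (CfsgLib.PLocal.pCore_isPGroup (p := p) (G := L)).to_le hk
      obtain ⟨m, hm⟩ := IsPGroup.iff_card.mp hp
      exact CfsgLib.PSolv.of_good (Or.inl ⟨m, hm⟩)
    · exact CfsgLib.PSolv.of_mulEquiv Fact.out (QuotientGroup.quotientKerEquivOfSurjective ρ hρ).symm hA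

end CfsgLib.MX
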