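import Cfsg.Agent.Lib.MX.Stab1
import Cfsg.Agent.Lib.Fusion.Small3
import Cfsg.Agent.Lib.Fusion.Model
import Cfsg.Agent.Lib.MX.Wz1

/-! Transport of automorphisms along maps; enlarging a subgroup to a centric radical subgroup. -/

set_option autoImplicit false
set_option linter.unusedSectionVars false
set_option linter.unusedVariables false
set_option linter.style.haveILetI false

open Subgroup Cfsg Cfsg.FusionSystem CfsgLib.Fusion

namespace CfsgLib.MX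

section

variable {Ω : Type*} [Group Ω] {S : Subgroup Ω} [Finite S] {p : ℕ} [Fact p.Prime] {F : FusionSystem S}

/-- Transport of an automorphism along a map. -/
theorem exists_transport {X : Subgroup Ω} {ψ : ↥X →* Ω} (hψ : ψ ∈ F.Hom X) {χ : MulAut X} (hχ : χ ∈ F.autGroup X) :
    ∃ χ' : MulAut ψ.range, χ' ∈ F.autGroup ψ.range ∧ ∀ x : ↥X, ((χ' ⟨ψ x, ⟨x, rfl⟩⟩ : ↥ψ.range) : Ω) = ψ (χ x) := by
  have hXS : X ≤ S := source_le F hψ
  have hb := (mem_autGroup_iff F hXS).mp hχ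
  have hle : (X.subtype.comp χ.toMonoidHom).range ≤ X := (range_of_aut χ).le
  have ha₁ := restrict_mem F hψ hle
  have hr₁ : (ψ.comp (Subgroup.inclusion hle)).range = ψ.range := by
    apply le_antisymm
    · rintro _ ⟨x, rfl⟩
      exact ⟨_, rfl⟩
    · rintro _ ⟨x, rfl⟩
      have hx : (x : Ω) ∈ (X.subtype.comp χ.toMonoidHom).range := by rw [range_of_aut]; exact x.2
      exact ⟨⟨x, hx⟩, rfl⟩
  obtain ⟨β, hβA, hβ⟩ := exists_triple hb hψ rfl ha₁ hr₁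
  exact ⟨β, hβA, fun x => hβ x ⟨ψ x, ⟨x, rfl⟩⟩ rfl⟩

/-- Membership in the largest normal `p`-subgroup is preserved by the transport. -/
theorem pCore_transport_iff {X : Subgroup Ω} {ψ : ↥X →* Ω} (hψ : ψ ∈ F.Hom X) {χ : MulAut X} (hχ : χ ∈ F.autGroup X)
    {χ' : MulAut ψ.range} (hχ' : χ' ∈ F.autGroup ψ.range) (hc : ∀ x : ↥X, ((χ' ⟨ψ x, ⟨x, rfl⟩⟩ : ↥ψ.range) : Ω) = ψ (χ x)) :
    χ ∈ (pCore p ↥(F.autGroup X)).map (F.autGroup X).subtype ↔
      χ' ∈ (pCore p ↥(F.autGroup ψ.range)).map (F.autGroup ψ.range).subtype := by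
  have hXS : X ≤ S := source_le F hψ
  have hYS : ψ.range ≤ S := range_le F hψ
  have hXfin : Finite X := finite_of_le hXS
  have hYfin : Finite ψ.range := finite_of_le hYS
  have hMX : Finite (MulAut X) := finite_mulAut _
  have hMY : Finite (MulAut ψ.range) := finite_mulAut _
  have hinj := F.injective_of_mem hψ
  let e : ↥X ≃* ↥ψ.range := MonoidHom.ofInjective hinj
  have hee : ∀ x : ↥X, ((e x : ↥ψ.range) : Ω) = ψ x := fun x => MonoidHom.ofInjective_apply hinj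
  let c : MulAut X ≃* MulAut ψ.range := MulAut.congr e
  have hcv : ∀ (a : MulAut X) (x : ↥X), c a (e x) = e (a x) := by
    intro a x
    show e (a (e.symm (e x))) = _
    simp
  have hcmem : ∀ a ∈ F.autGroup X, c a ∈ F.autGroup ψ.range := by
    intro a ha
    obtain ⟨a', ha', hae⟩ := exists_transport hψ ha
    have e1 : c a = a' := by
      ext y
      obtain ⟨x, hx⟩ := e.surjective y
      rw [← hx, hcv, hee]
      have h2 : e x = ⟨ψ x, ⟨x, rfl⟩⟩ := Subtype.ext (hee x)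
      rw [h2, hae]
    rw [e1]
    exact ha'
  let f : ↥(F.autGroup X) →* ↥(F.autGroup ψ.range) :=
    (c.toMonoidHom.comp (F.autGroup X).subtype).codRestrict _ (fun a => hcmem a a.2)
  have hfv : ∀ a : ↥(F.autGroup X), ((f a : ↥(F.autGroup ψ.range)) : MulAut ψ.range) = c a := fun a => rfl
  have hfinj : Function.Injective f := by
    intro a b hab
    have h1 := congrArg (fun z : ↥(F.autGroup ψ.range) => (z : MulAut ψ.range)) hab
    exact Subtype.ext (c.injective h1)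
  have hfsurj : Function.Surjective f := by
    rintro ⟨b, hb⟩
    obtain ⟨ρ, hρ, hρe⟩ := F.inv_mem hψ
    have hρr : ρ.range = X := by
      apply le_antisymm
      · rintro _ ⟨⟨_, x, rfl⟩, rfl⟩
        rw [hρe]
        exact x.2
      · intro x hx
        exact ⟨_, hρe ⟨x, hx⟩⟩
    have hbm := (mem_autGroup_iff F hYS).mp hb
    have hle : (ψ.range.subtype.comp b.toMonoidHom).range ≤ ψ.range := (range_of_aut b).le
    have ha₁ := restrict_mem F hρ hle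
    have hr₁ : (ρ.comp (Subgroup.inclusion hle)).range = X := by
      refine Eq.trans ?_ hρr
      apply le_antisymm
      · rintro _ ⟨x, rfl⟩
        exact ⟨_, rfl⟩
      · rintro _ ⟨x, rfl⟩
        have hx : (x : Ω) ∈ (ψ.range.subtype.comp b.toMonoidHom).range := by rw [range_of_aut]; exact x.2
        exact ⟨⟨x, hx⟩, rfl⟩
    obtain ⟨β, hβA, hβ⟩ := exists_triple hbm hρ hρr ha₁ hr₁
    refine ⟨⟨β, hβA⟩, Subtype.ext ?_⟩
    rw [hfv]
    ext y
    obtain ⟨x, hx⟩ := e.surjective y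
    rw [← hx]
    show ((c β (e x) : ↥ψ.range) : Ω) = ((b (e x) : ↥ψ.range) : Ω)
    rw [hcv, hee]
    have h1 := hβ (e x) x (by
      have h0 : e x = ⟨ψ x, ⟨x, rfl⟩⟩ := Subtype.ext (hee x)
      rw [h0]
      exact (hρe x).symm)
    -- apply `ψ` to the formula
    have h3 : (β x : Ω) = ρ (b (e x)) := h1
    obtain ⟨⟨_, w, rfl⟩, hw⟩ : ∃ w, w = b (e x) := ⟨_, rfl⟩
    rw [← hw] at h3 ⊢
    have h4 := hρe w
    have h5 : β x = w := Subtype.ext (h3.trans h4)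
    rw [h5]
  have hnY : (pCore p ↥(F.autGroup ψ.range)).Normal := CfsgLib.PLocal.pCore_normal'
  have hnX : (pCore p ↥(F.autGroup X)).Normal := CfsgLib.PLocal.pCore_normal'
  have hcχ : c χ = χ' := by
    ext y
    obtain ⟨x, hx⟩ := e.surjective y
    rw [← hx, hcv, hee]
    have h2 : e x = ⟨ψ x, ⟨x, rfl⟩⟩ := Subtype.ext (hee x)
    rw [h2, hc]
  constructor
  · rintro ⟨a, ha, hae⟩
    have hW : (pCore p ↥(F.autGroup X)).map f ≤ pCore p ↥(F.autGroup ψ.range) :=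
      CfsgLib.PLocal.le_pCore_of_normal _ (hnX.map f hfsurj) ((CfsgLib.PLocal.pCore_isPGroup).map f)
    have h1 := hW ⟨a, ha, rfl⟩
    refine ⟨_, h1, ?_⟩
    show c (a : MulAut X) = χ'
    have h2 : (a : MulAut X) = χ := hae
    rw [h2, hcχ]
  · rintro ⟨b, hb, hbe⟩
    have hW : (pCore p ↥(F.autGroup ψ.range)).comap f ≤ pCore p ↥(F.autGroup X) :=
      CfsgLib.PLocal.le_pCore_of_normal _ (hnY.comap f)
        ((CfsgLib.PLocal.pCore_isPGroup).comap_of_injective f hfinj)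
    have h1 : f ⟨χ, hχ⟩ = b := Subtype.ext (by
      rw [hfv]
      show c χ = _
      rw [hcχ]
      exact hbe.symm)
    have h2 : (⟨χ, hχ⟩ : ↥(F.autGroup X)) ∈ (pCore p ↥(F.autGroup ψ.range)).comap f := by
      rw [Subgroup.mem_comap, h1]
      exact hb
    exact ⟨_, hW h2, rfl⟩

/-- A fully normalized subgroup that is not centric and radical can be enlarged so that all automorphisms extend. -/
theorem exists_enlarge (hS : IsPGroup p S) {X : Subgroup Ω} (hfa : F.IsFullyAutomized p X) (hrec : F.IsReceptive X)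
    (hncr : ¬ (F.IsCentric X ∧ F.IsRadical p X)) :
    ∃ Z : Subgroup Ω, X < Z ∧ Z ≤ S ∧ ∀ α ∈ F.autGroup X, ∃ β ∈ F.autGroup Z, ∀ x : ↥X, ∀ hz : (x : Ω) ∈ Z,
      ((β ⟨x, hz⟩ : ↥Z) : Ω) = α x := by
  have hXS : X ≤ S := hfa.1
  have hXfin : Finite X := finite_of_le hXS
  have hMX : Finite (MulAut X) := finite_mulAut _
  obtain ⟨O, hOd⟩ : ∃ O : Subgroup (MulAut X), O = (pCore p ↥(F.autGroup X)).map (F.autGroup X).subtype := ⟨_, rfl⟩
  have hOA : O ≤ F.autGroup X := by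
    rw [hOd]
    exact Subgroup.map_subtype_le _
  have hOn : ∀ α ∈ F.autGroup X, ∀ ω ∈ O, α * ω * α⁻¹ ∈ O := by
    intro α hα ω hω
    rw [hOd] at hω ⊢
    obtain ⟨a, ha, rfl⟩ := hω
    have hn : (pCore p ↥(F.autGroup X)).Normal := CfsgLib.PLocal.pCore_normal'
    exact ⟨_, hn.conj_mem a ha ⟨α, hα⟩, rfl⟩
  obtain ⟨-, T₀, hT₀⟩ := id hfa
  have hOT : O ≤ autInducedBy S X := by
    rw [hOd]
    rintro _ ⟨a, ha, rfl⟩
    have h1 := CfsgLib.PLocal.pCore_le_sylow T₀ ha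
    rw [hT₀] at h1
    exact mem_subgroupOf.mp h1
  have hInn : Inn X ≤ O := by
    rw [hOd]
    exact inn_le_pCore_autGroup hS F hXS
  -- the enlarged subgroup
  let Z : Subgroup Ω :=
    { carrier := {y | y ∈ S ∧ ∃ h : y ∈ normalizer (X : Set Ω), conjAut h ∈ O}
      mul_mem' := by
        rintro a b ⟨ha, ha', ha2⟩ ⟨hb, hb', hb2⟩
        refine ⟨mul_mem ha hb, Subgroup.mul_mem _ ha' hb', ?_⟩
        have e : conjAut (Subgroup.mul_mem _ ha' hb') = conjAut ha' * conjAut hb' :=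
          map_mul X.normalizerMonoidHom ⟨a, ha'⟩ ⟨b, hb'⟩
        rw [e]
        exact mul_mem ha2 hb2
      one_mem' := by
        refine ⟨one_mem _, Subgroup.one_mem _, ?_⟩
        have e : conjAut (Subgroup.one_mem (normalizer (X : Set Ω))) = 1 := map_one X.normalizerMonoidHom
        rw [e]
        exact one_mem _
      inv_mem' := by
        rintro a ⟨ha, ha', ha2⟩
        refine ⟨S.inv_mem ha, Subgroup.inv_mem _ ha', ?_⟩
        rw [← conjAut_inv ha']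
        exact O.inv_mem ha2 }
  have hZm : ∀ y, y ∈ Z ↔ y ∈ S ∧ ∃ h : y ∈ normalizer (X : Set Ω), conjAut h ∈ O := fun y => Iff.rfl
  have hZS : Z ≤ S := fun y hy => ((hZm y).mp hy).1
  have hZfin : Finite Z := finite_of_le hZS
  have hXZ : X ≤ Z := by
    intro x hx
    refine (hZm x).mpr ⟨hXS hx, Subgroup.le_normalizer hx, hInn ?_⟩
    refine ⟨⟨x, hx⟩, ?_⟩
    ext y
    rfl
  have hlt : X < Z := by
    refine lt_of_le_of_ne hXZ fun e => hncr ?_
    have hcen : centralizerIn S X ≤ X := by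
      intro y hy
      rw [e]
      refine (hZm y).mpr ⟨hy.1, Subgroup.centralizer_le_normalizer _ hy.2, ?_⟩
      have e2 : conjAut (Subgroup.centralizer_le_normalizer _ hy.2) = 1 := by
        ext w
        show y * (w : Ω) * y⁻¹ = w
        have := mem_centralizer_iff.mp hy.2 _ w.2
        rw [← this]
        group
      rw [e2]
      exact one_mem _
    have hcentric : F.IsCentric X := by
      refine ⟨hXS, fun Q hQ => ?_⟩
      by_contra hn
      have hSsc : F.StronglyClosed S := ⟨le_rfl, fun R hR φ hφ x => (F.le_of_mem hφ).2 x⟩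
      exact centralizer_not_le hS hSsc hfa hrec (isConj_symm F hQ) hn hcen
    refine ⟨hcentric, hXS, le_antisymm ?_ (inn_le_pCore_autGroup hS F hXS)⟩
    rw [← hOd]
    intro ω hω
    obtain ⟨g, hg, hge⟩ := mem_autInducedBy.mp (hOT hω)
    have hgN : g ∈ normalizer (X : Set Ω) := by
      refine mem_normalizer_iff.mpr fun y => ⟨fun hy => ?_, fun hy => ?_⟩
      · have := hge ⟨y, hy⟩
        rw [← this]
        exact (ω ⟨y, hy⟩).2
      · have h1 := hge (ω⁻¹ ⟨g * y * g⁻¹, hy⟩)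
        have h2 : ω (ω⁻¹ ⟨g * y * g⁻¹, hy⟩) = ⟨g * y * g⁻¹, hy⟩ := by simp
        rw [h2] at h1
        have h3 : g * y * g⁻¹ = g * ((ω⁻¹ ⟨g * y * g⁻¹, hy⟩ : ↥X) : Ω) * g⁻¹ := h1
        have h4 : y = ((ω⁻¹ ⟨g * y * g⁻¹, hy⟩ : ↥X) : Ω) := mul_left_cancel (mul_right_cancel h3)
        rw [h4]
        exact (ω⁻¹ ⟨g * y * g⁻¹, hy⟩).2
    have e1 : ω = conjAut hgN := by
      ext w
      exact hge w
    have hgZ : g ∈ Z := (hZm g).mpr ⟨hg, hgN, by rw [← e1]; exact hω⟩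
    rw [← e] at hgZ
    rw [e1]
    exact ⟨⟨g, hgZ⟩, by
      ext w
      rfl⟩
  refine ⟨Z, hlt, hZS, fun α hα => ?_⟩
  have hαm := (mem_autGroup_iff F hXS).mp hα
  obtain ⟨ψ, hψ, hψe⟩ := hrec.2 X _ hαm (range_of_aut α)
  have hZext : Z ≤ extender S X (X.subtype.comp α.toMonoidHom) := by
    intro y hy
    obtain ⟨hyS, hyN, hyO⟩ := (hZm y).mp hy
    exact mem_extender_of_conj hyS hyN (hOT (hOn α hα _ hyO))
  have hf := restrict_mem F hψ hZext
  obtain ⟨f, hfd⟩ : ∃ f : ↥Z →* Ω, f = ψ.comp (Subgroup.inclusion hZext) := ⟨_, rfl⟩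
  rw [← hfd] at hf
  have hfv : ∀ (x : ↥X) (hz : (x : Ω) ∈ Z), f ⟨x, hz⟩ = α x := by
    intro x hz
    rw [hfd]
    exact hψe x x.2 _
  -- `f` normalizes `X`
  have hstep : ∀ y : ↥Z, ∀ x : ↥X, f y * (α x : Ω) * (f y)⁻¹ = α ⟨(y : Ω) * x * (y : Ω)⁻¹, (mem_normalizer_iff.mp ((hZm y).mp y.2).2.1 _).mp x.2⟩ := by
    intro y x
    have hw := (mem_normalizer_iff.mp ((hZm y).mp y.2).2.1 _).mp x.2
    rw [← hfv ⟨_, hw⟩ (Z.mul_mem (Z.mul_mem y.2 (hXZ x.2)) (Z.inv_mem y.2)), ← hfv x (hXZ x.2)]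
    rw [← map_inv, ← map_mul, ← map_mul]
    rfl
  have hfN : ∀ y : ↥Z, f y ∈ normalizer (X : Set Ω) := by
    have key : ∀ y : ↥Z, ∀ z ∈ X, f y * z * (f y)⁻¹ ∈ X := by
      intro y z hz
      have h1 := hstep y (α⁻¹ ⟨z, hz⟩)
      have h2 : α (α⁻¹ ⟨z, hz⟩) = ⟨z, hz⟩ := by simp
      rw [h2] at h1
      have h3 : f y * z * (f y)⁻¹ = ((α _ : ↥X) : Ω) := h1
      rw [h3]
      exact (α _).2
    intro y
    refine mem_normalizer_iff.mpr fun z => ⟨key y z, fun hz => ?_⟩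
    have h1 := key y⁻¹ _ hz
    rw [map_inv, inv_inv] at h1
    have e : (f y)⁻¹ * (f y * z * (f y)⁻¹) * f y = z := by group
    rwa [e] at h1
  have hfc : ∀ y : ↥Z, conjAut (hfN y) = α * conjAut ((hZm y).mp y.2).2.1 * α⁻¹ := by
    intro y
    ext w
    have h1 := hstep y (α⁻¹ w)
    have h2 : α (α⁻¹ w) = w := by simp
    rw [h2] at h1
    exact h1
  have hfZ : ∀ y : ↥Z, f y ∈ Z := by
    intro y
    refine (hZm _).mpr ⟨(F.le_of_mem hf).2 y, hfN y, ?_⟩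
    rw [hfc]
    exact hOn α hα _ ((hZm y).mp y.2).2.2
  have hfr : f.range = Z := by
    refine Subgroup.eq_of_le_of_card_ge ?_ ?_
    · rintro _ ⟨y, rfl⟩
      exact hfZ y
    · exact (Nat.card_congr (MonoidHom.ofInjective (F.injective_of_mem hf)).toEquiv).le
  obtain ⟨β, hβ, hβe⟩ := exists_aut_of_map F hf hfr
  exact ⟨β, hβ, fun x hz => by rw [hβe, hfv]⟩

/-- Every subgroup has a conjugate all of whose automorphisms extend to a fully normalized centric radical subgroup. -/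
theorem exists_top (hS : IsPGroup p S) (hF : F.IsSaturated p) :
    ∀ (n : ℕ) (X : Subgroup Ω), X ≤ S → Nat.card S - Nat.card X = n →
      ∃ Y R : Subgroup Ω, F.IsConj X Y ∧ F.IsFullyNormalized R ∧ F.IsCentric R ∧ F.IsRadical p R ∧ ∃ hYR : Y ≤ R,
        ∀ α ∈ F.autGroup Y, ∃ β ∈ F.autGroup R, ∀ y : ↥Y, ((β ⟨y, hYR y.2⟩ : ↥R) : Ω) = α y := by
  intro n
  induction n using Nat.strong_induction_on with
  | _ n IH =>
    intro X hXS hn
    obtain ⟨X', hc, hn'⟩ := exists_fullyNormalized_conj F hXS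
    have hfa := fullyAutomized_of_fullyNormalized hS F hF hn'
    have hrec := receptive_of_fullyCentralized hS F hF (fullyCentralized_of_fullyNormalized hS F hF hn')
    by_cases hcr : F.IsCentric X' ∧ F.IsRadical p X'
    · exact ⟨X', X', hc, hn', hcr.1, hcr.2, le_rfl, fun α hα => ⟨α, hα, fun y => rfl⟩⟩
    obtain ⟨Z, hlt, hZS, hext⟩ := exists_enlarge hS hfa hrec hcr
    have hZfin : Finite Z := finite_of_le hZS
    have hcard : Nat.card X' < Nat.card Z := card_lt_sub hlt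
    have hcX : Nat.card X = Nat.card X' := (CfsgLib.Fusion.card_of_isConj F hc)
    have hZle : Nat.card Z ≤ Nat.card S := Nat.card_mono (Set.toFinite _) hZS
    have hlt2 : Nat.card S - Nat.card Z < n := by omega
    obtain ⟨Y₀, R, hcZ, hRn, hRc, hRr, hYR, hR⟩ := IH _ hlt2 Z hZS rfl
    obtain ⟨ψ, hψ, rfl⟩ := hcZ
    have hψ₂ := restrict_mem F hψ hlt.le
    obtain ⟨ψ₂, hψ₂d⟩ : ∃ ψ₂ : ↥X' →* Ω, ψ₂ = ψ.comp (Subgroup.inclusion hlt.le) := ⟨_, rfl⟩
    rw [← hψ₂d] at hψ₂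
    have hY : ψ₂.range ≤ ψ.range := by
      rintro _ ⟨x, rfl⟩
      rw [hψ₂d]
      exact ⟨_, rfl⟩
    refine ⟨ψ₂.range, R, isConj_trans F hc ⟨ψ₂, hψ₂, rfl⟩, hRn, hRc, hRr, hY.trans hYR, fun α hα => ?_⟩
    -- transport `α` back to `X'`
    obtain ⟨ρ, hρ, hρe⟩ := F.inv_mem hψ₂
    have hρr : ρ.range = X' := by
      apply le_antisymm
      · rintro _ ⟨⟨_, x, rfl⟩, rfl⟩
        rw [hρe]
        exact x.2
      · intro x hx
        exact ⟨_, hρe ⟨x, hx⟩⟩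
    obtain ⟨α₀, hα₀, hα₀e⟩ : ∃ α₀ : MulAut X', α₀ ∈ F.autGroup X' ∧ ∀ x : ↥X', ψ₂ (α₀ x) = ((α ⟨ψ₂ x, ⟨x, rfl⟩⟩ : ↥ψ₂.range) : Ω) := by
      have hYS : ψ₂.range ≤ S := range_le F hψ₂
      have hbm := (mem_autGroup_iff F hYS).mp hα
      have hle : (ψ₂.range.subtype.comp α.toMonoidHom).range ≤ ψ₂.range := (range_of_aut α).le
      have ha₁ := restrict_mem F hρ hle
      have hr₁ : (ρ.comp (Subgroup.inclusion hle)).range = X' := by
        refine Eq.trans ?_ hρr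
        apply le_antisymm
        · rintro _ ⟨x, rfl⟩
          exact ⟨_, rfl⟩
        · rintro _ ⟨x, rfl⟩
          have hx : (x : Ω) ∈ (ψ₂.range.subtype.comp α.toMonoidHom).range := by rw [range_of_aut]; exact x.2
          exact ⟨⟨x, hx⟩, rfl⟩
      obtain ⟨β, hβA, hβ⟩ := exists_triple hbm hρ hρr ha₁ hr₁
      refine ⟨β, hβA, fun x => ?_⟩
      have h1 := hβ ⟨ψ₂ x, ⟨x, rfl⟩⟩ x (hρe x).symm
      have h3 : (β x : Ω) = ρ (α ⟨ψ₂ x, ⟨x, rfl⟩⟩) := h1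
      obtain ⟨⟨_, w, rfl⟩, hw⟩ : ∃ w, w = α ⟨ψ₂ x, ⟨x, rfl⟩⟩ := ⟨_, rfl⟩
      rw [← hw] at h3 ⊢
      have h5 : β x = w := Subtype.ext (h3.trans (hρe w))
      rw [h5]
    obtain ⟨α₁, hα₁, hα₁e⟩ := hext α₀ hα₀
    obtain ⟨α₂, hα₂, hα₂e⟩ := exists_transport hψ hα₁
    obtain ⟨β, hβ, hβe⟩ := hR α₂ hα₂
    refine ⟨β, hβ, ?_⟩
    rintro ⟨_, x, rfl⟩
    have e1 : ψ₂ x = ψ ⟨x, hlt.le x.2⟩ := by
      rw [hψ₂d]
      rfl
    have e2 := hβe ⟨ψ ⟨x, hlt.le x.2⟩, ⟨_, rfl⟩⟩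
    have e3 := hα₂e ⟨x, hlt.le x.2⟩
    have e4 := hα₁e x (hlt.le x.2)
    have e5 := hα₀e x
    have e6 : ψ₂ (α₀ x) = ψ ⟨α₀ x, hlt.le (α₀ x).2⟩ := by
      rw [hψ₂d]
      rfl
    have e7 : α₁ ⟨x, hlt.le x.2⟩ = ⟨α₀ x, hlt.le (α₀ x).2⟩ := Subtype.ext e4
    show ((β ⟨ψ₂ x, _⟩ : ↥R) : Ω) = ((α ⟨ψ₂ x, ⟨x, rfl⟩⟩ : ↥ψ₂.range) : Ω)
    rw [← e5, e6]
    have e8 : (⟨ψ₂ x, hY.trans hYR ⟨x, rfl⟩⟩ : ↥R) = ⟨ψ ⟨x, hlt.le x.2⟩, hYR ⟨_, rfl⟩⟩ := Subtype.ext e1
    rw [e8]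
    refine e2.trans ?_
    rw [e3, e7]

end

end CfsgLib.MX
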