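import Cfsg.Agent.Lib.MX.PSt1

/-! `p`-stability and normalizers of centric radical subgroups. -/

set_option autoImplicit false
set_option linter.unusedSectionVars false
set_option linter.unusedVariables false
set_option linter.style.haveILetI false

open Subgroup Cfsg Cfsg.FusionSystem CfsgLib.Fusion

namespace CfsgLib.MX

section

variable {Ω : Type*} [Group Ω] {S : Subgroup Ω} [Finite S] {p : ℕ} [Fact p.Prime] {F : FusionSystem S}

/-- Transport of a quadratic automorphism. -/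
theorem quad_transport {X : Subgroup Ω} {ψ : ↥X →* Ω} {χ : MulAut X} {χ' : MulAut ψ.range}
    (hc : ∀ x : ↥X, ((χ' ⟨ψ x, ⟨x, rfl⟩⟩ : ↥ψ.range) : Ω) = ψ (χ x))
    (hq : ∀ a : ↥X, (χ a⁻¹) * a * (χ a⁻¹) * (χ (χ a)) = 1) :
    ∀ a : ↥ψ.range, (χ' a⁻¹) * a * (χ' a⁻¹) * (χ' (χ' a)) = 1 := by
  rintro ⟨_, x, rfl⟩
  have hv : ∀ w : ↥X, (⟨ψ w, ⟨w, rfl⟩⟩ : ↥ψ.range) = ψ.rangeRestrict w := fun w => rfl
  have hc' : ∀ w : ↥X, χ' (ψ.rangeRestrict w) = ψ.rangeRestrict (χ w) := fun w => Subtype.ext (hc w)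
  rw [hv x, ← map_inv, hc', hc', hc', ← map_mul, ← map_mul, ← map_mul, hq x, map_one]

/-- Quadratic automorphisms lie in the largest normal `p`-subgroup, for a system satisfying this on fully normalized
subgroups. -/
theorem quad_mem_of_stable
    (hst : ∀ Q : Subgroup Ω, F.IsFullyNormalized Q → ∀ χ : MulAut ↥Q, χ ∈ F.autGroup Q →
      (∀ a : ↥Q, (χ a⁻¹) * a * (χ a⁻¹) * (χ (χ a)) = 1) →
        χ ∈ ((pCore p ↥(F.autGroup Q)).map (F.autGroup Q).subtype : Subgroup (MulAut ↥Q)))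
    {X : Subgroup Ω} (hXS : X ≤ S) {χ : MulAut X} (hχ : χ ∈ F.autGroup X)
    (hq : ∀ a : ↥X, (χ a⁻¹) * a * (χ a⁻¹) * (χ (χ a)) = 1) :
    χ ∈ ((pCore p ↥(F.autGroup X)).map (F.autGroup X).subtype : Subgroup (MulAut ↥X)) := by
  obtain ⟨Y, ⟨ψ, hψ, rfl⟩, hY⟩ := exists_fullyNormalized_conj F hXS
  obtain ⟨χ', hχ', hc⟩ := exists_transport hψ hχ
  exact (pCore_transport_iff hψ hχ hχ' hc).mpr (hst _ hY χ' hχ' (quad_transport hc hq))

/-- `p`-stability is detected on normalizers of fully normalized centric radical subgroups. -/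
theorem stable_iff (hS : IsPGroup p S) (hF : F.IsSaturated p) :
    (∀ Q : Subgroup Ω, F.IsFullyNormalized Q → ∀ χ : MulAut ↥Q, χ ∈ F.autGroup Q →
      (∀ a : ↥Q, (χ a⁻¹) * a * (χ a⁻¹) * (χ (χ a)) = 1) →
        χ ∈ ((pCore p ↥(F.autGroup Q)).map (F.autGroup Q).subtype : Subgroup (MulAut ↥Q))) ↔
    ∀ R : Subgroup Ω, F.IsFullyNormalized R → F.IsCentric R → F.IsRadical p R →
      ∀ N : FusionSystem (normalizerIn S R), F.IsNormalizerSystem R N →
        (∀ Q : Subgroup Ω, N.IsFullyNormalized Q → ∀ χ : MulAut ↥Q, χ ∈ N.autGroup Q →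
          (∀ a : ↥Q, (χ a⁻¹) * a * (χ a⁻¹) * (χ (χ a)) = 1) →
            χ ∈ ((pCore p ↥(N.autGroup Q)).map (N.autGroup Q).subtype : Subgroup (MulAut ↥Q))) := by
  constructor
  · intro hst R hRn hRc hRr N hN Q hQn χ hχ hq
    have hQN : Q ≤ normalizerIn S R := hQn.1
    have hQS : Q ≤ S := hQN.trans inf_le_left
    have hQfin : Finite Q := finite_of_le hQS
    have hMQ : Finite (MulAut Q) := finite_mulAut _
    have hle : N.autGroup Q ≤ F.autGroup Q := by
      intro α hα
      have h1 := (mem_autGroup_iff N hQN).mp hα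
      rw [hN] at h1
      exact (mem_autGroup_iff F hQS).mpr h1.1
    have h1 := quad_mem_of_stable hst hQS (hle hχ) hq
    obtain ⟨a, ha, hae⟩ := h1
    have hn : (pCore p ↥(F.autGroup Q)).Normal := CfsgLib.PLocal.pCore_normal'
    let i : ↥(N.autGroup Q) →* ↥(F.autGroup Q) := Subgroup.inclusion hle
    have hi : Function.Injective i := Subgroup.inclusion_injective hle
    have hW : (pCore p ↥(F.autGroup Q)).comap i ≤ pCore p ↥(N.autGroup Q) :=
      CfsgLib.PLocal.le_pCore_of_normal _ (hn.comap i) ((CfsgLib.PLocal.pCore_isPGroup).comap_of_injective i hi)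
    have h2 : (⟨χ, hχ⟩ : ↥(N.autGroup Q)) ∈ (pCore p ↥(F.autGroup Q)).comap i := by
      rw [Subgroup.mem_comap]
      have e : i ⟨χ, hχ⟩ = a := Subtype.ext hae.symm
      rw [e]
      exact ha
    exact ⟨_, hW h2, rfl⟩
  · intro hst Q hQn χ hχ hq
    have hQS : Q ≤ S := hQn.1
    obtain ⟨Y, R, ⟨ψ, hψ, rfl⟩, hRn, hRc, hRr, hYR, hext⟩ := exists_top hS hF _ Q hQS rfl
    obtain ⟨χ₁, hχ₁, hc₁⟩ := exists_transport hψ hχ
    refine (pCore_transport_iff hψ hχ hχ₁ hc₁).mpr ?_
    have hq₁ := quad_transport hc₁ hq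
    -- the normalizer system
    have hRS : R ≤ S := hRn.1
    have hNfin : Finite ↥(normalizerIn S R) := finite_of_le inf_le_left
    obtain ⟨N, hNd⟩ : ∃ N, N = normalizerSystem F R hRS := ⟨_, rfl⟩
    have hN : F.IsNormalizerSystem R N := fun P => by rw [hNd]; rfl
    have hRN : R ≤ normalizerIn S R := le_inf hRS Subgroup.le_normalizer
    have hYN : ψ.range ≤ normalizerIn S R := hYR.trans hRN
    have hYS : ψ.range ≤ S := hYR.trans hRS
    have hYfin : Finite ψ.range := finite_of_le hYS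
    have hMY : Finite (MulAut ψ.range) := finite_mulAut _
    -- automorphisms of the image lie in the normalizer system
    have hAeq : N.autGroup ψ.range = F.autGroup ψ.range := by
      apply le_antisymm
      · intro α hα
        have h1 := (mem_autGroup_iff N hYN).mp hα
        rw [hN] at h1
        exact (mem_autGroup_iff F hYS).mpr h1.1
      · intro α hα
        obtain ⟨β, hβ, hβe⟩ := hext α hα
        have hβm := (mem_autGroup_iff F hRS).mp hβ
        have h1 : R.subtype.comp β.toMonoidHom ∈ N.Hom R := by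
          rw [hN]
          exact mem_normalizerHom_of_le F le_rfl hRN hβm (fun x => hRN (β x).2) (fun x _ => (β x).2)
        have h2 := restrict_mem N h1 hYR
        have e : (R.subtype.comp β.toMonoidHom).comp (Subgroup.inclusion hYR) = ψ.range.subtype.comp α.toMonoidHom :=
          MonoidHom.ext fun y => hβe y
        rw [e] at h2
        exact (mem_autGroup_iff N hYN).mpr h2
    have hχ₁N : χ₁ ∈ N.autGroup ψ.range := by rw [hAeq]; exact hχ₁
    -- pass to a fully normalized conjugate in `N`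
    obtain ⟨Y₂, ⟨ρ, hρ, rfl⟩, hY₂⟩ := exists_fullyNormalized_conj N hYN
    obtain ⟨χ₂, hχ₂, hc₂⟩ := exists_transport hρ hχ₁N
    have h2 := hst R hRn hRc hRr N hN _ hY₂ χ₂ hχ₂ (quad_transport hc₂ hq₁)
    have h3 := (pCore_transport_iff hρ hχ₁N hχ₂ hc₂).mpr h2
    rw [hAeq] at h3
    exact h3

end

end CfsgLib.MX
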