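import Cfsg.Agent.Lib.MX.Wz2
import Cfsg.Agent.Lib.MX.Cen3
import Cfsg.Agent.Lib.MX.Fac2
import Cfsg.Agent.Lib.Fusion.Central
import Cfsg.Agent.Lib.Fusion.Core
import Cfsg.Agent.Lib.Fusion.Abelian

/-! Perfect fusion systems: the centre of the factor system modulo the centre is trivial. -/

set_option autoImplicit false
set_option linter.unusedSectionVars false
set_option linter.unusedVariables false

open Subgroup Cfsg Cfsg.FusionSystem CfsgLib.Fusion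

namespace CfsgLib.MX

universe u v

section

variable {Ω : Type u} [Group Ω] {S : Subgroup Ω} [Finite S] {p : ℕ} [Fact p.Prime]
  {Ω' : Type v} [Group Ω'] {S' : Subgroup Ω'} {F : FusionSystem S} {Q : Subgroup Ω} {θ : ↥S →* Ω'} {E : FusionSystem S'}

/-- A central subgroup is fixed by the maps. -/
theorem central_fix (hS : IsPGroup p S) (hF : F.IsSaturated p) (hQ : F.IsCentral Q) {T : Subgroup Ω} {ψ : ↥T →* Ω}
    (hψ : ψ ∈ F.Hom T) {a : Ω} (haQ : a ∈ Q) (haT : a ∈ T) : ψ ⟨a, haT⟩ = a := by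
  have hle : zpowers a ≤ T := (zpowers_le).mpr haT
  have h1 := restrict_mem F hψ hle
  exact ((isCentral_iff hS F hF Q).mp hQ).2 a haQ _ ⟨_, h1, rfl⟩

/-- A central subgroup is central in `S`. -/
theorem central_comm_S (hS : IsPGroup p S) (hF : F.IsSaturated p) (hQ : F.IsCentral Q) {a s : Ω} (ha : a ∈ Q) (hs : s ∈ S) :
    Commute a s := by
  have h1 := F.conj_mem (P := zpowers a) ((zpowers_le).mpr (hQ.1 ha)) hs
  have h2 := central_fix hS hF hQ h1 ha (mem_zpowers a)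
  have h3 : s * a * s⁻¹ = a := h2
  show a * s = s * a
  calc a * s = (s * a * s⁻¹) * s := by rw [h3]
    _ = s * a := by group

theorem stronglyClosed_of_central (hS : IsPGroup p S) (hF : F.IsSaturated p) (hQ : F.IsCentral Q) : F.StronglyClosed Q := by
  refine ⟨hQ.1, fun R hR φ hφ x => ?_⟩
  have h1 := central_fix hS hF hQ hφ (hR x.2) x.2
  have h2 : φ x = (x : Ω) := h1
  rw [h2]
  exact hR x.2

/-- The lifting of a map to a map fixing the central subgroup `C` of the factor system. -/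
theorem exists_fact_lift (hS : IsPGroup p S) (hF : F.IsSaturated p) (hQ : F.IsCentral Q) (hE : F.IsFactorSystem Q θ E)
    {C : Subgroup Ω'} (hC : E.IsCentral C) {P : Subgroup Ω} {φ : ↥P →* Ω} (hφ : φ ∈ F.Hom P) :
    ∃ (T : Subgroup Ω) (Ψ : ↥T →* Ω), Ψ ∈ F.Hom T ∧ ∃ hPT : P ≤ T, Q ≤ T ∧ preimageAlong θ C ≤ T ∧
      (∀ x : ↥P, Ψ (Subgroup.inclusion hPT x) * (φ x)⁻¹ ∈ Q) ∧
      ∀ (z : Ω) (hz : z ∈ T), z ∈ preimageAlong θ C → Ψ ⟨z, hz⟩ * z⁻¹ ∈ Q := by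
  have hPS : P ≤ S := source_le F hφ
  have hQsc := stronglyClosed_of_central hS hF hQ
  obtain ⟨φ₁, hφ₁, h1, h2⟩ := hQ.2 P φ hφ
  obtain ⟨hQS, hker, hr, hiff⟩ := id hE
  have hmem : ∀ y : ↥S, θ y ∈ S' := fun y => by rw [← hr]; exact ⟨y, rfl⟩
  obtain ⟨R', hR'⟩ : ∃ R' : Subgroup Ω', R' = (P.subgroupOf S).map θ := ⟨_, rfl⟩
  have hR'S : R' ≤ S' := by
    rw [hR']
    rintro _ ⟨y, -, rfl⟩
    exact hmem y
  have hT₀ : preimageAlong θ R' ≤ P ⊔ Q := by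
    intro x hx
    obtain ⟨hxS, hxR⟩ := mem_preimage.mp hx
    rw [hR'] at hxR
    obtain ⟨y, hy, he⟩ := hxR
    have h3 : ((y⁻¹ * ⟨x, hxS⟩ : ↥S) : Ω) ∈ Q := by
      apply (hker _).mp
      rw [map_mul, map_inv, he]
      group
    have h4 : x = (y : Ω) * ((y⁻¹ * ⟨x, hxS⟩ : ↥S) : Ω) := by
      push_cast
      group
    rw [h4]
    exact mul_mem (mem_sup_left (mem_subgroupOf.mp hy)) (mem_sup_right h3)
  have hφ₂ := restrict_mem F hφ₁ hT₀
  obtain ⟨φ₂', hφ₂', hind⟩ := exists_induced_mem hQsc hE hR'S hφ₂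
  obtain ⟨Ψ', hΨ', hΨ1, hΨ2⟩ := hC.2 R' φ₂' hφ₂'
  obtain ⟨hle, Ψ, hΨ, hind2⟩ := (hiff _ _).mp hΨ'
  have hsubT : ∀ U : Subgroup Ω', U ≤ R' ⊔ C → preimageAlong θ U ≤ preimageAlong θ (R' ⊔ C) := by
    intro U hU x hx
    obtain ⟨a, b⟩ := mem_preimage.mp hx
    exact mem_preimage.mpr ⟨a, hU b⟩
  have hPT₀ : P ≤ preimageAlong θ R' := by
    intro x hx
    refine mem_preimage.mpr ⟨hPS hx, ?_⟩
    rw [hR']
    exact ⟨⟨x, hPS hx⟩, mem_subgroupOf.mpr hx, rfl⟩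
  have hPT := hPT₀.trans (hsubT _ le_sup_left)
  have hQT : Q ≤ preimageAlong θ (R' ⊔ C) := by
    intro x hx
    refine mem_preimage.mpr ⟨hQS hx, ?_⟩
    rw [(hker ⟨x, hQS hx⟩).mpr hx]
    exact one_mem _
  obtain ⟨hP, hφS, hP', he⟩ := hind
  obtain ⟨hPb, hφSb, hPb', heb⟩ := hind2
  refine ⟨_, Ψ, hΨ, hPT, hQT, hsubT _ le_sup_right, fun x => ?_, fun z hz hzC => ?_⟩
  · -- the value of the lift on the old source
    have hxT₀ : (x : Ω) ∈ preimageAlong θ R' := hPT₀ x.2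
    have e1 := heb ⟨x, hPT x.2⟩
    have e2 := he ⟨x, hxT₀⟩
    have e3 := hΨ1 ⟨θ ⟨x, hP hxT₀⟩, hP' ⟨x, hxT₀⟩⟩
    have e4 : φ₁ (Subgroup.inclusion hT₀ ⟨x, hxT₀⟩) = φ x := h1 x
    have e5 : θ ⟨Ψ ⟨x, hPT x.2⟩, hφSb _⟩ = θ ⟨φ x, by rw [← e4]; exact hφS ⟨x, hxT₀⟩⟩ := by
      rw [← e1]
      refine Eq.trans e3 ?_
      rw [e2]
      congr 1
      exact Subtype.ext e4
    have hφxS : φ x ∈ S := by rw [← e4]; exact hφS ⟨x, hxT₀⟩
    have e6 := (hker (⟨Ψ ⟨x, hPT x.2⟩, hφSb _⟩ * (⟨φ x, hφxS⟩ : ↥S)⁻¹)).mp (by rw [map_mul, map_inv, e5]; group)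
    exact e6
  · -- the value of the lift on the preimage of `C`
    obtain ⟨hzS, hzC'⟩ := mem_preimage.mp hzC
    have e1 := heb ⟨z, hz⟩
    have e3 := hΨ2 ⟨θ ⟨z, hzS⟩, hzC'⟩
    have e5 : θ ⟨Ψ ⟨z, hz⟩, hφSb _⟩ = θ ⟨z, hzS⟩ := by
      rw [← e1]
      exact e3
    have e6 := (hker (⟨Ψ ⟨z, hz⟩, hφSb _⟩ * (⟨z, hzS⟩ : ↥S)⁻¹)).mp (by rw [map_mul, map_inv, e5]; group)
    exact e6

/-- Commutator calculation. -/
theorem comm_calc {G : Type*} [Group G] {u c X z : G} (h1 : Commute u X) (h2 : Commute u z) (h3 : Commute c X)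
    (h4 : Commute c z) (h5 : Commute u c) :
    u * X * (c * z) * (u * X)⁻¹ * (c * z)⁻¹ = X * z * X⁻¹ * z⁻¹ := by
  have e1 : u * X * (c * z) * (u * X)⁻¹ * (c * z)⁻¹ = u * (c * (X * z * X⁻¹)) * u⁻¹ * z⁻¹ * c⁻¹ := by
    have : X * c = c * X := h3.eq.symm
    calc u * X * (c * z) * (u * X)⁻¹ * (c * z)⁻¹ = u * (X * c) * z * X⁻¹ * u⁻¹ * z⁻¹ * c⁻¹ := by group
      _ = _ := by rw [this]; group
  have hY : Commute u (c * (X * z * X⁻¹)) := h5.mul_right ((h1.mul_right h2).mul_right h1.inv_right)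
  have e2 : u * (c * (X * z * X⁻¹)) * u⁻¹ = c * (X * z * X⁻¹) := by
    rw [hY.eq]
    group
  have hg : Commute c (X * z * X⁻¹ * z⁻¹) := ((h3.mul_right h4).mul_right h3.inv_right).mul_right h4.inv_right
  rw [e1, e2]
  calc c * (X * z * X⁻¹) * z⁻¹ * c⁻¹ = c * (X * z * X⁻¹ * z⁻¹) * c⁻¹ := by group
    _ = _ := by rw [hg.eq]; group

/-- The elements over `C` commute with the focal generators. -/
theorem comm_focal (hS : IsPGroup p S) (hF : F.IsSaturated p) (hQ : F.IsCentral Q) (hE : F.IsFactorSystem Q θ E)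
    {C : Subgroup Ω'} (hC : E.IsCentral C) {P : Subgroup Ω} {φ : ↥P →* Ω} (hφ : φ ∈ F.Hom P) (x : ↥P) {z : Ω}
    (hz : z ∈ preimageAlong θ C) : ((x : Ω)⁻¹ * φ x) * z = z * ((x : Ω)⁻¹ * φ x) := by
  have hPS : P ≤ S := source_le F hφ
  have hzS : z ∈ S := (mem_preimage.mp hz).1
  have hcomm : ∀ s ∈ S, s * z * s⁻¹ * z⁻¹ ∈ Q := by
    intro s hs
    have h1 := F.conj_mem (P := zpowers z) ((zpowers_le).mpr hzS) hs
    obtain ⟨T, Ψ, hΨ, hPT, hQT, hCT, hv, hc⟩ := exists_fact_lift hS hF hQ hE hC h1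
    have e1 := hv ⟨z, mem_zpowers z⟩
    have hzT : z ∈ T := hCT hz
    have e2 := hc z hzT hz
    have e3 : Ψ (Subgroup.inclusion hPT ⟨z, mem_zpowers z⟩) = Ψ ⟨z, hzT⟩ := rfl
    rw [e3] at e1
    have e4 : conjHom (zpowers z) s ⟨z, mem_zpowers z⟩ = s * z * s⁻¹ := rfl
    rw [e4] at e1
    have e5 := Q.mul_mem (Q.inv_mem e1) e2
    have e6 : (Ψ ⟨z, hzT⟩ * (s * z * s⁻¹)⁻¹)⁻¹ * (Ψ ⟨z, hzT⟩ * z⁻¹) = s * z * s⁻¹ * z⁻¹ := by group
    rw [e6] at e5
    exact e5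
  obtain ⟨T, Ψ, hΨ, hPT, hQT, hCT, hv, hc⟩ := exists_fact_lift hS hF hQ hE hC hφ
  have hzT : z ∈ T := hCT hz
  have hxS : (x : Ω) ∈ S := hPS x.2
  have hXS : φ x ∈ S := (F.le_of_mem hφ).2 x
  have ha := hcomm x hxS
  have hu := hv x
  have hcz := hc z hzT hz
  -- the values
  obtain ⟨u, hu0⟩ : ∃ u, u = Ψ (Subgroup.inclusion hPT x) * (φ x)⁻¹ := ⟨_, rfl⟩
  obtain ⟨c, hc0⟩ : ∃ c, c = Ψ ⟨z, hzT⟩ * z⁻¹ := ⟨_, rfl⟩
  rw [← hu0] at hu
  rw [← hc0] at hcz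
  have e1 : Ψ (Subgroup.inclusion hPT x) = u * φ x := by rw [hu0]; group
  have e2 : Ψ ⟨z, hzT⟩ = c * z := by rw [hc0]; group
  have e3 := central_fix hS hF hQ hΨ ha (hQT ha)
  have e4 : (⟨(x : Ω) * z * (x : Ω)⁻¹ * z⁻¹, hQT ha⟩ : ↥T) =
      Subgroup.inclusion hPT x * ⟨z, hzT⟩ * (Subgroup.inclusion hPT x)⁻¹ * (⟨z, hzT⟩ : ↥T)⁻¹ := rfl
  rw [e4, map_mul, map_mul, map_mul, map_inv, map_inv, e1, e2,
    comm_calc (central_comm_S hS hF hQ hu hXS) (central_comm_S hS hF hQ hu hzS)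
      (central_comm_S hS hF hQ hcz hXS) (central_comm_S hS hF hQ hcz hzS)
      (central_comm_S hS hF hQ hu (hQ.1 hcz))] at e3
  have e5 : (x : Ω) * z * (x : Ω)⁻¹ = φ x * z * (φ x)⁻¹ := by
    have := mul_right_cancel e3
    exact this.symm
  have e6 : z * ((x : Ω)⁻¹ * φ x) = (x : Ω)⁻¹ * (x * z * (x : Ω)⁻¹) * φ x := by group
  rw [e6, e5]
  group

/-- Automorphisms of a fully automized subgroup fix the element. -/
theorem fix_of_fullyAutomized (hS : IsPGroup p S) (hF : F.IsSaturated p) (hQ : F.IsCentral Q) (hE : F.IsFactorSystem Q θ E)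
    {C : Subgroup Ω'} (hC : E.IsCentral C) {R : Subgroup Ω} (hFA : F.IsFullyAutomized p R) (hQR : Q ≤ R) {z : Ω}
    (hz : z ∈ preimageAlong θ C) (hzR : z ∈ R) (hzc : ∀ s ∈ S, s * z * s⁻¹ = z) {α : MulAut R} (hα : α ∈ F.autGroup R) :
    α ⟨z, hzR⟩ = ⟨z, hzR⟩ := by
  obtain ⟨hRS, T₀, hT₀⟩ := id hFA
  have hRfin : Finite R := Finite.of_injective _ (Subgroup.inclusion_injective hRS)
  have hQfin : Finite Q := Finite.of_injective _ (Subgroup.inclusion_injective hQ.1)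
  have hAm : ∀ β : ↥(F.autGroup R), R.subtype.comp (β : MulAut R).toMonoidHom ∈ F.Hom R := fun β =>
    (mem_autGroup_iff F hRS).mp β.2
  have hval : ∀ β : ↥(F.autGroup R), (((β : MulAut R) ⟨z, hzR⟩ : ↥R) : Ω) * z⁻¹ ∈ Q := by
    intro β
    obtain ⟨T, Ψ, hΨ, hPT, hQT, hCT, hv, hc⟩ := exists_fact_lift hS hF hQ hE hC (hAm β)
    have e1 := hv ⟨z, hzR⟩
    have e2 := hc z (hCT hz) hz
    have e3 := Q.mul_mem (Q.inv_mem e1) e2
    have e4 : Ψ (Subgroup.inclusion hPT ⟨z, hzR⟩) = Ψ ⟨z, hCT hz⟩ := rfl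
    rw [e4] at e3
    have e5 : (Ψ ⟨z, hCT hz⟩ * ((R.subtype.comp (β : MulAut R).toMonoidHom) ⟨z, hzR⟩)⁻¹)⁻¹ * (Ψ ⟨z, hCT hz⟩ * z⁻¹) =
        ((R.subtype.comp (β : MulAut R).toMonoidHom) ⟨z, hzR⟩) * z⁻¹ := by group
    rw [e5] at e3
    exact e3
  have hfixQ : ∀ (β : ↥(F.autGroup R)) (a : Ω) (ha : a ∈ Q), (((β : MulAut R) ⟨a, hQR ha⟩ : ↥R) : Ω) = a := by
    intro β a ha
    exact central_fix hS hF hQ (hAm β) ha (hQR ha)
  -- the homomorphism to the centre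
  have hQab : ∀ a ∈ Q, ∀ b : Ω, b ∈ S → a * b = b * a := fun a ha b hb => central_comm_S hS hF hQ ha hb
  have hv2 : ∀ β : ↥(F.autGroup R), z⁻¹ * (((β : MulAut R) ⟨z, hzR⟩ : ↥R) : Ω) ∈ Q := by
    intro β
    have h1 := hval β
    obtain ⟨W, hW⟩ : ∃ W : Ω, W = (((β : MulAut R) ⟨z, hzR⟩ : ↥R) : Ω) := ⟨_, rfl⟩
    rw [← hW] at h1 ⊢
    have h3 := hQab _ h1 z (hRS hzR)
    have h2 : z⁻¹ * W = W * z⁻¹ := by
      calc z⁻¹ * W = z⁻¹ * ((W * z⁻¹) * z) := by group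
        _ = z⁻¹ * (z * (W * z⁻¹)) := by rw [h3]
        _ = W * z⁻¹ := by group
    rw [h2]
    exact h1
  let c : ↥(F.autGroup R) →* ↥Q := MonoidHom.mk' (fun β => ⟨z⁻¹ * (((β : MulAut R) ⟨z, hzR⟩ : ↥R) : Ω), hv2 β⟩) (by
    intro β γ
    apply Subtype.ext
    have h1 := hv2 γ
    obtain ⟨a, ha⟩ : ∃ a : Ω, a = z⁻¹ * (((γ : MulAut R) ⟨z, hzR⟩ : ↥R) : Ω) := ⟨_, rfl⟩
    rw [← ha] at h1
    have h2 : ((γ : MulAut R) ⟨z, hzR⟩ : ↥R) = ⟨z, hzR⟩ * ⟨a, hQR h1⟩ := by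
      apply Subtype.ext
      show _ = z * a
      rw [ha]
      group
    have h5 : (((β : MulAut R) ((γ : MulAut R) ⟨z, hzR⟩) : ↥R) : Ω) = (((β : MulAut R) ⟨z, hzR⟩ : ↥R) : Ω) * a := by
      rw [h2, map_mul]
      show (((β : MulAut R) ⟨z, hzR⟩ : ↥R) : Ω) * (((β : MulAut R) ⟨a, hQR h1⟩ : ↥R) : Ω) = _
      rw [hfixQ β a h1]
    show z⁻¹ * (((β : MulAut R) ((γ : MulAut R) ⟨z, hzR⟩) : ↥R) : Ω) = z⁻¹ * (((β : MulAut R) ⟨z, hzR⟩ : ↥R) : Ω) * (z⁻¹ * (((γ : MulAut R) ⟨z, hzR⟩ : ↥R) : Ω))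
    rw [h5, ← ha]
    group)
  have hcv : ∀ β, ((c β : ↥Q) : Ω) = z⁻¹ * (((β : MulAut R) ⟨z, hzR⟩ : ↥R) : Ω) := fun β => rfl
  have hT₀le : (T₀ : Subgroup ↥(F.autGroup R)) ≤ c.ker := by
    intro β hβ
    rw [hT₀, mem_subgroupOf] at hβ
    have hfix : ∀ γ ∈ autInducedBy S R, γ ⟨z, hzR⟩ = ⟨z, hzR⟩ := by
      intro γ hγ
      induction hγ using Subgroup.closure_induction with
      | mem a ha =>
        obtain ⟨g, hg, he⟩ := ha
        apply Subtype.ext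
        rw [he]
        exact hzc g hg
      | one => rfl
      | mul a b _ _ ha hb =>
        show a (b ⟨z, hzR⟩) = _
        rw [hb, ha]
      | inv a _ ha =>
        show a.symm ⟨z, hzR⟩ = _
        rw [MulEquiv.symm_apply_eq, ha]
    rw [MonoidHom.mem_ker]
    apply Subtype.ext
    rw [hcv, hfix _ hβ]
    simp
  have hpQ : IsPGroup p ↥Q := hS.to_le hQ.1
  have hAfin : Finite ↥(F.autGroup R) := inferInstance
  obtain ⟨k, hk⟩ := IsPGroup.iff_card.mp (hpQ.to_subgroup c.range)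
  have hidx : c.ker.index = p ^ k := by
    rw [Subgroup.index_ker, hk]
  have hdvd : c.ker.index ∣ (T₀ : Subgroup ↥(F.autGroup R)).index := Subgroup.index_dvd_of_le hT₀le
  have hnd := T₀.not_dvd_index
  have hk0 : k = 0 := by
    by_contra hne
    apply hnd
    refine dvd_trans ?_ hdvd
    rw [hidx]
    exact dvd_pow_self p hne
  have hker : c.ker = ⊤ := by
    apply Subgroup.index_eq_one.mp
    rw [hidx, hk0, pow_zero]
  have h1 : c ⟨α, hα⟩ = 1 := by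
    have : (⟨α, hα⟩ : ↥(F.autGroup R)) ∈ c.ker := by rw [hker]; exact mem_top _
    exact this
  have h2 := congrArg (fun y : ↥Q => (y : Ω)) h1
  simp only [hcv] at h2
  apply Subtype.ext
  have h3 : z⁻¹ * ((α ⟨z, hzR⟩ : ↥R) : Ω) = 1 := h2
  exact (inv_mul_eq_one.mp h3).symm

/-- The main step: the centre of the factor system modulo a central subgroup is trivial if the hyperfocal subgroup is `S`
and the central subgroup is the centre. -/
theorem center_factor_eq_bot (hS : IsPGroup p S) (hF : F.IsSaturated p) (hperf : F.hyperfocalSubgroup p = S)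
    (hE : F.IsFactorSystem F.center θ E) : E.center = ⊥ := by
  have hQ := isCentral_center F
  rw [Cfsg.FusionSystem.center, sSup_eq_bot]
  intro C hC
  replace hC : E.IsCentral C := hC
  obtain ⟨hQS, hker, hr, hiff⟩ := id hE
  -- every element over `C` is central in `S`
  have hcen : ∀ z ∈ preimageAlong θ C, ∀ s ∈ S, s * z * s⁻¹ = z := by
    intro z hz s hs
    have hle : F.hyperfocalSubgroup p ≤ centralizer ({z} : Set Ω) := by
      refine (closure_le _).mpr ?_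
      rintro y ⟨P, α, x, hP, hα, rfl⟩
      refine mem_centralizer_iff.mpr ?_
      rintro _ rfl
      have h1 := comm_focal hS hF hQ hE hC ((mem_autGroup_iff F hP).mp α.2) x hz
      exact h1.symm
    rw [hperf] at hle
    have h2 := mem_centralizer_iff.mp (hle hs) z rfl
    rw [← h2]
    group
  -- every map fixes it
  have hfixA : ∀ z ∈ preimageAlong θ C, FixA F z := by
    intro z hz
    have hzS : z ∈ S := (mem_preimage.mp hz).1
    have hmain : ∀ R : Subgroup Ω, F.IsFullyNormalized R → F.center ≤ R → z ∈ R → F.autGroup R ≤ (fixSystem F z (hcen z hz)).autGroup R := by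
      intro R hRn hQR hzR α hα
      have hRS := hRn.1
      have hfa := fullyAutomized_of_fullyNormalized hS F hF hRn
      have hfix := fix_of_fullyAutomized hS hF hQ hE hC hfa hQR hz hzR (hcen z hz) hα
      refine (mem_autGroup_iff _ hRS).mpr ⟨(mem_autGroup_iff F hRS).mp hα, fun x => ?_⟩
      have h1 : (x : Ω) = z ↔ x = ⟨z, hzR⟩ := ⟨fun h => Subtype.ext h, fun h => by rw [h]⟩
      have h2 : (R.subtype.comp α.toMonoidHom) x = z ↔ α x = ⟨z, hzR⟩ := ⟨fun h => Subtype.ext h, fun h => by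
        show ((α x : ↥R) : Ω) = z
        rw [h]⟩
      rw [h1, h2]
      constructor
      · rintro rfl
        exact hfix
      · intro h
        apply α.injective
        rw [h, hfix]
    have hall := hom_subset_of_essential hS hF (fixSystem F z (hcen z hz))
      (hmain S (fullyNormalized_top F) hQ.1 hzS)
      (fun R hR hRlt IH => by
        have hRS : R ≤ S := hR.1.1
        have hcS := hR.1.2 R (isConj_refl F hRS)
        have hcent : ∀ y ∈ S, (∀ s ∈ S, s * y * s⁻¹ = y) → y ∈ R := by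
          intro y hy hyc
          refine hcS ⟨hy, mem_centralizer_iff.mpr fun r hr => ?_⟩
          have := hyc r (hRS hr)
          calc r * y = (r * y * r⁻¹) * r := by group
            _ = y * r := by rw [this]
        refine hmain R hR.2.1 ?_ (hcent z hzS (hcen z hz))
        intro a ha
        refine hcent a (hQS ha) fun s hs => ?_
        have := central_comm_S hS hF hQ ha hs
        rw [← this.eq]
        group)
    intro P φ hφ hzP
    have h1 := (hall P hφ).2 ⟨z, hzP⟩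
    exact h1.mp rfl
  -- the preimage is central
  have hW : F.IsCentral (preimageAlong θ C) :=
    isCentral_of_fixA hS F hF (fun x hx => (mem_preimage.mp hx).1) hfixA
  have hWle : preimageAlong θ C ≤ F.center := le_sSup hW
  rw [eq_bot_iff]
  intro c hcC
  have hcS : c ∈ S' := hC.1 hcC
  rw [← hr] at hcS
  obtain ⟨s, rfl⟩ := hcS
  have h1 : (s : Ω) ∈ preimageAlong θ C := mem_preimage.mpr ⟨s.2, hcC⟩
  have h2 := (hker s).mpr (hWle h1)
  rw [h2]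
  exact one_mem _

end

end CfsgLib.MX
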