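import Cfsg.Agent.Lib.Fusion.Hyper3
import Cfsg.Agent.Lib.Fusion.Hyper2
import Cfsg.Agent.Lib.Fusion.Alperin2
import Cfsg.Agent.Lib.Fusion.GroupNormal

/-! Saturated subsystems of `p`-power index: uniqueness. -/

set_option autoImplicit false
set_option linter.unusedSectionVars false
set_option linter.unusedVariables false
set_option linter.style.haveILetI false

open Subgroup Cfsg Cfsg.FusionSystem CfsgLib.Fusion

namespace CfsgLib.Res

variable {Ω : Type*} [Group Ω] {p : ℕ} [Fact p.Prime]

/-- A saturated system is contained in any system containing the automorphisms of order prime to `p`. -/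
theorem hom_subset_of_coprime {T : Subgroup Ω} [Finite T] (hT : IsPGroup p T) (E D : FusionSystem T)
    (hE : E.IsSaturated p)
    (h : ∀ R : Subgroup Ω, R ≤ T → ∀ a : E.autGroup R, (orderOf a).Coprime p → (a : MulAut R) ∈ D.autGroup R) :
    ∀ P : Subgroup Ω, E.Hom P ⊆ D.Hom P := by
  refine hom_subset_of_aut hT E hE D fun R hRn _ => ?_
  have hRS := hRn.1
  obtain ⟨-, T₀, hT₀⟩ := fullyAutomized_of_fullyNormalized hT E hE hRn
  have : Finite R := finite_of_le hRS
  have : Finite (MulAut R) := finite_mulAut _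
  have : Finite (E.autGroup R) := inferInstance
  have hres : ∀ β ∈ pResidual p (E.autGroup R), ((β : E.autGroup R) : MulAut R) ∈ D.autGroup R := by
    intro β hβ
    induction hβ using Subgroup.closure_induction with
    | mem a ha => exact h R hRS a ha
    | one => exact Subgroup.one_mem _
    | mul a b _ _ ha hb => exact Subgroup.mul_mem _ ha hb
    | inv a _ ha => exact Subgroup.inv_mem _ ha
  intro χ hχ
  obtain ⟨β, hβ, τ, hτ, he⟩ := exists_residual_mul_sylow T₀ (⟨χ, hχ⟩ : E.autGroup R)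
  have hτ' : ((τ : E.autGroup R) : MulAut R) ∈ D.autGroup R := by
    rw [hT₀] at hτ
    exact autInducedBy_le_autGroup D hRS (mem_subgroupOf.mp hτ)
  have hβ' := hres β hβ
  have e : χ = (β : MulAut R) * (τ : MulAut R) := congrArg (fun z : E.autGroup R => (z : MulAut R)) he
  rw [e]
  exact Subgroup.mul_mem _ hβ' hτ'

/-- The maps of `D` between subgroups of `T`, as a system over `T`. -/
def restrictSystem {U : Subgroup Ω} (D : FusionSystem U) (T : Subgroup Ω) (hTU : T ≤ U) : FusionSystem T where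
  Hom P := {φ | φ ∈ D.Hom P ∧ P ≤ T ∧ ∀ x : P, φ x ∈ T}
  le_of_mem h := ⟨h.2.1, h.2.2⟩
  injective_of_mem h := D.injective_of_mem h.1
  conj_mem := by
    intro P g hP hg
    refine ⟨D.conj_mem (hP.trans hTU) (hTU hg), hP, fun x => ?_⟩
    exact T.mul_mem (T.mul_mem hg (hP x.2)) (T.inv_mem hg)
  comp_mem := by
    rintro P Q φ ψ ⟨h1, h2, h3⟩ ⟨h4, h5, h6⟩ hc
    exact ⟨D.comp_mem h1 h4 hc, h2, fun x => h6 _⟩
  inv_mem := by
    rintro P φ ⟨h1, h2, h3⟩
    obtain ⟨ψ, hψ, he⟩ := D.inv_mem h1
    refine ⟨ψ, ⟨hψ, ?_, ?_⟩, he⟩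
    · rintro _ ⟨x, rfl⟩
      exact h3 x
    · rintro ⟨_, x, rfl⟩
      rw [he]
      exact h2 x.2

/-- The membership in an automizer of an automorphism. -/
theorem mem_residual_of_coprime {X : Type*} [Group X] {a : X} (h : (orderOf a).Coprime p) : a ∈ pResidual p X :=
  subset_closure h

/-- An element of `Aut_E(R)` of order prime to `p`, in a subsystem of `F`. -/
theorem coprime_mem_of_subsystem {T U : Subgroup Ω} {S : Subgroup Ω} {E : FusionSystem T} {F : FusionSystem S} {D : FusionSystem U}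
    (hEF : E.IsSubsystemOf F) (hD : ∀ R : Subgroup Ω, R ≤ T →
      (pResidual p (F.autGroup R)).map (F.autGroup R).subtype ≤ D.autGroup R)
    {R : Subgroup Ω} (hR : R ≤ T) (a : E.autGroup R) (ha : (orderOf a).Coprime p) :
    (a : MulAut R) ∈ D.autGroup R := by
  have h1 := (mem_autGroup_iff E hR).mp a.2
  have h2 := hEF _ h1
  have hRS : R ≤ S := (F.le_of_mem h2).1
  have h3 : (a : MulAut R) ∈ F.autGroup R := (mem_autGroup_iff F hRS).mpr h2
  have h4 : orderOf (⟨a, h3⟩ : F.autGroup R) = orderOf a := by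
    rw [Subgroup.orderOf_mk, Subgroup.orderOf_coe]
  exact hD R hR ⟨⟨a, h3⟩, mem_residual_of_coprime (by rw [h4]; exact ha), rfl⟩

/-- **S5199**. -/
theorem normal_le_of_pPowerIndex {S T U : Subgroup Ω} [Finite S] (hS : IsPGroup p S) (F : FusionSystem S)
    (E : FusionSystem T) (hE : E.IsNormalIn F p) (F₀ : FusionSystem U)
    (hU : T ⊔ F.hyperfocalSubgroup p ≤ U) (hidx : F₀.HasPPowerIndexIn F p) : E.IsSubsystemOf F₀ := by
  have hTU : T ≤ U := le_sup_left.trans hU
  have hEsat := hE.1.1
  have hEF := hE.1.2.2.1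
  have hTS : T ≤ S := hE.1.2.2.2.1.1
  haveI : Finite T := finite_of_le hTS
  have hTp : IsPGroup p T := hS.to_le hTS
  have hsub := hom_subset_of_coprime hTp E (restrictSystem F₀ T hTU) hEsat (fun R hR a ha => ?_)
  · intro P φ hφ
    exact (hsub P hφ).1
  · have h1 := coprime_mem_of_subsystem (D := F₀) hEF (fun R' hR' => hidx.2.2 R' (hR'.trans hTU)) hR a ha
    refine (mem_autGroup_iff _ hR).mpr ⟨(mem_autGroup_iff F₀ (hR.trans hTU)).mp h1, hR, fun x => hR ((a : MulAut R) x).2⟩

section group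

variable {G : Type*} [Group G] [Finite G]

/-- A `p'`-automorphism induced by an element of `G` is induced by a `p'`-element. -/
theorem exists_coprime_conj {R : Subgroup G} {g : G} {α : MulAut R} (hg : ∀ x : R, ((α x : R) : G) = g * x * g⁻¹)
    (hα : (orderOf α).Coprime p) :
    ∃ h ∈ pResidual p G, ∀ x : R, ((α x : R) : G) = h * x * h⁻¹ := by
  -- write the order of `g` as `p ^ k * m`
  obtain ⟨k, m, hm, hk⟩ : ∃ k m : ℕ, m.Coprime p ∧ orderOf g = p ^ k * m := by
    have hpos : orderOf g ≠ 0 := (orderOf_pos g).ne'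
    refine ⟨(orderOf g).factorization p, ordCompl[p] (orderOf g), ?_, (Nat.ordProj_mul_ordCompl_eq_self _ _).symm⟩
    exact (Nat.coprime_ordCompl (Fact.out : p.Prime) hpos).symm
  -- a power `a` with `a ≡ 1` mod the order of `α` and `a ≡ 0` mod `p ^ k`
  have hcop : (orderOf α).Coprime (p ^ k) := hα.pow_right k
  obtain ⟨a, ha⟩ : ∃ a : ℕ, a % orderOf α = 1 % orderOf α ∧ a % p ^ k = 0 % p ^ k := by
    obtain ⟨a, ha1, ha2⟩ := Nat.chineseRemainder hcop 1 0
    exact ⟨a, ha1, ha2⟩
  have hα1 : α ^ a = α := by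
    have h1 : α ^ a = α ^ (a % orderOf α) := (pow_mod_orderOf α a).symm
    rw [h1, ha.1, pow_mod_orderOf, pow_one]
  have hgval : ∀ (n : ℕ) (x : R), (((α ^ n) x : R) : G) = g ^ n * x * (g ^ n)⁻¹ := by
    intro n
    induction n with
    | zero =>
      intro x
      simp
    | succ n ih =>
      intro x
      rw [pow_succ, MulAut.mul_apply, ih, hg]
      simp only [pow_succ, mul_inv_rev]
      group
  refine ⟨g ^ a, ?_, fun x => ?_⟩
  · refine mem_residual_of_coprime ?_
    -- the order of `g ^ a` is prime to `p`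
    have hd : p ^ k ∣ a := (Nat.modEq_zero_iff_dvd).mp (by simpa [Nat.ModEq] using ha.2)
    obtain ⟨c, hc⟩ := hd
    have h1 : (g ^ a) ^ m = 1 := by
      rw [← pow_mul, hc, show p ^ k * c * m = (p ^ k * m) * c by ring, ← hk, pow_mul, pow_orderOf_eq_one, one_pow]
    exact Nat.Coprime.coprime_dvd_left (orderOf_dvd_of_pow_eq_one h1) hm
  · have h2 := hgval a x
    rw [hα1] at h2
    exact h2

/-- **S5139**. -/
theorem pResidual_eq_residual_system (S : Sylow p G)
    (E : FusionSystem ((groupFusionSystem (S : Subgroup G)).hyperfocalSubgroup p))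
    (hE : (groupFusionSystem (S : Subgroup G)).IsPResidual p E) :
    ∃ h : (S : Subgroup G) ⊓ pResidual p G ≤ pResidual p G, ∀ P : Subgroup G,
      E.Hom P = (fusionSystemOfSubgroup (pResidual p G) ((S : Subgroup G) ⊓ pResidual p G) h).Hom P := by
  refine ⟨inf_le_right, ?_⟩
  have aux : ∀ (T₀ : Subgroup G), T₀ = (S : Subgroup G) ⊓ pResidual p G → ∀ E : FusionSystem T₀,
      E.IsSaturated p → E.HasPPowerIndexIn (groupFusionSystem (S : Subgroup G)) p → ∀ P : Subgroup G,
      E.Hom P = (fusionSystemOfSubgroup (pResidual p G) ((S : Subgroup G) ⊓ pResidual p G) inf_le_right).Hom P := by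
    rintro _ rfl E hEs hEi P
    haveI hn : (pResidual p G).Normal := CfsgLib.Tr.pResidual_normal p G
    obtain ⟨R₀, hR₀⟩ := sylow_inf_normal S (pResidual p G)
    have hDs := fusionOfSubgroup_isSaturated (pResidual p G) _ inf_le_right R₀ hR₀
    have hTp : IsPGroup p ↥((S : Subgroup G) ⊓ pResidual p G) := S.2.to_le inf_le_left
    have hDF : (fusionSystemOfSubgroup (pResidual p G) ((S : Subgroup G) ⊓ pResidual p G) inf_le_right).IsSubsystemOf
        (groupFusionSystem (S : Subgroup G)) := by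
      rintro Q φ ⟨hQ, hv, g, -, hg⟩
      exact ⟨hQ.trans inf_le_left, fun x => (hv x).1, g, hg⟩
    apply Set.eq_of_subset_of_subset
    · refine hom_subset_of_coprime hTp E _ hEs (fun R hR a ha => ?_) P
      have h1 := (mem_autGroup_iff E hR).mp a.2
      have h2 := hEi.1 _ h1
      obtain ⟨-, hv, g, hg⟩ := h2
      have hord : (orderOf (a : MulAut R)).Coprime p := by
        rw [Subgroup.orderOf_coe]
        exact ha
      obtain ⟨h, hh, he⟩ := exists_coprime_conj (α := (a : MulAut R)) hg hord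
      refine (mem_autGroup_iff _ hR).mpr ⟨hR, fun x => hR ((a : MulAut R) x).2, h, hh, he⟩
    · refine hom_subset_of_coprime hTp _ E hDs (fun R hR a ha => ?_) P
      exact coprime_mem_of_subsystem (D := E) hDF (fun R' hR' => hEi.2.2 R' hR') hR a ha
  exact aux _ (hyperfocal_eq S) E hE.1 hE.2

end group

end CfsgLib.Res
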