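import Cfsg.Agent.Lib.MX.Res1
import Cfsg.Prelude.Def_FusionReduction

/-! Residual limits. -/

set_option autoImplicit false
set_option linter.unusedSectionVars false
set_option linter.unusedVariables false
set_option linter.style.haveILetI false

open Subgroup Cfsg Cfsg.FusionSystem CfsgLib.Fusion

namespace CfsgLib.Res

variable {Ω : Type*} [Group Ω] {p : ℕ} [Fact p.Prime] {S₀ : Subgroup Ω} [Finite S₀]

theorem source_eq_of_hom_eq {S S' : Subgroup Ω} {F : FusionSystem S} {F' : FusionSystem S'}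
    (h : ∀ P : Subgroup Ω, F.Hom P = F'.Hom P) : S = S' := by
  apply le_antisymm
  · have h1 := subtype_mem F (le_refl S)
    rw [h S] at h1
    exact (F'.le_of_mem h1).1
  · have h1 := subtype_mem F' (le_refl S')
    rw [← h S'] at h1
    exact (F.le_of_mem h1).1

/-- Two saturated subsystems of `p`-power index on the same subgroup coincide. -/
theorem eq_of_pPower {S T : Subgroup Ω} (hS₀ : IsPGroup p S₀) (hT : T ≤ S₀) {F : FusionSystem S} {D D₂ : FusionSystem T}
    (hD : D.IsSaturated p ∧ D.HasPPowerIndexIn F p) (hD₂ : D₂.IsSaturated p ∧ D₂.HasPPowerIndexIn F p) : D = D₂ := by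
  haveI : Finite T := finite_of_le hT
  have hTp : IsPGroup p T := hS₀.to_le hT
  refine fusion_ext fun P => Set.eq_of_subset_of_subset ?_ ?_
  · refine hom_subset_of_coprime hTp D D₂ hD.1 (fun R hR a ha => ?_) P
    exact coprime_mem_of_subsystem (D := D₂) hD.2.1 (fun R' hR' => hD₂.2.2.2 R' hR') hR a ha
  · refine hom_subset_of_coprime hTp D₂ D hD₂.1 (fun R hR a ha => ?_) P
    exact coprime_mem_of_subsystem (D := D) hD₂.2.1 (fun R' hR' => hD.2.2.2 R' hR') hR a ha

/-- A saturated system of `p`-power index over the whole group is the system itself. -/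
theorem eq_self_of_pPower {S : Subgroup Ω} (hS₀ : IsPGroup p S₀) (hT : S ≤ S₀) {F D : FusionSystem S}
    (hF : F.IsSaturated p) (hD : D.IsSaturated p ∧ D.HasPPowerIndexIn F p) : D = F := by
  haveI : Finite S := finite_of_le hT
  have hTp : IsPGroup p S := hS₀.to_le hT
  refine fusion_ext fun P => Set.eq_of_subset_of_subset ?_ ?_
  · exact fun φ hφ => hD.2.1 P hφ
  · refine hom_subset_of_coprime hTp F D hF (fun R hR a ha => ?_) P
    exact hD.2.2.2 R hR ⟨a, mem_residual_of_coprime ha, rfl⟩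

/-- The `p'`-residual is unique. -/
theorem eq_of_pPrimeResidual {T : Subgroup Ω} {D D₁ D₂ : FusionSystem T} (h₁ : D.IsPPrimeResidual p D₁)
    (h₂ : D.IsPPrimeResidual p D₂) : D₁ = D₂ :=
  fusion_ext fun P => Set.eq_of_subset_of_subset (h₁.2.2 D₂ h₂.1 h₂.2.1 P) (h₂.2.2 D₁ h₁.1 h₁.2.1 P)

theorem stable_aux {S T : Subgroup Ω} (hS₀ : IsPGroup p S₀) (hSS : S ≤ S₀) (hT : T = S) (F : FusionSystem S)
    (hyp : F.hyperfocalSubgroup p = S) (hF : F.IsPPrimeResidual p F) (D D' : FusionSystem T)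
    (hD : D.IsSaturated p ∧ D.HasPPowerIndexIn F p) (hD' : D.IsPPrimeResidual p D') :
    (∀ P, D'.Hom P = F.Hom P) ∧ D'.hyperfocalSubgroup p = T ∧ D'.IsPPrimeResidual p D' := by
  subst hT
  obtain rfl := eq_self_of_pPower hS₀ hSS hF.1 hD
  obtain rfl := eq_of_pPrimeResidual hD' hF
  exact ⟨fun _ => rfl, hyp, hF⟩

/-- The residual limit of a stable system is the system. -/
theorem limit_stable_aux (hS₀ : IsPGroup p S₀) {q : ℕ} {T S' : Subgroup Ω} {E : FusionSystem T} {F' : FusionSystem S'}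
    (h : E.IsResidualLimitOf F' q) : q = p → S' ≤ S₀ → F'.hyperfocalSubgroup q = S' → F'.IsPPrimeResidual q F' →
      ∀ P, E.Hom P = F'.Hom P := by
  induction h with
  | stable F q h1 h2 => exact fun _ _ _ _ _ => rfl
  | step F q D D' h1 h2 h3 ih =>
    intro hq hSS hyp hF P
    subst hq
    obtain ⟨e1, e2, e3⟩ := stable_aux hS₀ hSS hyp F hyp hF D D' h1 h2
    rw [ih rfl (by rw [hyp]; exact hSS) e2 e3 P, e1 P]

theorem limit_stable (hS₀ : IsPGroup p S₀) {T S' : Subgroup Ω} {E : FusionSystem T} {F' : FusionSystem S'}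
    (h : E.IsResidualLimitOf F' p) (hSS : S' ≤ S₀) (hyp : F'.hyperfocalSubgroup p = S')
    (hF : F'.IsPPrimeResidual p F') : ∀ P, E.Hom P = F'.Hom P :=
  limit_stable_aux hS₀ h rfl hSS hyp hF

/-- Residual limits are unique. -/
theorem limit_unique_aux (hS₀ : IsPGroup p S₀) {q : ℕ} {T S : Subgroup Ω} {E : FusionSystem T} {F : FusionSystem S}
    (h : E.IsResidualLimitOf F q) : q = p → S ≤ S₀ → ∀ {T' S' : Subgroup Ω} {E' : FusionSystem T'} {F' : FusionSystem S'},
      E'.IsResidualLimitOf F' p → (∀ P, F.Hom P = F'.Hom P) → ∀ P, E.Hom P = E'.Hom P := by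
  induction h with
  | stable F q h1 h2 =>
    intro hq hSS T' S' E' F' h' hFF P
    subst hq
    obtain rfl := source_eq_of_hom_eq hFF
    obtain rfl := fusion_ext hFF
    exact (limit_stable hS₀ h' hSS h1 h2 P).symm
  | step F q D D' h1 h2 h3 ih =>
    intro hq hSS T' S' E' F' h' hFF P
    subst hq
    obtain rfl := source_eq_of_hom_eq hFF
    obtain rfl := fusion_ext hFF
    haveI := finite_of_le hSS
    have hHS : F.hyperfocalSubgroup q ≤ S₀ := (hyperfocal_le_source F).trans hSS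
    cases h' with
    | stable _ _ h1' h2' =>
      rw [limit_stable hS₀ (IsResidualLimitOf.step F q D D' h1 h2 h3) hSS h1' h2' P]
    | step _ _ D₂ D₂' h1' h2' h3' =>
      obtain rfl := eq_of_pPower hS₀ hHS h1 h1'
      obtain rfl := eq_of_pPrimeResidual h2 h2'
      exact ih rfl hHS h3' (fun _ => rfl) P

theorem limit_unique (hS₀ : IsPGroup p S₀) {T S T' S' : Subgroup Ω} {E : FusionSystem T} {F : FusionSystem S}
    {E' : FusionSystem T'} {F' : FusionSystem S'} (h : E.IsResidualLimitOf F p) (hSS : S ≤ S₀)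
    (h' : E'.IsResidualLimitOf F' p) (hFF : ∀ P, F.Hom P = F'.Hom P) : ∀ P, E.Hom P = E'.Hom P :=
  limit_unique_aux hS₀ h rfl hSS h' hFF

section hyp

variable {S T : Subgroup Ω} [Finite S]

/-- The hyperfocal subgroup of a saturated subsystem of `p`-power index. -/
theorem hyperfocal_eq_of_pPower (hS : IsPGroup p S) (F : FusionSystem S) {E : FusionSystem T}
    (hTS : T ≤ S) (hsc : F.StronglyClosed T) (hidx : E.HasPPowerIndexIn F p) :
    E.hyperfocalSubgroup p = F.hyperfocalSubgroup p := by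
  haveI : Finite T := finite_of_le hTS
  apply le_antisymm
  · refine hyperfocal_le E _ fun P hP α hα x => ?_
    have h1 := hidx.1 _ ((mem_autGroup_iff E hP).mp α.2)
    have h2 : (α : MulAut P) ∈ F.autGroup P := (mem_autGroup_iff F (hP.trans hTS)).mpr h1
    have h3 : orderOf (⟨α, h2⟩ : F.autGroup P) = orderOf α := by
      rw [Subgroup.orderOf_mk, Subgroup.orderOf_coe]
    exact hyperfocal_mem F (hP.trans hTS) (α := ⟨α, h2⟩) (mem_residual_of_coprime (by rw [h3]; exact hα)) x
  · refine hyperfocal_le F _ fun P hP a ha x => ?_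
    have hPfin : Finite P := finite_of_le hP
    haveI : Finite (MulAut P) := finite_mulAut _
    have hyT : F.hyperfocalSubgroup p ≤ T := hidx.2.1
    -- the norm argument
    obtain ⟨y₁, hy₁⟩ : ∃ y₁ : Ω, y₁ = (x : Ω)⁻¹ * ((a : MulAut P) x : P) := ⟨_, rfl⟩
    have hy₁F : y₁ ∈ F.hyperfocalSubgroup p := by
      rw [hy₁]
      exact hyperfocal_mem F hP (mem_residual_of_coprime ha) x
    have hy₁T : y₁ ∈ T := hyT hy₁F
    have hy₁P : y₁ ∈ P := by
      rw [hy₁]
      exact P.mul_mem (P.inv_mem x.2) ((a : MulAut P) x).2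
    -- the restriction to `P ⊓ T`
    have hPT : P ⊓ T ≤ S := inf_le_right.trans hTS
    have hP₀val : ∀ z : ↥(P ⊓ T), (((a : MulAut P) ⟨z, z.2.1⟩ : P) : Ω) ∈ P ⊓ T := by
      intro z
      refine ⟨((a : MulAut P) _).2, ?_⟩
      have h1 := restrict_mem F ((mem_autGroup_iff F hP).mp a.2) (inf_le_left : P ⊓ T ≤ P)
      exact hsc.2 _ inf_le_right _ h1 z
    have hkeyP₀ : ∀ (n : ℕ) (z : Ω), z ∈ P ⊓ T → ∀ hz : z ∈ P, z⁻¹ * (((a : MulAut P) ^ n) ⟨z, hz⟩ : P) ∈ E.hyperfocalSubgroup p := by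
      intro n z hzT hz
      -- the restricted automorphism
      have hf := restrict_mem F ((mem_autGroup_iff F hP).mp a.2) (inf_le_left : P ⊓ T ≤ P)
      have hfr := range_eq_of_self F hf hP₀val
      obtain ⟨a₀, ha₀, ha₀e⟩ := exists_aut_of_map F hf hfr
      have ha₀v : ∀ (k : ℕ) (w : ↥(P ⊓ T)), (((a₀ ^ k) w : ↥(P ⊓ T)) : Ω) = (((a : MulAut P) ^ k) ⟨w, w.2.1⟩ : P) := by
        intro k
        induction k with
        | zero => intro w; rfl
        | succ k ih =>
          intro w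
          rw [pow_succ, MulAut.mul_apply, ih, pow_succ, MulAut.mul_apply]
          congr 2
          exact Subtype.ext (ha₀e w)
      -- the order of `a₀ ^ n`
      have hord₀ : (orderOf a₀).Coprime p := by
        have h1 : a₀ ^ orderOf (a : MulAut P) = 1 := by
          ext w
          rw [ha₀v, pow_orderOf_eq_one]
          rfl
        have h2 : (orderOf (a : MulAut P)).Coprime p := by
          rw [Subgroup.orderOf_coe]
          exact ha
        exact Nat.Coprime.coprime_dvd_left (orderOf_dvd_of_pow_eq_one h1) h2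
      have hordn : (orderOf (a₀ ^ n)).Coprime p :=
        Nat.Coprime.coprime_dvd_left (orderOf_pow_dvd n) hord₀
      have ha₀n : a₀ ^ n ∈ F.autGroup (P ⊓ T) := Subgroup.pow_mem _ ha₀ n
      have h4 : orderOf (⟨a₀ ^ n, ha₀n⟩ : F.autGroup (P ⊓ T)) = orderOf (a₀ ^ n) := Subgroup.orderOf_mk _ _
      have h5 : a₀ ^ n ∈ E.autGroup (P ⊓ T) :=
        hidx.2.2 _ inf_le_right ⟨⟨a₀ ^ n, ha₀n⟩, mem_residual_of_coprime (by rw [h4]; exact hordn), rfl⟩
      have h6 : orderOf (⟨a₀ ^ n, h5⟩ : E.autGroup (P ⊓ T)) = orderOf (a₀ ^ n) := Subgroup.orderOf_mk _ _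
      have h7 := hyperfocal_mem E (inf_le_right : P ⊓ T ≤ T) (α := ⟨a₀ ^ n, h5⟩)
        (mem_residual_of_coprime (by rw [h6]; exact hordn)) ⟨z, hzT⟩
      have h8 := ha₀v n ⟨z, hzT⟩
      rw [← h8]
      exact h7
    have hstep : ∀ n : ℕ, (y₁ ^ n)⁻¹ * ((x : Ω)⁻¹ * (((a : MulAut P) ^ n) x : P)) ∈ E.hyperfocalSubgroup p := by
      intro n
      induction n with
      | zero => simp [Subgroup.one_mem]
      | succ n ih =>
        have h1 := hkeyP₀ n y₁ ⟨hy₁P, hy₁T⟩ hy₁P
        have h2 := hyperfocal_conj E (T.inv_mem hy₁T) ih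
        have h3 := Subgroup.mul_mem _ h2 h1
        -- `a ^ n y₁ = (a ^ n x)⁻¹ * a ^ (n+1) x`
        have h4 : (((a : MulAut P) ^ n) ⟨y₁, hy₁P⟩ : P) =
            ((((a : MulAut P) ^ n) x : P) : Ω)⁻¹ * (((a : MulAut P) ^ (n + 1)) x : P) := by
          have e : (⟨y₁, hy₁P⟩ : P) = x⁻¹ * (a : MulAut P) x := Subtype.ext hy₁
          rw [e, map_mul, map_inv, pow_succ, MulAut.mul_apply]
          rfl
        rw [h4] at h3
        have e : (y₁ ^ (n + 1))⁻¹ * ((x : Ω)⁻¹ * (((a : MulAut P) ^ (n + 1)) x : P)) =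
            y₁⁻¹ * ((y₁ ^ n)⁻¹ * ((x : Ω)⁻¹ * (((a : MulAut P) ^ n) x : P))) * y₁⁻¹⁻¹ *
              (y₁⁻¹ * (((((a : MulAut P) ^ n) x : P) : Ω)⁻¹ * (((a : MulAut P) ^ (n + 1)) x : P))) := by
          rw [pow_succ]
          group
        rw [e]
        exact h3
    have hm := hstep (orderOf (a : MulAut P))
    rw [pow_orderOf_eq_one] at hm
    have hm' : (y₁ ^ orderOf (a : MulAut P))⁻¹ ∈ E.hyperfocalSubgroup p := by
      simpa using hm
    have hm2 : y₁ ^ orderOf (a : MulAut P) ∈ E.hyperfocalSubgroup p := by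
      simpa using Subgroup.inv_mem _ hm'
    -- coprimality
    obtain ⟨k, hk⟩ := hS ⟨y₁, hTS hy₁T⟩
    have hk' : y₁ ^ p ^ k = 1 := congrArg (fun z : S => (z : Ω)) hk
    have hcop : (orderOf (a : MulAut P)).Coprime (p ^ k) := by
      refine Nat.Coprime.pow_right k ?_
      rw [Subgroup.orderOf_coe]
      exact ha
    have hb := Nat.gcd_eq_gcd_ab (orderOf (a : MulAut P)) (p ^ k)
    rw [hcop] at hb
    have h9 : y₁ = (y₁ ^ orderOf (a : MulAut P)) ^ Nat.gcdA (orderOf (a : MulAut P)) (p ^ k) := by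
      have h10 : y₁ ^ ((1 : ℕ) : ℤ) = y₁ ^ ((orderOf (a : MulAut P) : ℤ) * Nat.gcdA (orderOf (a : MulAut P)) (p ^ k) +
          ((p ^ k : ℕ) : ℤ) * Nat.gcdB (orderOf (a : MulAut P)) (p ^ k)) := by rw [hb]
      have h11 : y₁ ^ ((p ^ k : ℕ) : ℤ) = 1 := by
        rw [zpow_natCast]
        exact hk'
      rw [zpow_add, zpow_mul, zpow_mul, h11, one_zpow, mul_one, zpow_natCast y₁ (orderOf _)] at h10
      simpa using h10
    rw [← hy₁, h9]
    exact Subgroup.zpow_mem _ hm2 _

end hyp

/-- **S5203**. -/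
theorem limit_of_normal_pPower {S T U V : Subgroup Ω} [Finite S] (hS : IsPGroup p S) (F : FusionSystem S) (hF : F.IsSaturated p)
    (E : FusionSystem T) (hE : E.IsNormalIn F p) (hidx : E.HasPPowerIndexIn F p)
    (Finf : FusionSystem U) (hFinf : Finf.IsResidualLimitOf F p)
    (Einf : FusionSystem V) (hEinf : Einf.IsResidualLimitOf E p) : ∀ P : Subgroup Ω, Finf.Hom P = Einf.Hom P := by
  have hsc := hE.1.2.2.2.1
  have hTS : T ≤ S := hsc.1
  haveI : Finite T := finite_of_le hTS
  have hEsat := hE.1.1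
  have hhyp := hyperfocal_eq_of_pPower hS F hTS hsc hidx
  have hFL := hidx.2.1
  cases hFinf with
  | stable _ _ h1 h2 =>
    -- `F` is stable, so `T = S` and `E = F`
    have hTeq : T = S := le_antisymm hTS (h1 ▸ hFL)
    subst hTeq
    obtain rfl := eq_self_of_pPower hS le_rfl hF ⟨hEsat, hidx⟩
    intro P
    exact (limit_stable hS hEinf le_rfl h1 h2 P).symm
  | step _ _ D D' h1 h2 h3 =>
    have hHS : F.hyperfocalSubgroup p ≤ S := hyperfocal_le_source F
    cases hEinf with
    | stable _ _ h1' h2' =>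
      -- `E` is stable
      have aux : ∀ (H : Subgroup Ω), H = T → ∀ D D' : FusionSystem H, D.IsSaturated p → D.HasPPowerIndexIn F p →
          D.IsPPrimeResidual p D' → ∀ (W : Subgroup Ω) (Finf : FusionSystem W), Finf.IsResidualLimitOf D' p →
          ∀ P : Subgroup Ω, Finf.Hom P = E.Hom P := by
        rintro H rfl D D' hDs hDi hD' W Finf hlim P
        haveI : Finite H := finite_of_le hTS
        -- `D` is `E`
        have hDE : D = E := by
          refine fusion_ext fun Q => Set.eq_of_subset_of_subset ?_ ?_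
          · refine hom_subset_of_coprime (hS.to_le hTS) D E hDs (fun R hR a ha => ?_) Q
            exact coprime_mem_of_subsystem (D := E) hDi.1 (fun R' hR' => hidx.2.2 R' hR') hR a ha
          · refine hom_subset_of_coprime (hS.to_le hTS) E D hEsat (fun R hR a ha => ?_) Q
            exact coprime_mem_of_subsystem (D := D) hidx.1 (fun R' hR' => hDi.2.2 R' hR') hR a ha
        subst hDE
        obtain rfl := eq_of_pPrimeResidual hD' h2'
        exact limit_stable (hS.to_le hTS) hlim le_rfl h1' h2' P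
      exact aux _ (hhyp.symm.trans h1') D D' h1.1 h1.2 h2 _ _ h3
    | step _ _ D₂ D₂' h1' h2' h3' =>
      have aux : ∀ (H₁ H₂ : Subgroup Ω), H₁ = H₂ → H₂ ≤ T → ∀ (D D' : FusionSystem H₁) (D₂ D₂' : FusionSystem H₂),
          D.IsSaturated p → D.HasPPowerIndexIn F p → D.IsPPrimeResidual p D' →
          D₂.IsSaturated p → D₂.HasPPowerIndexIn E p → D₂.IsPPrimeResidual p D₂' →
          ∀ P : Subgroup Ω, D'.Hom P = D₂'.Hom P := by
        rintro H₁ H₂ rfl hH D D' D₂ D₂' hDs hDi hD' hDs₂ hDi₂ hD₂' P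
        haveI : Finite H₁ := finite_of_le (hH.trans hTS)
        have hDD : D = D₂ := by
          refine fusion_ext fun Q => Set.eq_of_subset_of_subset ?_ ?_
          · refine hom_subset_of_coprime (hS.to_le (hH.trans hTS)) D D₂ hDs (fun R hR a ha => ?_) Q
            have h1 := (mem_autGroup_iff D hR).mp a.2
            have h2 : (a : MulAut R) ∈ F.autGroup R := (mem_autGroup_iff F (hR.trans (hH.trans hTS))).mpr (hDi.1 _ h1)
            have h3 : orderOf (⟨a, h2⟩ : F.autGroup R) = orderOf a := by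
              rw [Subgroup.orderOf_mk, Subgroup.orderOf_coe]
            have h4 : (a : MulAut R) ∈ E.autGroup R :=
              hidx.2.2 R (hR.trans hH) ⟨⟨a, h2⟩, mem_residual_of_coprime (by rw [h3]; exact ha), rfl⟩
            have h5 : orderOf (⟨a, h4⟩ : E.autGroup R) = orderOf a := by
              rw [Subgroup.orderOf_mk, Subgroup.orderOf_coe]
            exact hDi₂.2.2 R hR ⟨⟨a, h4⟩, mem_residual_of_coprime (by rw [h5]; exact ha), rfl⟩
          · refine hom_subset_of_coprime (hS.to_le (hH.trans hTS)) D₂ D hDs₂ (fun R hR a ha => ?_) Q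
            have h1 := (mem_autGroup_iff D₂ hR).mp a.2
            have h2 := hidx.1 _ (hDi₂.1 _ h1)
            have h3 : (a : MulAut R) ∈ F.autGroup R := (mem_autGroup_iff F (hR.trans (hH.trans hTS))).mpr h2
            have h4 : orderOf (⟨a, h3⟩ : F.autGroup R) = orderOf a := by
              rw [Subgroup.orderOf_mk, Subgroup.orderOf_coe]
            exact hDi.2.2 R hR ⟨⟨a, h3⟩, mem_residual_of_coprime (by rw [h4]; exact ha), rfl⟩
        subst hDD
        rw [eq_of_pPrimeResidual hD' hD₂']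
      have hDD := aux _ _ hhyp.symm (hFL.trans le_rfl |> fun h => hhyp ▸ h) D D' D₂ D₂' h1.1 h1.2 h2 h1'.1 h1'.2 h2'
      have hHE : E.hyperfocalSubgroup p ≤ S := (hyperfocal_le_source E).trans hTS
      exact limit_unique hS h3 hHS h3' hDD

end CfsgLib.Res
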