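import Cfsg.Agent.Lib.MX.SimpG
import Cfsg.Agent.Lib.MX.GT6
import Cfsg.Agent.Lib.MX.PSolvFus

/-! Normal subgroups of a realizing group give normal subsystems. -/

set_option autoImplicit false
set_option linter.unusedSectionVars false
set_option linter.unusedVariables false
set_option linter.style.haveILetI false

open Subgroup Cfsg Cfsg.FusionSystem CfsgLib.Fusion CfsgLib.PLocal CfsgLib.MX

namespace CfsgLib.SimpG

universe u

section adjust

variable {G : Type*} [Group G] [Finite G] {p : ℕ} [Fact p.Prime]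

theorem exists_adjusted (S : Sylow p G) (H : Subgroup G) [hH : H.Normal] {h : G} (hh : h ∈ H)
    (hhN : h ∈ normalizer (((S : Subgroup G) ⊓ H : Subgroup G) : Set G)) :
    ∃ h' ∈ H, (∀ t ∈ (S : Subgroup G) ⊓ H, h' * t * h'⁻¹ = h * t * h⁻¹) ∧
      ∀ y ∈ centralizerIn (S : Subgroup G) ((S : Subgroup G) ⊓ H),
        h' * y * h'⁻¹ ∈ centralizerIn (S : Subgroup G) ((S : Subgroup G) ⊓ H) := by
  have hTS : (S : Subgroup G) ⊓ H ≤ S := inf_le_left
  have hTn : (S : Subgroup G) ≤ normalizer (((S : Subgroup G) ⊓ H : Subgroup G) : Set G) := by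
    intro s hs
    refine mem_normalizer_of_conj_mem fun x hx => ?_
    exact ⟨(S : Subgroup G).mul_mem ((S : Subgroup G).mul_mem hs hx.1) ((S : Subgroup G).inv_mem hs),
      hH.conj_mem x hx.2 s⟩
  set T : Subgroup G := (S : Subgroup G) ⊓ H with hT
  set Z : Subgroup G := centralizer (T : Set G) with hZ
  set C : Subgroup G := centralizerIn (S : Subgroup G) T with hC
  obtain ⟨RC, hRC⟩ : ∃ R : Sylow p ↥Z, (R : Subgroup ↥Z) = C.subgroupOf Z :=
    sylow_centralizer_of_normal_in S hTn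
  have hCZ : C ≤ Z := inf_le_right
  have hCS : C ≤ S := inf_le_left
  have hZconj : ∀ {z}, z ∈ Z → h * z * h⁻¹ ∈ Z := fun hz => centralizer_conj_of_normalizer hhN hz
  have hNn : ((H ⊓ Z).subgroupOf Z).Normal := by
    refine ⟨fun n hn z => ?_⟩
    have hn' := mem_subgroupOf.mp hn
    refine mem_subgroupOf.mpr ⟨hH.conj_mem _ hn'.1 _, ?_⟩
    exact Z.mul_mem (Z.mul_mem z.2 n.2) (Z.inv_mem z.2)
  let R' : Subgroup Z := (C.map (MulAut.conj h).toMonoidHom).subgroupOf Z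
  have hR'p : IsPGroup p R' := by
    have h1 : IsPGroup p (C.map (MulAut.conj h).toMonoidHom) := (S.2.to_le hCS).map _
    exact h1.comap_of_injective Z.subtype Z.subtype_injective
  have hRS : ∀ r ∈ R', (QuotientGroup.mk r : Z ⧸ (H ⊓ Z).subgroupOf Z) ∈
      (RC : Subgroup Z).map (QuotientGroup.mk' ((H ⊓ Z).subgroupOf Z)) := by
    intro r hr
    obtain ⟨y, hy, hye⟩ := mem_subgroupOf.mp hr
    have hye' : h * y * h⁻¹ = (r : G) := hye
    refine ⟨⟨y, hCZ hy⟩, ?_, ?_⟩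
    · show _ ∈ (RC : Subgroup Z)
      rw [hRC]
      exact mem_subgroupOf.mpr hy
    · show (QuotientGroup.mk' _) _ = _
      rw [QuotientGroup.mk'_apply, QuotientGroup.eq]
      refine mem_subgroupOf.mpr ⟨?_, ?_⟩
      · have e : (((⟨y, hCZ hy⟩ : Z)⁻¹ * r : Z) : G) = y⁻¹ * h * y * h⁻¹ := by
          rw [Subgroup.coe_mul, Subgroup.coe_inv, ← hye']
          simp only [mul_assoc]
        rw [e]
        have h1 : y⁻¹ * h * y ∈ H := by
          have := hH.conj_mem h hh y⁻¹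
          simpa using this
        exact H.mul_mem h1 (H.inv_mem hh)
      · exact (⟨y, hCZ hy⟩⁻¹ * r : Z).2
  obtain ⟨c₀, hc₀, hc₀e⟩ := sylow_adjust RC _ R' hR'p hRS
  have hc₀' := mem_subgroupOf.mp hc₀
  refine ⟨c₀ * h, H.mul_mem hc₀'.1 hh, ?_, ?_⟩
  · intro t ht
    have h1 : h * t * h⁻¹ ∈ T := (mem_normalizer_iff.mp hhN t).mp ht
    have h2 := mem_centralizer_iff.mp c₀.2 _ h1
    calc c₀ * h * t * (c₀ * h : G)⁻¹ = c₀ * (h * t * h⁻¹) * (c₀ : G)⁻¹ := by group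
      _ = (h * t * h⁻¹) * c₀ * (c₀ : G)⁻¹ := by rw [← h2]
      _ = _ := by group
  · intro y hy
    have hr : h * y * h⁻¹ ∈ Z := hZconj (hCZ hy)
    have h1 := hc₀e ⟨_, hr⟩ (mem_subgroupOf.mpr ⟨y, hy, rfl⟩)
    rw [hRC] at h1
    have h2 := mem_subgroupOf.mp h1
    have e : (c₀ * h) * y * (c₀ * h : G)⁻¹ = c₀ * (h * y * h⁻¹) * (c₀ : G)⁻¹ := by
      group
    rw [e]
    exact h2

end adjust

variable {Ω : Type u} [Group Ω] {S : Subgroup Ω} [Finite S] {p : ℕ} [Fact p.Prime] {F : FusionSystem S}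
  {G : Type u} [Group G] [Finite G] {ι : ↥S →* G}

/-- The restriction of `ι` to the preimage of `N`. -/
noncomputable abbrev iotaN (ι : ↥S →* G) (N : Subgroup G) : ↥(preIota ι N) →* G :=
  ι.comp (Subgroup.inclusion (preIota_le N))

theorem iotaN_inj (hι : Function.Injective ι) (N : Subgroup G) : Function.Injective (iotaN ι N) :=
  hι.comp (Subgroup.inclusion_injective _)

theorem iotaN_le (N : Subgroup G) : (iotaN ι N).range ≤ N := by
  rintro _ ⟨x, rfl⟩
  exact (mem_preIota (preIota_le N x.2)).mp x.2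

/-- The system of `N` on the preimage. -/
noncomputable def traceSys (ι : ↥S →* G) (hι : Function.Injective ι) (N : Subgroup G) : FusionSystem (preIota ι N) :=
  subSys (iotaN ι N) (iotaN_inj hι N) N (iotaN_le N)

theorem mem_traceSys {hι : Function.Injective ι} {N : Subgroup G} {P : Subgroup Ω} {φ : P →* Ω} :
    φ ∈ (traceSys ι hι N).Hom P ↔ ∃ (hP : P ≤ preIota ι N) (hv : ∀ x : P, φ x ∈ preIota ι N), ∃ m ∈ N,
      ∀ x : P, ι ⟨φ x, preIota_le N (hv x)⟩ = m * ι ⟨x, preIota_le N (hP x.2)⟩ * m⁻¹ := Iff.rfl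

theorem traceSys_isNormalIn (hr : F.IsRealizedBy ι) (T : Sylow p G) (hT : (T : Subgroup G) = ι.range)
    (N : Subgroup G) [hN : N.Normal] : (traceSys ι hr.1 N).IsNormalIn F p := by
  have hι := hr.1
  have hT₀S : preIota ι N ≤ S := preIota_le N
  have hmem : ∀ {x : Ω} (hx : x ∈ S), x ∈ preIota ι N ↔ ι ⟨x, hx⟩ ∈ N := fun hx => mem_preIota hx
  haveI : Finite ↥(preIota ι N) := finite_of_le hT₀S
  have hinjv : ∀ {a b : Ω} (ha : a ∈ S) (hb : b ∈ S), ι ⟨a, ha⟩ = ι ⟨b, hb⟩ → a = b := fun ha hb h =>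
    congrArg Subtype.val (hι h)
  have hTchar : ∀ y : G, y ∈ (T : Subgroup G) ⊓ N ↔ ∃ x, ∃ hx : x ∈ preIota ι N, ι ⟨x, hT₀S hx⟩ = y := by
    intro y
    constructor
    · rintro ⟨hy1, hy2⟩
      rw [hT] at hy1
      obtain ⟨x, rfl⟩ := hy1
      exact ⟨x, (hmem x.2).mpr hy2, rfl⟩
    · rintro ⟨x, hx, rfl⟩
      exact ⟨hT ▸ ⟨_, rfl⟩, (hmem _).mp hx⟩
  have hιT : ∀ s : ↥S, ι s ∈ (T : Subgroup G) := fun s => hT ▸ ⟨s, rfl⟩
  -- the realization
  have hreal : (traceSys ι hι N).IsRealizedBy ((iotaN ι N).codRestrict N (fun x => iotaN_le N ⟨x, rfl⟩)) := by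
    refine ⟨?_, fun P hP φ hφ => ⟨fun h => ?_, ?_⟩⟩
    · intro a b hab
      exact iotaN_inj hι N (congrArg (fun z : N => (z : G)) hab)
    · obtain ⟨_, hv, m, hm, he⟩ := mem_traceSys.mp h
      exact ⟨⟨m, hm⟩, fun x => Subtype.ext (he x)⟩
    · rintro ⟨⟨m, hm⟩, h⟩
      exact mem_traceSys.mpr ⟨hP, hφ, m, hm, fun x => congrArg (fun z : N => (z : G)) (h x)⟩
  have hEsat : (traceSys ι hι N).IsSaturated p := by
    obtain ⟨R, hR⟩ := sylow_inf_normal T N
    refine isSaturated_of_realized hreal R ?_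
    rw [hR]
    apply le_antisymm
    · intro y hy
      obtain ⟨x, hx, hxe⟩ := (hTchar _).mp (mem_subgroupOf.mp hy)
      exact ⟨⟨x, hx⟩, Subtype.ext hxe⟩
    · rintro _ ⟨x, rfl⟩
      refine mem_subgroupOf.mpr ((hTchar _).mpr ⟨x, x.2, rfl⟩)
  refine ⟨⟨hEsat, isSaturated_of_realized hr T hT, ?_, ?_, ?_, ?_⟩, ?_⟩
  · -- subsystem
    intro P φ hφ
    obtain ⟨hP, hv, m, hm, he⟩ := mem_traceSys.mp hφ
    exact (hr.2 P (hP.trans hT₀S) φ (fun x => hT₀S (hv x))).mpr ⟨m, he⟩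
  · -- strongly closed
    refine ⟨hT₀S, fun R hR φ hφ x => ?_⟩
    obtain ⟨g, hg⟩ := (hr.2 R (hR.trans hT₀S) φ (F.le_of_mem hφ).2).mp hφ
    refine (hmem ((F.le_of_mem hφ).2 x)).mpr ?_
    rw [hg x]
    exact hN.conj_mem _ ((hmem _).mp (hR x.2)) g
  · -- invariance
    intro P hPT φ hφ α hα
    obtain ⟨hP', hv, m, hm, he⟩ := mem_traceSys.mp hφ
    have hα' := (mem_autGroup_iff F hT₀S).mp hα
    obtain ⟨g, hg⟩ := (hr.2 _ hT₀S _ (fun x => hT₀S (α x).2)).mp hα'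
    have hg' : ∀ x : ↥(preIota ι N), ι ⟨(α x : ↥(preIota ι N)), hT₀S (α x).2⟩ = g * ι ⟨x, hT₀S x.2⟩ * g⁻¹ := hg
    have hle : (P.subgroupOf (preIota ι N)).map ((preIota ι N).subtype.comp α.toMonoidHom) ≤ preIota ι N := by
      rintro _ ⟨x, -, rfl⟩
      exact (α x).2
    have hg'N : g * m * g⁻¹ ∈ N := hN.conj_mem m hm g
    have hkey : ∀ x : P, ∀ hφx : φ x ∈ preIota ι N,
        (g * m * g⁻¹) * ι ⟨(α ⟨x, hPT x.2⟩ : ↥(preIota ι N)), hT₀S (α _).2⟩ * (g * m * g⁻¹)⁻¹ =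
          ι ⟨(α ⟨φ x, hφx⟩ : ↥(preIota ι N)), hT₀S (α _).2⟩ := by
      intro x hφx
      rw [hg', hg', he x]
      group
    have hval : ∀ y : ↥((P.subgroupOf (preIota ι N)).map ((preIota ι N).subtype.comp α.toMonoidHom)),
        (g * m * g⁻¹) * (iotaN ι N) ⟨y, hle y.2⟩ * (g * m * g⁻¹)⁻¹ ∈ (iotaN ι N).range := by
      rintro ⟨_, x, hx, rfl⟩
      have hxP : (x : Ω) ∈ P := mem_subgroupOf.mp hx
      refine ⟨α ⟨φ ⟨x, hxP⟩, hv _⟩, ?_⟩
      exact (hkey ⟨x, hxP⟩ (hv _)).symm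
    refine ⟨transportHom (iotaN_inj hι N) hle _ hval,
      mem_traceSys.mpr ⟨hle, transportHom_mem (iotaN_inj hι N) hle _ hval, _, hg'N,
        iota_transportHom (iotaN_inj hι N) hle _ hval⟩, fun x hφx hαx => ?_⟩
    have h4 := iota_transportHom (iotaN_inj hι N) hle _ hval ⟨_, hαx⟩
    have h5 := hkey x hφx
    refine hinjv (hT₀S (transportHom_mem (iotaN_inj hι N) hle _ hval _)) (hT₀S (α _).2) ?_
    exact h4.trans h5
  · -- Frattini
    intro P hPT φ hφ
    obtain ⟨g, hg⟩ := (hr.2 P (hPT.trans hT₀S) φ (F.le_of_mem hφ).2).mp hφ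
    obtain ⟨β, hβ, hβn⟩ := frattini_trace T N g⁻¹
    have hn : g * β⁻¹ ∈ normalizer (((T : Subgroup G) ⊓ N : Subgroup G) : Set G) := by
      have := Subgroup.inv_mem _ hβn
      simpa using this
    have hφT : ∀ x : P, φ x ∈ preIota ι N := fun x => (hmem ((F.le_of_mem hφ).2 x)).mpr (by
      rw [hg x]
      exact hN.conj_mem _ ((hmem _).mp (hPT x.2)) g)
    -- the automorphism
    have hval₁ : ∀ x : ↥(preIota ι N), (g * β⁻¹) * ι ⟨x, hT₀S x.2⟩ * (g * β⁻¹)⁻¹ ∈ ι.range := by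
      intro x
      have h1 : ι ⟨x, hT₀S x.2⟩ ∈ (T : Subgroup G) ⊓ N := (hTchar _).mpr ⟨x, x.2, rfl⟩
      have h2 := (mem_normalizer_iff.mp hn _).mp h1
      rw [← hT]
      exact h2.1
    have hf := transportHom_hom hr hT₀S _ hval₁
    have hfr : (transportHom hι hT₀S _ hval₁).range = preIota ι N := by
      have hle : (transportHom hι hT₀S _ hval₁).range ≤ preIota ι N := by
        rintro _ ⟨x, rfl⟩
        have h1 := iota_transportHom hι hT₀S _ hval₁ x
        refine (hmem (transportHom_mem hι hT₀S _ hval₁ x)).mpr ?_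
        rw [h1]
        exact hN.conj_mem _ ((hmem _).mp x.2) _
      refine Subgroup.eq_of_le_of_card_ge hle ?_
      exact le_of_eq (Nat.card_congr (MonoidHom.ofInjective (F.injective_of_mem hf)).toEquiv)
    obtain ⟨χ, hχ, hχe⟩ := exists_aut_of_map F hf hfr
    -- the source map
    have hval₂ : ∀ x : P, β * (iotaN ι N) ⟨x, hPT x.2⟩ * β⁻¹ ∈ (iotaN ι N).range := by
      intro x
      have h1 : ι ⟨φ x, hT₀S (hφT x)⟩ ∈ (T : Subgroup G) ⊓ N := (hTchar _).mpr ⟨φ x, hφT x, rfl⟩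
      have h2 := (mem_normalizer_iff.mp (Subgroup.inv_mem _ hn) _).mp h1
      obtain ⟨y, hy, hye⟩ := (hTchar _).mp h2
      refine ⟨⟨y, hy⟩, ?_⟩
      show ι ⟨y, hT₀S hy⟩ = _
      rw [hye, hg x]
      show _ = β * ι ⟨x, hT₀S (hPT x.2)⟩ * β⁻¹
      group
    refine ⟨χ, hχ, transportHom (iotaN_inj hι N) hPT β hval₂,
      mem_traceSys.mpr ⟨hPT, transportHom_mem (iotaN_inj hι N) hPT β hval₂, β, hβ,
        iota_transportHom (iotaN_inj hι N) hPT β hval₂⟩, fun x hx => ?_⟩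
    refine hinjv ((F.le_of_mem hφ).2 x) (hT₀S (χ _).2) ?_
    rw [hg x]
    have h6 : ((χ ⟨_, hx⟩ : ↥(preIota ι N)) : Ω) = _ := hχe ⟨_, hx⟩
    have h7 := iota_transportHom hι hT₀S _ hval₁ ⟨_, hx⟩
    have h8 : ι ⟨((χ ⟨_, hx⟩ : ↥(preIota ι N)) : Ω), hT₀S (χ _).2⟩ = _ :=
      (congrArg ι (Subtype.ext h6)).trans h7
    rw [h8]
    have h9 := iota_transportHom (iotaN_inj hι N) hPT β hval₂ x
    have h10 : ι ⟨_, hT₀S hx⟩ = _ := h9
    rw [h10]
    show _ = (g * β⁻¹) * (β * ι ⟨x, hT₀S (hPT x.2)⟩ * β⁻¹) * (g * β⁻¹)⁻¹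
    group
  · -- extension
    intro α hα
    obtain ⟨hh0, hh1, h, hh, hhe⟩ := mem_traceSys.mp ((mem_autGroup_iff _ le_rfl).mp hα)
    have hhe' : ∀ x : ↥(preIota ι N), ι ⟨(α x : ↥(preIota ι N)), hT₀S (α x).2⟩ = h * ι ⟨x, hT₀S x.2⟩ * h⁻¹ := hhe
    have hhN : h ∈ normalizer (((T : Subgroup G) ⊓ N : Subgroup G) : Set G) := by
      refine mem_normalizer_of_conj_mem fun y hy => ?_
      obtain ⟨x, hx, rfl⟩ := (hTchar y).mp hy
      rw [← hhe' ⟨x, hx⟩]
      exact (hTchar _).mpr ⟨_, (α _).2, rfl⟩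
    obtain ⟨h', hh'N, hh'T, hh'C⟩ := exists_adjusted T N hh hhN
    -- centralizers
    have hC : ∀ y (hy : y ∈ S), y ∈ centralizerIn S (preIota ι N) ↔
        ι ⟨y, hy⟩ ∈ centralizerIn (T : Subgroup G) ((T : Subgroup G) ⊓ N) := by
      intro y hy
      constructor
      · rintro ⟨-, hc⟩
        refine ⟨hιT _, mem_centralizer_iff.mpr fun t ht => ?_⟩
        obtain ⟨x, hx, rfl⟩ := (hTchar t).mp ht
        rw [← map_mul, ← map_mul]
        congr 1
        exact Subtype.ext (mem_centralizer_iff.mp hc x hx)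
      · rintro ⟨-, hc⟩
        refine ⟨hy, mem_centralizer_iff.mpr fun x hx => ?_⟩
        have h1 := mem_centralizer_iff.mp hc (ι ⟨x, hT₀S hx⟩) ((hTchar _).mpr ⟨x, hx, rfl⟩)
        rw [← map_mul, ← map_mul] at h1
        exact congrArg Subtype.val (hι h1)
    have hU : preIota ι N ⊔ centralizerIn S (preIota ι N) ≤ S := sup_le hT₀S inf_le_left
    have hUimg : ∀ x (hx : x ∈ preIota ι N ⊔ centralizerIn S (preIota ι N)),
        ∃ u, ∃ hu : u ∈ preIota ι N ⊔ centralizerIn S (preIota ι N), ι ⟨u, hU hu⟩ = h' * ι ⟨x, hU hx⟩ * h'⁻¹ := by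
      have hle : preIota ι N ⊔ centralizerIn S (preIota ι N) ≤
          preIota ι ((((preIota ι N ⊔ centralizerIn S (preIota ι N)).subgroupOf S).map ι).comap
            (MulAut.conj h').toMonoidHom) := by
        refine sup_le (fun t ht => ?_) (fun y hy => ?_)
        · refine (mem_preIota (hT₀S ht)).mpr ?_
          refine ⟨⟨(α ⟨t, ht⟩ : ↥(preIota ι N)), hT₀S (α _).2⟩, mem_subgroupOf.mpr (mem_sup_left (α _).2), ?_⟩
          have h1 := hh'T _ ((hTchar _).mpr ⟨t, ht, rfl⟩)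
          refine (hhe' ⟨t, ht⟩).trans ?_
          exact h1.symm
        · have hyS : y ∈ S := hy.1
          refine (mem_preIota hyS).mpr ?_
          have h1 := hh'C _ ((hC y hyS).mp hy)
          have h2 : h' * ι ⟨y, hyS⟩ * h'⁻¹ ∈ ι.range := hT ▸ h1.1
          obtain ⟨y', hy'⟩ := h2
          refine ⟨y', mem_subgroupOf.mpr (mem_sup_right ((hC y' y'.2).mpr ?_)), hy'⟩
          rw [show (⟨(y' : Ω), y'.2⟩ : ↥S) = y' from rfl, hy']
          exact h1
      intro x hx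
      have h1 := (mem_preIota (hU hx)).mp (hle hx)
      obtain ⟨u, hu, hue⟩ := h1
      exact ⟨u, mem_subgroupOf.mp hu, hue⟩
    have hvalR : ∀ x : ↥(preIota ι N ⊔ centralizerIn S (preIota ι N)), h' * ι ⟨x, hU x.2⟩ * h'⁻¹ ∈ ι.range := by
      intro x
      obtain ⟨u, hu, hue⟩ := hUimg x x.2
      exact ⟨_, hue⟩
    have hf := transportHom_hom hr hU h' hvalR
    have hfv : ∀ x : ↥(preIota ι N ⊔ centralizerIn S (preIota ι N)),
        transportHom hι hU h' hvalR x ∈ preIota ι N ⊔ centralizerIn S (preIota ι N) := by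
      intro x
      obtain ⟨u, hu, hue⟩ := hUimg x x.2
      have h1 := iota_transportHom hι hU h' hvalR x
      rw [hinjv (transportHom_mem hι hU h' hvalR x) (hU hu) (h1.trans hue.symm)]
      exact hu
    haveI : Finite ↥(preIota ι N ⊔ centralizerIn S (preIota ι N)) := finite_of_le hU
    have hfr : (transportHom hι hU h' hvalR).range = preIota ι N ⊔ centralizerIn S (preIota ι N) := by
      have hle : (transportHom hι hU h' hvalR).range ≤ preIota ι N ⊔ centralizerIn S (preIota ι N) := by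
        rintro _ ⟨x, rfl⟩
        exact hfv x
      refine Subgroup.eq_of_le_of_card_ge hle ?_
      exact le_of_eq (Nat.card_congr (MonoidHom.ofInjective (F.injective_of_mem hf)).toEquiv)
    obtain ⟨χ, hχ, hχe⟩ := exists_aut_of_map F hf hfr
    have hχι : ∀ x : ↥(preIota ι N ⊔ centralizerIn S (preIota ι N)),
        ι ⟨(χ x : ↥(preIota ι N ⊔ centralizerIn S (preIota ι N))), hU (χ x).2⟩ = h' * ι ⟨x, hU x.2⟩ * h'⁻¹ := by
      intro x
      exact (congrArg ι (Subtype.ext (hχe x))).trans (iota_transportHom hι hU h' hvalR x)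
    refine ⟨χ, hχ, fun x => ?_, fun c hc => ?_⟩
    · refine hinjv (hU (χ _).2) (hT₀S (α x).2) ?_
      refine (hχι _).trans ?_
      rw [hhe' x]
      exact hh'T _ ((hTchar _).mpr ⟨x, x.2, rfl⟩)
    · have hcS : (c : Ω) ∈ S := hU c.2
      have hcC := (hC c hcS).mp hc
      have h1 := hh'C _ hcC
      have h2 : ι ⟨(χ c : ↥(preIota ι N ⊔ centralizerIn S (preIota ι N))), hU (χ c).2⟩ ∈
          centralizerIn (T : Subgroup G) ((T : Subgroup G) ⊓ N) := by
        rw [hχι]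
        exact h1
      have h3 := (hC _ (hU (χ c).2)).mpr h2
      refine ⟨?_, Subgroup.mul_mem _ (Subgroup.inv_mem _ hc.2) h3.2⟩
      refine (hmem (S.mul_mem (S.inv_mem hcS) (hU (χ c).2))).mpr ?_
      have e : ι ⟨(c : Ω)⁻¹ * (χ c : ↥(preIota ι N ⊔ centralizerIn S (preIota ι N))),
            S.mul_mem (S.inv_mem hcS) (hU (χ c).2)⟩ =
          (ι ⟨c, hcS⟩)⁻¹ * ι ⟨(χ c : ↥(preIota ι N ⊔ centralizerIn S (preIota ι N))), hU (χ c).2⟩ := by
        rw [← map_inv, ← map_mul]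
        rfl
      rw [e, hχι]
      have h4 : (ι ⟨c, hcS⟩)⁻¹ * (h' * ι ⟨c, hcS⟩ * h'⁻¹) =
          ((ι ⟨c, hcS⟩)⁻¹ * h' * ι ⟨c, hcS⟩) * h'⁻¹ := by group
      rw [h4]
      have h5 := hN.conj_mem h' hh'N (ι ⟨c, hcS⟩)⁻¹
      rw [inv_inv] at h5
      exact N.mul_mem h5 (N.inv_mem hh'N)

/-- The quotient by a normal subgroup of order prime to `p` still realizes the system. -/
theorem realized_quotient (hS : IsPGroup p S) (hr : F.IsRealizedBy ι) (T : Sylow p G)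
    (hT : (T : Subgroup G) = ι.range) (K : Subgroup G) [hKn : K.Normal] (hKc : (Nat.card K).Coprime p) :
    ∃ ῑ : ↥S →* G ⧸ K, F.IsRealizedBy ῑ ∧ ∃ T' : Sylow p (G ⧸ K), (T' : Subgroup (G ⧸ K)) = ῑ.range := by
  classical
  obtain ⟨π, hπd⟩ : ∃ π : G →* G ⧸ K, π = QuotientGroup.mk' K := ⟨_, rfl⟩
  have hπs : Function.Surjective π := by
    rw [hπd]
    exact QuotientGroup.mk'_surjective _
  have hπ : ∀ g, π g = 1 → (∃ k : ℕ, g ^ (p ^ k) = 1) → g = 1 := by
    rintro g h1 ⟨k, hk⟩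
    rw [hπd] at h1
    have hg : g ∈ K := (QuotientGroup.eq_one_iff g).mp h1
    have ho : orderOf g ∣ p ^ k := orderOf_dvd_of_pow_eq_one hk
    have ho2 : orderOf g ∣ Nat.card K := Subgroup.orderOf_dvd_natCard _ hg
    have h2 := Nat.Coprime.eq_one_of_dvd (Nat.Coprime.coprime_dvd_left ho2 (hKc.pow_right k)) ho
    exact orderOf_eq_one_iff.mp h2
  have hιp : ∀ x : ↥S, ∃ k : ℕ, (ι x) ^ (p ^ k) = 1 := by
    intro x
    obtain ⟨k, hk⟩ := hS x
    exact ⟨k, by rw [← map_pow, hk, map_one]⟩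
  have hinj : Function.Injective (π.comp ι) := by
    rw [injective_iff_map_eq_one]
    intro x hx
    exact hr.1 ((hπ _ hx (hιp x)).trans (map_one ι).symm)
  refine ⟨π.comp ι, ⟨hinj, fun P hP φ hφ => ?_⟩, ⟨T.mapSurjective hπs, ?_⟩⟩
  · constructor
    · intro hm
      obtain ⟨g, hg⟩ := (hr.2 P hP φ hφ).mp hm
      refine ⟨π g, fun x => ?_⟩
      rw [MonoidHom.comp_apply, MonoidHom.comp_apply, hg x, map_mul, map_mul, map_inv]
    · rintro ⟨g₀, hg₀⟩
      obtain ⟨g, rfl⟩ := hπs g₀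
      refine (hr.2 P hP φ hφ).mpr ?_
      have hSp : IsPGroup p (⊤ : Subgroup ↥S) := hS.to_subgroup _
      obtain ⟨B, hBd⟩ : ∃ B : Subgroup G, B = (⊤ : Subgroup ↥S).map ι := ⟨_, rfl⟩
      obtain ⟨A, hAd⟩ : ∃ A : Subgroup G, A = ((P.subgroupOf S).map ι).map (MulAut.conj g).toMonoidHom := ⟨_, rfl⟩
      have hBp : IsPGroup p B := hBd ▸ hSp.map ι
      have hAp : IsPGroup p A := hAd ▸ ((hS.to_subgroup _).map ι).map _
      have hAB : ∀ a ∈ A, ∃ b ∈ B, π a = π b := by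
        rw [hAd]
        rintro _ ⟨_, ⟨x, hx, rfl⟩, rfl⟩
        have hx' : (x : Ω) ∈ P := mem_subgroupOf.mp hx
        refine ⟨ι ⟨φ ⟨x, hx'⟩, hφ _⟩, by rw [hBd]; exact ⟨_, mem_top _, rfl⟩, ?_⟩
        have h1 := hg₀ ⟨x, hx'⟩
        rw [MonoidHom.comp_apply, MonoidHom.comp_apply] at h1
        rw [h1]
        show π (g * ι x * g⁻¹) = _
        rw [map_mul, map_mul, map_inv]
      obtain ⟨k, hk1, hk2⟩ := exists_conj_adjust π hπ hBp hAp hAB
      refine ⟨k * g, fun x => ?_⟩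
      have hxS : (x : Ω) ∈ S := hP x.2
      have ha : g * ι ⟨x, hxS⟩ * g⁻¹ ∈ A := by
        rw [hAd]
        exact ⟨ι ⟨x, hxS⟩, ⟨⟨x, hxS⟩, mem_subgroupOf.mpr x.2, rfl⟩, rfl⟩
      have hb := hk2 _ ha
      rw [hBd] at hb
      obtain ⟨y, -, hy⟩ := hb
      have h1 := hg₀ x
      have h2 : π (ι y) = π (ι ⟨φ x, hφ x⟩) := by
        rw [hy, map_mul, map_mul, hk1, map_inv, hk1]
        rw [MonoidHom.comp_apply, MonoidHom.comp_apply] at h1
        rw [h1, map_mul, map_mul, map_inv]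
        simp
      have h3 : y = ⟨φ x, hφ x⟩ := hinj h2
      rw [← h3, hy]
      group
  · show (T : Subgroup G).map π = _
    rw [hT]
    exact MonoidHom.map_range _ _

/-- **S5343**. -/
theorem exists_simple_realization (hS : IsPGroup p S) (hsimple : F.IsSimple p) (hreal : F.IsRealizable p) :
    ∃ (G : Type u) (_ : Group G) (_ : Finite G) (_ : IsSimpleGroup G) (ι : ↥S →* G),
      F.IsRealizedBy ι ∧ ∃ T : Sylow p G, (T : Subgroup G) = ι.range := by
  classical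
  let Q : ℕ → Prop := fun n => ∃ (G : Type u) (_ : Group G) (_ : Finite G) (ι : ↥S →* G),
    F.IsRealizedBy ι ∧ (∃ T : Sylow p G, (T : Subgroup G) = ι.range) ∧ Nat.card G = n
  have hQ : ∃ n, Q n := by
    obtain ⟨G, i1, i2, ι, hr, hT⟩ := hreal
    exact ⟨_, G, i1, i2, ι, hr, hT, rfl⟩
  obtain ⟨G, i1, i2, ι, hr, ⟨T, hT⟩, hc⟩ := Nat.find_spec hQ
  have hmin : ∀ (G' : Type u) [Group G'] [Finite G'] (ι' : ↥S →* G'), F.IsRealizedBy ι' →
      (∃ T' : Sylow p G', (T' : Subgroup G') = ι'.range) → Nat.card G ≤ Nat.card G' := by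
    intro G' _ _ ι' h1 h2
    rw [hc]
    exact Nat.find_min' hQ ⟨G', inferInstance, inferInstance, ι', h1, h2, rfl⟩
  obtain ⟨-, hne, hs⟩ := hsimple
  refine ⟨G, i1, i2, ?_, ι, hr, T, hT⟩
  have hnt : Nontrivial G := by
    by_contra hcon
    rw [not_nontrivial_iff_subsingleton] at hcon
    apply hne
    rw [eq_bot_iff]
    intro x hx
    have h1 : (⟨x, hx⟩ : ↥S) = 1 := hr.1 (Subsingleton.elim _ _)
    exact congrArg Subtype.val h1
  refine ⟨fun N hN => ?_⟩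
  by_cases hbot : N = ⊥
  · exact Or.inl hbot
  refine Or.inr ?_
  have hcG : 1 < Nat.card N := by
    have : Nontrivial N := (Subgroup.nontrivial_iff_ne_bot N).mpr hbot
    exact Finite.one_lt_card
  rcases hs _ _ (traceSys_isNormalIn hr T hT N) with h | ⟨h, h2⟩
  · exfalso
    have hcp : (Nat.card N).Coprime p := by
      obtain ⟨R, hR⟩ := sylow_inf_normal T N
      have h1 : (T : Subgroup G) ⊓ N = ⊥ := by
        rw [eq_bot_iff]
        rintro y ⟨hy1, hy2⟩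
        rw [hT] at hy1
        obtain ⟨x, rfl⟩ := hy1
        have h3 : (x : Ω) ∈ preIota ι N := (mem_preIota x.2).mpr hy2
        rw [h] at h3
        have h4 : x = 1 := Subtype.ext ((Subgroup.mem_bot).mp h3)
        rw [h4, map_one]
        exact Subgroup.one_mem _
      have h2 : (R : Subgroup N) = ⊥ := by
        rw [hR, h1]
        simp
      have h3 := R.not_dvd_index
      rw [h2, Subgroup.index_bot] at h3
      exact ((Nat.Prime.coprime_iff_not_dvd Fact.out).mpr h3).symm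
    obtain ⟨ῑ, h3, h4⟩ := realized_quotient hS hr T hT N hcp
    have h5 := hmin _ ῑ h3 h4
    have h6 : Nat.card G = Nat.card (G ⧸ N) * Nat.card N := Subgroup.card_eq_card_quotient_mul_card_subgroup N
    have h7 : 0 < Nat.card (G ⧸ N) := Nat.card_pos
    nlinarith
  · by_contra hNt
    have hrN : ι.range ≤ N := by
      rintro _ ⟨x, rfl⟩
      have h3 : (x : Ω) ∈ preIota ι N := by
        rw [h]
        exact x.2
      exact (mem_preIota x.2).mp h3
    have hTN : (T : Subgroup G) ≤ N := hT ▸ hrN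
    obtain ⟨ι', hι'⟩ : ∃ ι' : ↥S →* ↥N, ∀ s, ((ι' s : ↥N) : G) = ι s :=
      ⟨ι.codRestrict N (fun s => hrN ⟨s, rfl⟩), fun _ => rfl⟩
    have hι'i : Function.Injective ι' := by
      intro a b hab
      apply hr.1
      rw [← hι', ← hι', hab]
    have hreal' : F.IsRealizedBy ι' := by
      refine ⟨hι'i, fun P hP φ hφ => ⟨fun hm => ?_, ?_⟩⟩
      · rw [← h2 P] at hm
        obtain ⟨hP', hv, m, hm', he⟩ := mem_traceSys.mp hm
        refine ⟨⟨m, hm'⟩, fun x => Subtype.ext ?_⟩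
        rw [hι']
        refine (he x).trans ?_
        show _ = m * ((ι' ⟨x, hP x.2⟩ : ↥N) : G) * m⁻¹
        rw [hι']
      · rintro ⟨⟨m, hm⟩, he⟩
        refine (hr.2 P hP φ hφ).mpr ⟨m, fun x => ?_⟩
        have h3 := congrArg (fun z : ↥N => (z : G)) (he x)
        simp only [hι'] at h3
        refine h3.trans ?_
        show m * ((ι' ⟨x, hP x.2⟩ : ↥N) : G) * m⁻¹ = _
        rw [hι']
    have hsyl : ∃ T' : Sylow p ↥N, (T' : Subgroup ↥N) = ι'.range := by
      refine ⟨T.subtype hTN, ?_⟩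
      rw [Sylow.coe_subtype]
      apply le_antisymm
      · intro y hy
        have h3 := mem_subgroupOf.mp hy
        rw [hT] at h3
        obtain ⟨x, hx⟩ := h3
        exact ⟨x, Subtype.ext ((hι' x).trans hx)⟩
      · rintro _ ⟨x, rfl⟩
        refine mem_subgroupOf.mpr ?_
        rw [hι', hT]
        exact ⟨x, rfl⟩
    have h5 := hmin _ ι' hreal' hsyl
    exact hNt (Subgroup.eq_top_of_card_eq N (le_antisymm (Subgroup.card_le_card_group N) h5))

end CfsgLib.SimpG
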