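import Cfsg.Agent.Lib.MX.Omit
import Cfsg.Agent.Lib.PLocal.Core

/-! Stability groups of strongly closed subgroups; centric subgroups meeting a normal subsystem. -/

set_option autoImplicit false
set_option linter.unusedSectionVars false
set_option linter.unusedVariables false

open Subgroup Cfsg Cfsg.FusionSystem CfsgLib.Fusion

namespace CfsgLib.MX

section

variable {Ω : Type*} [Group Ω] {S : Subgroup Ω} [Finite S] {p : ℕ} [Fact p.Prime] {F : FusionSystem S} {T : Subgroup Ω}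

theorem sc_conj (hT : F.StronglyClosed T) {t s : Ω} (ht : t ∈ T) (hs : s ∈ S) : s * t * s⁻¹ ∈ T :=
  hT.2 (zpowers t) ((zpowers_le).mpr ht) (conjHom _ s) (F.conj_mem ((zpowers_le).mpr (hT.1 ht)) hs) ⟨t, mem_zpowers t⟩

theorem sc_val (hT : F.StronglyClosed T) {R : Subgroup Ω} {φ : ↥R →* Ω} (hφ : φ ∈ F.Hom R) (x : ↥R) (hx : (x : Ω) ∈ T) :
    φ x ∈ T := by
  have hle : zpowers (x : Ω) ≤ R := (zpowers_le).mpr x.2
  exact hT.2 _ ((zpowers_le).mpr hx) _ (restrict_mem F hφ hle) ⟨x, mem_zpowers _⟩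

theorem sc_val_iff (hT : F.StronglyClosed T) {R : Subgroup Ω} {φ : ↥R →* Ω} (hφ : φ ∈ F.Hom R) (x : ↥R) :
    φ x ∈ T ↔ (x : Ω) ∈ T := by
  refine ⟨fun h => ?_, sc_val hT hφ x⟩
  obtain ⟨ψ, hψ, he⟩ := F.inv_mem hφ
  have h1 := sc_val hT hψ ⟨φ x, ⟨x, rfl⟩⟩ h
  rwa [he] at h1

/-- The stability group of a strongly closed subgroup lies in the largest normal `p`-subgroup. -/
theorem stab_mem_pCore (hS : IsPGroup p S) (hT : F.StronglyClosed T) {R : Subgroup Ω} (hRS : R ≤ S) {β : MulAut R}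
    (hβ : β ∈ F.autGroup R) (h1 : ∀ q : ↥R, (q : Ω) ∈ T → ((β q : ↥R) : Ω) = q)
    (h2 : ∀ y : ↥R, ((β y : ↥R) : Ω) * (y : Ω)⁻¹ ∈ T) :
    β ∈ (pCore p ↥(F.autGroup R)).map (F.autGroup R).subtype := by
  have hRfin : Finite R := finite_of_le hRS
  have hAm : ∀ γ : ↥(F.autGroup R), R.subtype.comp (γ : MulAut R).toMonoidHom ∈ F.Hom R := fun γ =>
    (mem_autGroup_iff F hRS).mp γ.2
  have hAT : ∀ (γ : ↥(F.autGroup R)) (y : ↥R), (((γ : MulAut R) y : ↥R) : Ω) ∈ T ↔ (y : Ω) ∈ T := fun γ y =>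
    sc_val_iff hT (hAm γ) y
  let Stab : Subgroup ↥(F.autGroup R) :=
    { carrier := {γ | (∀ q : ↥R, (q : Ω) ∈ T → (((γ : MulAut R) q : ↥R) : Ω) = q) ∧
        ∀ y : ↥R, (((γ : MulAut R) y : ↥R) : Ω) * (y : Ω)⁻¹ ∈ T}
      mul_mem' := by
        rintro a b ⟨ha1, ha2⟩ ⟨hb1, hb2⟩
        refine ⟨fun q hq => ?_, fun y => ?_⟩
        · have e : (b : MulAut R) q = q := Subtype.ext (hb1 q hq)
          show (((a : MulAut R) ((b : MulAut R) q) : ↥R) : Ω) = q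
          rw [e]
          exact ha1 q hq
        · show (((a : MulAut R) ((b : MulAut R) y) : ↥R) : Ω) * (y : Ω)⁻¹ ∈ T
          have e1 := ha2 ((b : MulAut R) y)
          have e2 := hb2 y
          have e3 := T.mul_mem e1 e2
          have e4 : (((a : MulAut R) ((b : MulAut R) y) : ↥R) : Ω) * (((b : MulAut R) y : ↥R) : Ω)⁻¹ *
              ((((b : MulAut R) y : ↥R) : Ω) * (y : Ω)⁻¹) = (((a : MulAut R) ((b : MulAut R) y) : ↥R) : Ω) * (y : Ω)⁻¹ := by group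
          rwa [e4] at e3
      one_mem' := by
        refine ⟨fun q hq => rfl, fun y => ?_⟩
        show (y : Ω) * (y : Ω)⁻¹ ∈ T
        rw [mul_inv_cancel]
        exact one_mem _
      inv_mem' := by
        rintro a ⟨ha1, ha2⟩
        refine ⟨fun q hq => ?_, fun y => ?_⟩
        · have e : (a : MulAut R) q = q := Subtype.ext (ha1 q hq)
          have e2 : (a⁻¹ : MulAut R) ((a : MulAut R) q) = q := by simp
          show (((a⁻¹ : MulAut R) q : ↥R) : Ω) = q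
          rw [e] at e2
          rw [e2]
        · show ((((a : MulAut R)⁻¹ y : ↥R)) : Ω) * (y : Ω)⁻¹ ∈ T
          have e1 := ha2 ((a : MulAut R)⁻¹ y)
          have e2 : (a : MulAut R) ((a : MulAut R)⁻¹ y) = y := by simp
          rw [e2] at e1
          have e3 := T.inv_mem e1
          have e4 : ((y : Ω) * (((a : MulAut R)⁻¹ y : ↥R) : Ω)⁻¹)⁻¹ = (((a : MulAut R)⁻¹ y : ↥R) : Ω) * (y : Ω)⁻¹ := by group
          rwa [e4] at e3 }
  have hStabn : Stab.Normal := by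
    constructor
    rintro a ⟨ha1, ha2⟩ g
    refine ⟨fun q hq => ?_, fun y => ?_⟩
    · have hq' : (((g : MulAut R)⁻¹ q : ↥R) : Ω) ∈ T := (hAT g⁻¹ q).mpr hq
      have e : (a : MulAut R) ((g : MulAut R)⁻¹ q) = (g : MulAut R)⁻¹ q := Subtype.ext (ha1 _ hq')
      show (((g : MulAut R) ((a : MulAut R) ((g : MulAut R)⁻¹ q)) : ↥R) : Ω) = q
      rw [e]
      simp
    · show (((g : MulAut R) ((a : MulAut R) ((g : MulAut R)⁻¹ y)) : ↥R) : Ω) * (y : Ω)⁻¹ ∈ T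
      obtain ⟨z, hz⟩ : ∃ z : ↥R, z = (g : MulAut R)⁻¹ y := ⟨_, rfl⟩
      have hy : y = (g : MulAut R) z := by rw [hz]; simp
      rw [← hz, hy]
      have e1 := ha2 z
      have e2 : ((((a : MulAut R) z : ↥R) * z⁻¹ : ↥R) : Ω) ∈ T := e1
      have e3 := (hAT g _).mpr e2
      rw [map_mul, map_inv] at e3
      exact e3
  have hStabp : IsPGroup p ↥Stab := by
    obtain ⟨n, hn⟩ := IsPGroup.iff_card.mp hS
    rintro ⟨a, ha1, ha2⟩
    refine ⟨n, Subtype.ext (Subtype.ext ?_)⟩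
    ext y
    have hpow : ∀ k : ℕ, ((((a : MulAut R) ^ k) y : ↥R) : Ω) = (((a : MulAut R) y : ↥R) * y⁻¹ : ↥R) ^ k * (y : Ω) := by
      intro k
      induction k with
      | zero => simp
      | succ k ih =>
        have e1 : ((((a : MulAut R) y : ↥R) * y⁻¹ : ↥R) : Ω) ∈ T := ha2 y
        have e2 := Subtype.ext (ha1 _ e1)
        have e3 : (a : MulAut R) (((a : MulAut R) ^ k) y) = ((a : MulAut R) ^ (k + 1)) y := by
          rw [pow_succ']
          rfl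
        rw [← e3]
        have e4 : ((a : MulAut R) ^ k) y = (((a : MulAut R) y) * y⁻¹) ^ k * y := Subtype.ext (by
          rw [ih]
          rfl)
        rw [e4, map_mul, map_pow, e2]
        show (((((a : MulAut R) y) * y⁻¹) ^ k : ↥R) : Ω) * (((a : MulAut R) y : ↥R) : Ω) = _
        have e5 : (((a : MulAut R) y : ↥R) : Ω) = (((a : MulAut R) y) * y⁻¹ : ↥R) * (y : Ω) := by
          push_cast
          group
        rw [e5, pow_succ]
        push_cast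
        group
    have hf : ((((a : MulAut R) y : ↥R) * y⁻¹ : ↥R) : Ω) ^ (p ^ n) = 1 := by
      have h3 : ((⟨_, hRS (((a : MulAut R) y : ↥R) * y⁻¹ : ↥R).2⟩ : ↥S)) ^ (Nat.card S) = 1 := pow_card_eq_one'
      rw [hn] at h3
      exact congrArg (fun w : ↥S => (w : Ω)) h3
    have h4 := hpow (p ^ n)
    rw [hf, one_mul] at h4
    exact h4
  have hle := CfsgLib.PLocal.le_pCore_of_normal Stab hStabn hStabp
  exact ⟨⟨β, hβ⟩, hle ⟨h1, h2⟩, rfl⟩

/-- A non-centric intersection stays non-centric at the fully normalized conjugates. -/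
theorem centralizer_not_le (hS : IsPGroup p S) (hT : F.StronglyClosed T) {Q' Q₂ : Subgroup Ω} (hfa : F.IsFullyAutomized p Q₂)
    (hrec : F.IsReceptive Q₂) (hc : F.IsConj Q' Q₂) (hn : ¬ centralizerIn T Q' ≤ Q') : ¬ centralizerIn T Q₂ ≤ Q₂ := by
  obtain ⟨τ, hτ, hτv, hτr⟩ := exists_map_normalizer hS F Q₂ Q' hfa hrec hc
  intro hle
  apply hn
  rintro y ⟨hyT, hyC⟩
  have hQ'S : Q' ≤ S := source_le F (Exists.choose_spec hc).1
  have hyN : y ∈ normalizerIn S Q' := ⟨hT.1 hyT, Subgroup.centralizer_le_normalizer _ hyC⟩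
  have hQN : Q' ≤ normalizerIn S Q' := le_inf hQ'S Subgroup.le_normalizer
  have h1 : τ ⟨y, hyN⟩ ∈ T := sc_val hT hτ _ hyT
  have h2 : τ ⟨y, hyN⟩ ∈ centralizer (Q₂ : Set Ω) := by
    refine mem_centralizer_iff.mpr fun h hh => ?_
    rw [← hτr] at hh
    obtain ⟨q, hq, rfl⟩ := hh
    have hq' : (q : Ω) ∈ Q' := mem_subgroupOf.mp hq
    have e : q * ⟨y, hyN⟩ = ⟨y, hyN⟩ * q := Subtype.ext (mem_centralizer_iff.mp hyC _ hq')
    rw [← map_mul, ← map_mul, e]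
  have h3 := hle ⟨h1, h2⟩
  rw [← hτr] at h3
  obtain ⟨q, hq, he⟩ := h3
  have h4 : q = ⟨y, hyN⟩ := F.injective_of_mem hτ he
  rw [h4] at hq
  exact mem_subgroupOf.mp hq

/-- The statement on centric subgroups meeting a normal subsystem non-centrically. -/
theorem centric_meet_not_radical (hS : IsPGroup p S) (hF : F.IsSaturated p) (E : FusionSystem T) (hEsub : E.IsSubsystemOf F)
    (hTsc : F.StronglyClosed T) (P : Subgroup Ω) (hP : F.IsCentric P) (hPT : ¬ E.IsCentric (P ⊓ T)) :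
    (∃ φ ∈ F.Hom P, ∃ x ∈ S ⊓ normalizer (φ.range : Set Ω), x ∉ φ.range ∧
      ∃ α ∈ ((pCore p ↥(F.autGroup φ.range)).map (F.autGroup φ.range).subtype : Subgroup (MulAut ↥φ.range)),
        ∀ y : ↥φ.range, ((α y : ↥φ.range) : Ω) = x * (y : Ω) * x⁻¹) ∧ ¬ F.IsRadical p P := by
  have hPS : P ≤ S := hP.1
  have hnot : ∃ Q', E.IsConj (P ⊓ T) Q' ∧ ¬ centralizerIn T Q' ≤ Q' := by
    by_contra h
    push Not at h
    exact hPT ⟨inf_le_right, h⟩
  obtain ⟨Q', ⟨ψ₀, hψ₀, hψ₀r⟩, hQ'n⟩ := hnot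
  have hcF : F.IsConj (P ⊓ T) Q' := ⟨ψ₀, hEsub _ hψ₀, hψ₀r⟩
  obtain ⟨Q₂, hc₂, hn₂⟩ := exists_fullyNormalized_conj F (inf_le_left.trans hPS)
  have hfa := fullyAutomized_of_fullyNormalized hS F hF hn₂
  have hrec := receptive_of_fullyCentralized hS F hF (fullyCentralized_of_fullyNormalized hS F hF hn₂)
  have hA := centralizer_not_le hS hTsc hfa hrec (isConj_trans F (isConj_symm F hcF) hc₂) hQ'n
  obtain ⟨τ₁, hτ₁, hτ₁v, hτ₁r⟩ := exists_map_normalizer hS F Q₂ (P ⊓ T) hfa hrec hc₂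
  have hPN : P ≤ normalizerIn S (P ⊓ T) := by
    intro x hx
    refine ⟨hPS hx, mem_normalizer_iff.mpr fun y => ⟨fun hy => ?_, fun hy => ?_⟩⟩
    · exact ⟨P.mul_mem (P.mul_mem hx hy.1) (P.inv_mem hx), sc_conj hTsc hy.2 (hPS hx)⟩
    · have e : y = x⁻¹ * (x * y * x⁻¹) * x⁻¹⁻¹ := by group
      rw [e]
      exact ⟨P.mul_mem (P.mul_mem (P.inv_mem hx) hy.1) (P.inv_mem (P.inv_mem hx)), sc_conj hTsc hy.2 (S.inv_mem (hPS hx))⟩
  have hφ := restrict_mem F hτ₁ hPN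
  obtain ⟨φ, hφd⟩ : ∃ φ : ↥P →* Ω, φ = τ₁.comp (Subgroup.inclusion hPN) := ⟨_, rfl⟩
  rw [← hφd] at hφ
  have hval : ∀ x : ↥P, φ x ∈ T ↔ (x : Ω) ∈ T := fun x => sc_val_iff hTsc hφ x
  have hPsS : φ.range ≤ S := range_le F hφ
  have hPsN : φ.range ≤ normalizerIn S Q₂ := by
    rintro _ ⟨x, rfl⟩
    rw [hφd]
    exact hτ₁v _
  have hQ₂eq : φ.range ⊓ T = Q₂ := by
    apply le_antisymm
    · rintro _ ⟨⟨x, rfl⟩, hxT⟩
      have h1 := (hval x).mp hxT
      rw [← hτ₁r]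
      refine ⟨Subgroup.inclusion hPN x, mem_subgroupOf.mpr ⟨x.2, h1⟩, ?_⟩
      rw [hφd]
      rfl
    · intro y hy
      rw [← hτ₁r] at hy
      obtain ⟨w, hw, rfl⟩ := hy
      have hw' := mem_subgroupOf.mp hw
      have e : τ₁ w = φ ⟨w, hw'.1⟩ := by rw [hφd]; rfl
      rw [e]
      exact ⟨⟨_, rfl⟩, (hval _).mpr hw'.2⟩
  have hQ₂T : Q₂ ≤ T := hQ₂eq ▸ inf_le_right
  have hX : ¬ centralizerIn T Q₂ ≤ φ.range := by
    intro hle
    exact hA fun y hy => by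
      rw [← hQ₂eq]
      exact ⟨hle hy, hy.1⟩
  have hnorm : φ.range ≤ normalizer (centralizerIn T Q₂ : Set Ω) := by
    intro a ha
    have haN := hPsN ha
    have haS := haN.1
    have haN2 := haN.2
    refine mem_normalizer_iff.mpr fun y => ⟨fun hy => ?_, fun hy => ?_⟩
    · refine ⟨sc_conj hTsc hy.1 haS, mem_centralizer_iff.mpr fun q hq => ?_⟩
      have h1 : a⁻¹ * q * a⁻¹⁻¹ ∈ Q₂ := (mem_normalizer_iff.mp (inv_mem haN2) _).mp hq
      have h2 := mem_centralizer_iff.mp hy.2 _ h1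
      have e : q = a * (a⁻¹ * q * a⁻¹⁻¹) * a⁻¹ := by group
      calc q * (a * y * a⁻¹) = a * ((a⁻¹ * q * a⁻¹⁻¹) * y) * a⁻¹ := by group
        _ = a * (y * (a⁻¹ * q * a⁻¹⁻¹)) * a⁻¹ := by rw [h2]
        _ = a * y * a⁻¹ * q := by group
    · have e : y = a⁻¹ * (a * y * a⁻¹) * a⁻¹⁻¹ := by group
      refine ⟨by rw [e]; exact sc_conj hTsc hy.1 (inv_mem haS), mem_centralizer_iff.mpr fun q hq => ?_⟩
      have h1 : a * q * a⁻¹ ∈ Q₂ := (mem_normalizer_iff.mp haN2 _).mp hq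
      have h2 := mem_centralizer_iff.mp hy.2 _ h1
      have h3 : a * (q * y) * a⁻¹ = a * (y * q) * a⁻¹ := by
        calc a * (q * y) * a⁻¹ = (a * q * a⁻¹) * (a * y * a⁻¹) := by group
          _ = (a * y * a⁻¹) * (a * q * a⁻¹) := h2
          _ = a * (y * q) * a⁻¹ := by group
      exact mul_left_cancel (mul_right_cancel h3)
  have hXS : centralizerIn T Q₂ ≤ S := inf_le_left.trans hTsc.1
  have hWS : φ.range ⊔ centralizerIn T Q₂ ≤ S := sup_le hPsS hXS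
  have hWfin : Finite ↥(φ.range ⊔ centralizerIn T Q₂) := finite_of_le hWS
  have hlt : φ.range < φ.range ⊔ centralizerIn T Q₂ :=
    lt_of_le_of_ne le_sup_left fun e => hX (by rw [e]; exact le_sup_right)
  obtain ⟨g, ⟨hgW, hgN⟩, hgn⟩ := exists_normalizer_gt (hS.to_le hWS) hlt
  have hgW' : g ∈ ((φ.range ⊔ centralizerIn T Q₂ : Subgroup Ω) : Set Ω) := hgW
  rw [Subgroup.coe_mul_of_left_le_normalizer_right _ _ hnorm] at hgW'
  obtain ⟨a, ha, c, hc, rfl⟩ := hgW'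
  have ha' : a ∈ φ.range := ha
  have hc' : c ∈ centralizerIn T Q₂ := hc
  have hcN : c ∈ normalizer (φ.range : Set Ω) := by
    have h1 : a⁻¹ * (a * c) ∈ normalizer (φ.range : Set Ω) := Subgroup.mul_mem _ (Subgroup.inv_mem _ (Subgroup.le_normalizer ha')) hgN
    have e : a⁻¹ * (a * c) = c := by group
    rwa [e] at h1
  have hcn : c ∉ φ.range := fun h => hgn (mul_mem ha' h)
  have hcS : c ∈ S := hXS hc'
  have hconj : φ.range.subtype.comp (conjAut hcN).toMonoidHom = conjHom φ.range c := MonoidHom.ext fun _ => rfl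
  have hαA : conjAut hcN ∈ F.autGroup φ.range := by
    rw [mem_autGroup_iff F hPsS, hconj]
    exact F.conj_mem hPsS hcS
  have hs1 : ∀ q : ↥φ.range, (q : Ω) ∈ T → c * (q : Ω) * c⁻¹ = q := by
    intro q hqT
    have h1 : (q : Ω) ∈ Q₂ := by
      rw [← hQ₂eq]
      exact ⟨q.2, hqT⟩
    have h2 := mem_centralizer_iff.mp hc'.2 _ h1
    rw [← h2]
    group
  have hs2 : ∀ y : Ω, y ∈ S → c * y * c⁻¹ * y⁻¹ ∈ T := by
    intro y hy
    have h1 := sc_conj hTsc (T.inv_mem hc'.1) hy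
    have h2 := T.mul_mem hc'.1 h1
    have e : c * (y * c⁻¹ * y⁻¹) = c * y * c⁻¹ * y⁻¹ := by group
    rwa [e] at h2
  have hmem := stab_mem_pCore hS hTsc hPsS hαA hs1 (fun y => hs2 y (hPsS y.2))
  refine ⟨⟨φ, hφ, c, ⟨hcS, hcN⟩, hcn, conjAut hcN, hmem, fun y => rfl⟩, fun hr => ?_⟩
  -- the transport to `P`
  have hPfin : Finite P := finite_of_le hPS
  obtain ⟨ψ, hψ, hψe⟩ := F.inv_mem hφ
  have hψr : ψ.range = P := by
    apply le_antisymm
    · rintro _ ⟨⟨_, x, rfl⟩, rfl⟩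
      rw [hψe]
      exact x.2
    · intro x hx
      exact ⟨_, hψe ⟨x, hx⟩⟩
  have hb := F.conj_mem hPsS hcS
  have hbr : (conjHom φ.range c).range = φ.range := by
    apply le_antisymm
    · rintro _ ⟨x, rfl⟩
      exact (mem_normalizer_iff.mp hcN _).mp x.2
    · intro x hx
      have h1 : c⁻¹ * x * c⁻¹⁻¹ ∈ φ.range := (mem_normalizer_iff.mp (inv_mem hcN) _).mp hx
      refine ⟨⟨_, h1⟩, ?_⟩
      show c * (c⁻¹ * x * c⁻¹⁻¹) * c⁻¹ = x
      group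
  have hbl : (conjHom φ.range c).range ≤ φ.range := hbr.le
  have ha₁ := restrict_mem F hψ hbl
  have hr₁ : (ψ.comp (Subgroup.inclusion hbl)).range = P := by
    refine Eq.trans ?_ hψr
    apply le_antisymm
    · rintro _ ⟨x, rfl⟩
      exact ⟨_, rfl⟩
    · rintro _ ⟨x, rfl⟩
      have hx : (x : Ω) ∈ (conjHom φ.range c).range := by rw [hbr]; exact x.2
      exact ⟨⟨x, hx⟩, rfl⟩
  obtain ⟨β, hβA, hβ⟩ := exists_triple hb hψ hψr ha₁ hr₁
  -- the formula for `β`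
  have hφψ : ∀ w : ↥φ.range, φ ⟨ψ w, hψr.le ⟨w, rfl⟩⟩ = w := by
    rintro ⟨_, x, rfl⟩
    congr 1
    exact Subtype.ext (hψe x)
  have hβv : ∀ y : ↥P, φ (β y) = c * φ y * c⁻¹ := by
    intro y
    have h1 := hβ ⟨φ y, ⟨y, rfl⟩⟩ y (hψe y).symm
    have h2 : β y = ⟨(ψ.comp (Subgroup.inclusion hbl)) ⟨(conjHom φ.range c) ⟨φ y, ⟨y, rfl⟩⟩, ⟨_, rfl⟩⟩, by
        rw [← h1]; exact (β y).2⟩ := Subtype.ext h1
    rw [h2]
    have h3 := hφψ ⟨c * φ y * c⁻¹, (mem_normalizer_iff.mp hcN _).mp ⟨y, rfl⟩⟩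
    exact h3
  have hβcore := stab_mem_pCore hS hTsc hPS hβA
    (fun q hq => by
      have h1 := hβv q
      have h2 : (⟨φ q, ⟨q, rfl⟩⟩ : ↥φ.range) = ⟨φ q, ⟨q, rfl⟩⟩ := rfl
      have h3 := hs1 ⟨φ q, ⟨q, rfl⟩⟩ ((hval q).mpr hq)
      have h4 : φ (β q) = φ q := h1.trans h3
      exact congrArg Subtype.val (F.injective_of_mem hφ h4))
    (fun y => by
      have h1 := hβv y
      have h2 := hs2 (φ y) (hPsS ⟨y, rfl⟩)
      have e : φ ((β y) * y⁻¹) = c * φ y * c⁻¹ * (φ y)⁻¹ := by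
        rw [map_mul, map_inv, h1]
      rw [← e] at h2
      exact (hval _).mp h2)
  rw [hr.2] at hβcore
  obtain ⟨u, hu⟩ := hβcore
  have hu' : ∀ y : ↥P, β y = u * y * u⁻¹ := fun y => by rw [← hu]; rfl
  have hcomm : (φ u)⁻¹ * c ∈ centralizerIn S φ.range := by
    refine ⟨mul_mem (S.inv_mem (hPsS ⟨u, rfl⟩)) hcS, mem_centralizer_iff.mpr ?_⟩
    rintro _ ⟨y, rfl⟩
    have h1 := hβv y
    rw [hu' y, map_mul, map_mul, map_inv] at h1
    have h2 : c * φ y = φ u * φ y * (φ u)⁻¹ * c := by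
      rw [h1]
      group
    calc φ y * ((φ u)⁻¹ * c) = (φ u)⁻¹ * (φ u * φ y * (φ u)⁻¹ * c) := by group
      _ = (φ u)⁻¹ * (c * φ y) := by rw [h2]
      _ = (φ u)⁻¹ * c * φ y := by group
  have hin := hP.2 φ.range ⟨φ, hφ, rfl⟩ hcomm
  apply hcn
  have e : c = φ u * ((φ u)⁻¹ * c) := by group
  rw [e]
  exact mul_mem ⟨u, rfl⟩ hin

end

end CfsgLib.MX
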